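import Mathlib

/-!
# Linear algebra of idempotents and integrality of traces (helper22)

* `idem_trace_zero`: a complex idempotent matrix of trace `0` vanishes.
* `idem_trace_one_corner`: for an idempotent `E` of trace `1`, `E X E = tr(X E) E`.
* `isIntegral_trace_of_aeval_eq_zero`: a complex matrix killed by a monic integer polynomial has
  algebraic-integer trace.
-/

set_option autoImplicit false

namespace Cfsg.Agent.Helper22

open Matrix

universe u

section

variable {I : Type u} [Fintype I] [DecidableEq I]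

theorem trace_toLin'_gen (A : Matrix I I ℂ) :
    LinearMap.trace ℂ (I → ℂ) (Matrix.toLin' A) = A.trace := by
  rw [LinearMap.trace_eq_matrix_trace ℂ (Pi.basisFun ℂ I), LinearMap.toMatrix_eq_toMatrix',
    LinearMap.toMatrix'_toLin']

theorem isIdempotentElem_toLin' (E : Matrix I I ℂ) (hE : E * E = E) :
    IsIdempotentElem (Matrix.toLin' E) := by
  show Matrix.toLin' E * Matrix.toLin' E = Matrix.toLin' E
  rw [Module.End.mul_eq_comp, ← Matrix.toLin'_mul, hE]

theorem idem_trace_zero (E : Matrix I I ℂ) (hE : E * E = E) (ht : E.trace = 0) : E = 0 := by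
  have he := isIdempotentElem_toLin' E hE
  have h := (LinearMap.IsIdempotentElem.trace_eq_zero_iff he).mp (by rw [trace_toLin'_gen, ht])
  exact Matrix.toLin'.injective (by rw [h, map_zero])

theorem idem_trace_one_corner (E : Matrix I I ℂ) (hE : E * E = E) (ht : E.trace = 1)
    (X : Matrix I I ℂ) : E * X * E = (X * E).trace • E := by
  have he := isIdempotentElem_toLin' E hE
  have hproj := LinearMap.IsIdempotentElem.isProj_range _ he
  have htr := hproj.trace
  rw [trace_toLin'_gen, ht] at htr
  have hfr : Module.finrank ℂ (LinearMap.range (Matrix.toLin' E)) = 1 := by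
    exact_mod_cast htr.symm
  obtain ⟨u, hu0, hu⟩ := finrank_eq_one_iff'.mp hfr
  obtain ⟨lam, hlam⟩ := hu ⟨Matrix.toLin' E (X *ᵥ (u : I → ℂ)), LinearMap.mem_range_self _ _⟩
  have hlam' : E *ᵥ (X *ᵥ (u : I → ℂ)) = lam • (u : I → ℂ) := by
    have := congrArg Subtype.val hlam
    simp only [Submodule.coe_smul, Matrix.toLin'_apply] at this
    exact this.symm
  have hmain : E * X * E = lam • E := by
    apply Matrix.toLin'.injective
    apply LinearMap.ext
    intro x
    obtain ⟨c, hc⟩ := hu ⟨Matrix.toLin' E x, LinearMap.mem_range_self _ _⟩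
    have hc' : E *ᵥ x = c • (u : I → ℂ) := by
      have := congrArg Subtype.val hc
      simp only [Submodule.coe_smul, Matrix.toLin'_apply] at this
      exact this.symm
    rw [Matrix.toLin'_apply, map_smul, LinearMap.smul_apply, Matrix.toLin'_apply,
      ← Matrix.mulVec_mulVec, ← Matrix.mulVec_mulVec, hc', Matrix.mulVec_smul,
      Matrix.mulVec_smul, hlam', smul_smul, smul_smul, mul_comm]
  rw [hmain]
  congr 1
  have h1 : (E * X * E).trace = lam := by
    rw [hmain, Matrix.trace_smul, ht, smul_eq_mul, mul_one]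
  rw [← h1, Matrix.trace_mul_comm, ← Matrix.mul_assoc, hE, Matrix.trace_mul_comm]

theorem isIntegral_trace_of_aeval_eq_zero (S : Matrix I I ℂ) (Q : Polynomial ℤ) (hQ : Q.Monic)
    (h : Polynomial.aeval S Q = 0) : IsIntegral ℤ S.trace := by
  rcases isEmpty_or_nonempty I with hI | hI
  · have : S.trace = 0 := by simp [Matrix.trace]
    rw [this]; exact isIntegral_zero
  rw [Matrix.trace_eq_sum_roots_charpoly]
  show S.charpoly.roots.sum ∈ integralClosure ℤ ℂ
  refine Subalgebra.multiset_sum_mem _ (fun lam hlam => ?_)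
  have hroot : Polynomial.IsRoot S.charpoly lam := Polynomial.isRoot_of_mem_roots hlam
  have hspec : lam ∈ spectrum ℂ S := Matrix.mem_spectrum_iff_isRoot_charpoly.mpr hroot
  have h1 := spectrum.subset_polynomial_aeval S (Q.map (algebraMap ℤ ℂ)) ⟨lam, hspec, rfl⟩
  have h2 : Polynomial.aeval S (Q.map (algebraMap ℤ ℂ)) = 0 := by
    rw [Polynomial.aeval_map_algebraMap]; exact h
  rw [h2, spectrum.zero_eq, Set.mem_singleton_iff] at h1
  exact ⟨Q, hQ, by rw [← Polynomial.eval_map]; exact h1⟩

end

end Cfsg.Agent.Helper22
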