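import Mathlib
import Cfsg.Agent.Helper5.BlkRoot
import Cfsg.Agent.Helper5.BlkBr2

/-!
# Brauer congruences for class functions (helper22)

* `brLam_congr`: if `ξ` is Brauer-congruent to `χ₀`, then `brLam P H ξ c ≡ c χ₀` for every
  spectral vector `c` in the spectral ring.
* `brauer_classFun_congr`: the same for a class function `Φ` with local-integer values.
* `card_dvd_of_translate`: a finite set stable under left translation by an element of order
  `p` has cardinality divisible by `p`.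
* `translate_sum_memLocalIdeal`: the central character of `ξ` at the sum of a normal subset
  stable under translation by an element `u` of order `p` commuting with it lies in the local
  ideal.
-/

set_option autoImplicit false

namespace Cfsg.Agent.Helper22

open Cfsg Cfsg.Agent.Helper5

universe u

theorem brLam_congr {G : Type u} [Group G] [Fintype G] {M : Ideal AlgInt} [hMp : M.IsPrime]
    (P H : Subgroup G) [Fintype H] (ξ : IrrCharacter H) (χ₀ : IrrCharacter G)
    (hbr : ∀ g : G, MemLocalIdeal M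
      (brauerCentralChar P H (ξ : H → ℂ) g - centralChar (χ₀ : G → ℂ) g))
    (c : IrrCharacter G → ℂ) (hc : c ∈ specRing M G) :
    MemLocalIdeal M (brLam P H (ξ : H → ℂ) c - c χ₀) := by
  classical
  obtain ⟨ι, hι⟩ := exists_class_reps G
  have hc_eq : c = fun ψ : IrrCharacter G => ∑ r ∈ ι, specFun c r * centralChar (ψ : G → ℂ) r :=
    funext fun ψ => spec_value c ι hι ψ
  have hlin : ∀ (a : G → ℂ) (h : G),
      specFun (fun ψ : IrrCharacter G => ∑ r ∈ ι, a r * centralChar (ψ : G → ℂ) r) h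
        = ∑ r ∈ ι, a r * specFun (fun ψ : IrrCharacter G => centralChar (ψ : G → ℂ) r) h := by
    intro a h
    unfold specFun
    have e1 : ∀ χ : IrrCharacter G, (∑ r ∈ ι, a r * centralChar (χ : G → ℂ) r) *
        ((χ : G → ℂ) 1 * starRingEnd ℂ ((χ : G → ℂ) h))
        = ∑ r ∈ ι, a r * (centralChar (χ : G → ℂ) r *
          ((χ : G → ℂ) 1 * starRingEnd ℂ ((χ : G → ℂ) h))) := fun χ => by
      rw [Finset.sum_mul]
      exact Finset.sum_congr rfl fun r _ => mul_assoc _ _ _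
    rw [Finset.sum_congr rfl fun χ _ => e1 χ, Finset.sum_comm, Finset.mul_sum]
    refine Finset.sum_congr rfl fun r _ => ?_
    rw [← Finset.mul_sum]
    ring
  have hbrF : ∀ h : H, brF P H c h = ∑ r ∈ ι, specFun c r *
      brF P H (fun ψ : IrrCharacter G => centralChar (ψ : G → ℂ) r) h := by
    intro h
    by_cases hh : (h : G) ∈ Subgroup.centralizer (P : Set G)
    · rw [brF_mem P H c h hh]
      rw [Finset.sum_congr rfl fun r _ => by rw [brF_mem P H _ h hh]]
      conv_lhs => rw [hc_eq]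
      exact hlin _ _
    · rw [brF_notMem P H c h hh]
      rw [Finset.sum_congr rfl fun r _ => by rw [brF_notMem P H _ h hh, mul_zero]]
      exact Finset.sum_const_zero.symm
  have e : ∀ r : G, brauerCentralChar P H (ξ : H → ℂ) r = ((ξ : H → ℂ) 1)⁻¹ *
      ∑ h : H, brF P H (fun ψ : IrrCharacter G => centralChar (ψ : G → ℂ) r) h * (ξ : H → ℂ) h :=
    fun r => (brLam_central P H (ξ : H → ℂ) r).symm
  have h2 : brLam P H (ξ : H → ℂ) c
      = ∑ r ∈ ι, specFun c r * brauerCentralChar P H (ξ : H → ℂ) r := by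
    have e0 : brLam P H (ξ : H → ℂ) c
        = ((ξ : H → ℂ) 1)⁻¹ * ∑ h : H, brF P H c h * (ξ : H → ℂ) h := rfl
    rw [e0, Finset.sum_congr rfl fun h _ => by rw [hbrF h, Finset.sum_mul], Finset.sum_comm,
      Finset.mul_sum]
    refine Finset.sum_congr rfl fun r _ => ?_
    rw [e r]
    simp only [Finset.mul_sum]
    refine Finset.sum_congr rfl fun h _ => ?_
    ring
  rw [h2, spec_value c ι hι χ₀, ← Finset.sum_sub_distrib]
  refine memLocalIdeal_sum _ _ fun r _ => ?_
  rw [← mul_sub]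
  exact memLocalIdeal_mul_left (hc r) (hbr r)

theorem brauer_classFun_congr {G : Type u} [Group G] [Fintype G] {M : Ideal AlgInt}
    [hMp : M.IsPrime] (P H : Subgroup G) [Fintype H] (ξ : IrrCharacter H) (χ₀ : IrrCharacter G)
    (hbr : ∀ g : G, MemLocalIdeal M
      (brauerCentralChar P H (ξ : H → ℂ) g - centralChar (χ₀ : G → ℂ) g))
    (Φ : G → ℂ) (hΦ : IsClassFunction G Φ) (hΦR : ∀ g, MemLocalRing M (Φ g))
    [DecidablePred fun h : H => (h : G) ∈ Subgroup.centralizer (P : Set G)] :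
    MemLocalIdeal M (((ξ : H → ℂ) 1)⁻¹ * ∑ h : H,
        (if (h : G) ∈ Subgroup.centralizer (P : Set G) then Φ (h : G) else 0) * (ξ : H → ℂ) h
      - ((χ₀ : G → ℂ) 1)⁻¹ * ∑ g : G, Φ g * (χ₀ : G → ℂ) g) := by
  obtain ⟨c, hcdef⟩ : ∃ c : IrrCharacter G → ℂ, c = fun ψ : IrrCharacter G =>
      ((ψ : G → ℂ) 1)⁻¹ * ∑ g : G, Φ g * (ψ : G → ℂ) g := ⟨_, rfl⟩
  have hspec : specFun c = Φ := by
    rw [hcdef]
    exact specFun_cvec Φ hΦ
  have hc : c ∈ specRing M G := by
    intro g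
    rw [hspec]
    exact hΦR g
  have key := brLam_congr P H ξ χ₀ hbr c hc
  have e1 : brLam P H (ξ : H → ℂ) c = ((ξ : H → ℂ) 1)⁻¹ * ∑ h : H,
      (if (h : G) ∈ Subgroup.centralizer (P : Set G) then Φ (h : G) else 0) * (ξ : H → ℂ) h := by
    have e0 : brLam P H (ξ : H → ℂ) c
        = ((ξ : H → ℂ) 1)⁻¹ * ∑ h : H, brF P H c h * (ξ : H → ℂ) h := rfl
    rw [e0]
    congr 1
    refine Finset.sum_congr rfl fun h _ => ?_
    congr 1
    by_cases hh : (h : G) ∈ Subgroup.centralizer (P : Set G)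
    · rw [brF_mem P H c h hh, if_pos hh, hspec]
    · rw [brF_notMem P H c h hh, if_neg hh]
  have e2 : c χ₀ = ((χ₀ : G → ℂ) 1)⁻¹ * ∑ g : G, Φ g * (χ₀ : G → ℂ) g := by rw [hcdef]
  rw [e1, e2] at key
  exact key

theorem card_dvd_of_translate {H : Type u} [Group H] {p : ℕ} [Fact p.Prime] (u : H)
    (hu : orderOf u = p) (X : Finset H) (hstab : ∀ x ∈ X, u * x ∈ X) : p ∣ X.card := by
  classical
  obtain ⟨f, hf⟩ : ∃ f : Function.End {x : H // x ∈ X},
      f = fun x => ⟨u * x.1, hstab x.1 x.2⟩ := ⟨_, rfl⟩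
  have hfa : ∀ x : {x : H // x ∈ X}, (f x).1 = u * x.1 := fun x => by rw [hf]
  have hpow : ∀ (n : ℕ) (x : {x : H // x ∈ X}), ((f ^ n) x).1 = u ^ n * x.1 := by
    intro n
    induction n with
    | zero =>
      intro x
      rw [pow_zero, pow_zero, one_mul]
      rfl
    | succ n ih =>
      intro x
      rw [pow_succ]
      show ((f ^ n) (f x)).1 = _
      rw [ih, hfa, pow_succ, mul_assoc]
  have hfp : f ^ p ^ 1 = 1 := by
    funext x
    apply Subtype.ext
    rw [pow_one, hpow, ← hu, pow_orderOf_eq_one, one_mul]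
    rfl
  have key := Equiv.Perm.card_fixedPoints_modEq (p := p) (n := 1) hfp
  have hempty : IsEmpty (Function.fixedPoints f) := by
    constructor
    rintro ⟨x, hx⟩
    have h1 : u * x.1 = x.1 := by
      rw [← hfa]
      exact congrArg Subtype.val hx
    have h2 : u = 1 := by simpa using h1
    rw [h2, orderOf_one] at hu
    exact (Fact.out : p.Prime).one_lt.ne hu
  rw [Fintype.card_eq_nat_card, Fintype.card_eq_nat_card, Nat.card_eq_finsetCard,
    Nat.card_of_isEmpty] at key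
  exact (Nat.modEq_zero_iff_dvd).mp key

theorem translate_sum_memLocalIdeal {H : Type u} [Group H] [Fintype H] {p : ℕ} [Fact p.Prime]
    {M : Ideal AlgInt} (hM : IsPModular p M) [hMp : M.IsPrime] (u : H) (hu : orderOf u = p)
    (S : H → Prop) [DecidablePred S] (hcl : ∀ x t : H, S (t * x * t⁻¹) ↔ S x)
    (hcomm : ∀ x, S x → u * x = x * u) (hmul : ∀ x, S x → S (u * x))
    (hinv : ∀ x, S x → S (u⁻¹ * x)) (ξ : IrrCharacter H) :
    MemLocalIdeal M (((ξ : H → ℂ) 1)⁻¹ *
      ∑ h : H, (if S h then (1 : ℂ) else 0) * (ξ : H → ℂ) h) := by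
  classical
  have hp : p.Prime := Fact.out
  have hp0 : (p : ℂ) ≠ 0 := Nat.cast_ne_zero.mpr hp.pos.ne'
  obtain ⟨F, hFdef⟩ : ∃ F : H → ℂ, F = fun h => if S h then (1 : ℂ) else 0 := ⟨_, rfl⟩
  have hFa : ∀ h, F h = if S h then (1 : ℂ) else 0 := fun h => by rw [hFdef]
  have hF : IsClassFunction H F := by
    intro x t
    rw [hFa, hFa]
    simp only [hcl]
  have hFR : ∀ h, MemLocalRing M (F h) := by
    intro h
    rw [hFa]
    by_cases hS : S h
    · rw [if_pos hS]; exact (locRing M).one_mem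
    · rw [if_neg hS]; exact (locRing M).zero_mem
  have hΛR := classFun_char_mem F hF hFR ξ
  have hconv := conv_char_sum F F hF ξ
  have hm : ∀ h : H, ∑ x : H, F x * F (x⁻¹ * h)
      = ((Finset.univ.filter (fun x : H => S x ∧ S (x⁻¹ * h))).card : ℂ) := by
    intro h
    rw [Finset.card_filter, Nat.cast_sum]
    refine Finset.sum_congr rfl fun x _ => ?_
    rw [hFa, hFa]
    by_cases h1 : S x <;> by_cases h2 : S (x⁻¹ * h) <;> simp [h1, h2]
  have hdvd : ∀ h : H, p ∣ (Finset.univ.filter (fun x : H => S x ∧ S (x⁻¹ * h))).card := by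
    intro h
    refine card_dvd_of_translate u hu _ ?_
    intro x hx
    rw [Finset.mem_filter] at hx ⊢
    refine ⟨Finset.mem_univ _, hmul x hx.2.1, ?_⟩
    have hc : x⁻¹ * u⁻¹ = u⁻¹ * x⁻¹ := by
      rw [← mul_inv_rev, ← mul_inv_rev, hcomm x hx.2.1]
    have e : (u * x)⁻¹ * h = u⁻¹ * (x⁻¹ * h) := by
      rw [mul_inv_rev, hc, mul_assoc]
    rw [e]
    exact hinv _ hx.2.2
  obtain ⟨m', hm'def⟩ : ∃ m' : H → ℂ, m' = fun h => (∑ x : H, F x * F (x⁻¹ * h)) / (p : ℂ) :=
    ⟨_, rfl⟩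
  have hm'a : ∀ h, m' h = (∑ x : H, F x * F (x⁻¹ * h)) / (p : ℂ) := fun h => by rw [hm'def]
  have hm'cl : IsClassFunction H m' := by
    intro h t
    rw [hm'a, hm'a]
    have := conv_isClassFunction F F hF hF h t
    exact congrArg (fun z => z / (p : ℂ)) this
  have hm'R : ∀ h, MemLocalRing M (m' h) := by
    intro h
    obtain ⟨k, hk⟩ := hdvd h
    rw [hm'a, hm h, hk, Nat.cast_mul, mul_div_cancel_left₀ _ hp0]
    exact natCast_memLocalRing k
  have hΛ'R := classFun_char_mem m' hm'cl hm'R ξ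
  have hsq : (((ξ : H → ℂ) 1)⁻¹ * ∑ h : H, F h * (ξ : H → ℂ) h) *
      (((ξ : H → ℂ) 1)⁻¹ * ∑ h : H, F h * (ξ : H → ℂ) h)
      = (((ξ : H → ℂ) 1)⁻¹ * ∑ h : H, m' h * (ξ : H → ℂ) h) * (p : ℂ) := by
    have e1 : ∑ h : H, m' h * (ξ : H → ℂ) h
        = (∑ h : H, (∑ x : H, F x * F (x⁻¹ * h)) * (ξ : H → ℂ) h) / (p : ℂ) := by
      rw [Finset.sum_div]
      refine Finset.sum_congr rfl fun h _ => ?_
      rw [hm'a]
      ring
    rw [e1, hconv]
    field_simp
  have hmem : MemLocalIdeal M ((((ξ : H → ℂ) 1)⁻¹ * ∑ h : H, F h * (ξ : H → ℂ) h) *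
      (((ξ : H → ℂ) 1)⁻¹ * ∑ h : H, F h * (ξ : H → ℂ) h)) := by
    rw [hsq]
    exact memLocalIdeal_mul_left hΛ'R (prime_memLocalIdeal hM)
  have hgoal : MemLocalIdeal M (((ξ : H → ℂ) 1)⁻¹ * ∑ h : H, F h * (ξ : H → ℂ) h) := by
    by_contra hΛ
    exact not_memLocalIdeal_mul hΛR hΛ hΛ hmem
  rw [hFdef] at hgoal
  exact hgoal

end Cfsg.Agent.Helper22
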