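import Mathlib
import Cfsg.Agent.Helper22.BlkCover
import Cfsg.Agent.Helper22.Brauer4
import Cfsg.Prelude.Def_BlockRank

/-!
# p-regular parts, vanishing on p-singular elements, cyclotomic values (helper22)
-/

set_option autoImplicit false

namespace Cfsg.Agent.Helper22

open Cfsg Cfsg.Agent.Helper24 Cfsg.Agent.Helper5

universe u

theorem pRegularPart_of_reg {G : Type u} [Group G] (p : ℕ) (χ : G → ℂ) {g : G}
    (h : ¬ p ∣ orderOf g) : pRegularPart p χ g = χ g := by
  unfold pRegularPart; exact if_pos h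

theorem pRegularPart_of_sing {G : Type u} [Group G] (p : ℕ) (χ : G → ℂ) {g : G}
    (h : p ∣ orderOf g) : pRegularPart p χ g = 0 := by
  unfold pRegularPart; exact if_neg (fun h' => h' h)

/-- an irreducible character vanishing on all `p`-singular elements has degree divisible by the
full power of `p` in the group order -/
theorem pow_dvd_degree_of_vanish {G : Type u} [Group G] [Finite G] (p : ℕ) [Fact p.Prime]
    (χ : IrrCharacter G) (h : ∀ y : G, p ∣ orderOf y → (χ : G → ℂ) y = 0) :
    p ^ (Nat.card G).factorization p ∣ charDegree (χ : G → ℂ) := by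
  classical
  have hp : p.Prime := Fact.out
  obtain ⟨hd1, hd0, -⟩ := irr_charDegree_spec χ
  obtain ⟨P⟩ : Nonempty (Sylow p G) := inferInstance
  haveI : Fintype (P : Subgroup G) := Fintype.ofFinite _
  have hres : IsCharacter (P : Subgroup G) (fun u : (P : Subgroup G) => (χ : G → ℂ) u) :=
    isCharacter_restrict _ (isCharacter_of_isIrrCharacter χ.2)
  obtain ⟨n, hn⟩ := isCharacter_inner_irr hres
    ⟨fun _ => 1, Cfsg.Agent.Helper24.isIrrCharacter_one⟩
  rw [classInner_def'] at hn
  have hsum : ∑ u : (P : Subgroup G), (χ : G → ℂ) u * starRingEnd ℂ ((1 : ℂ)) =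
      (χ : G → ℂ) 1 := by
    rw [Finset.sum_eq_single (1 : (P : Subgroup G))]
    · simp
    · intro u _ hu
      have hu1 : (u : G) ≠ 1 := fun h1 => hu (Subtype.ext h1)
      obtain ⟨k, hk⟩ := P.isPGroup' u
      have hk' : (u : G) ^ p ^ k = 1 := by
        have := congrArg Subtype.val hk
        simpa using this
      obtain ⟨j, -, hj⟩ := (Nat.dvd_prime_pow hp).mp (orderOf_dvd_of_pow_eq_one hk')
      have hj0 : j ≠ 0 := by
        rintro rfl
        rw [pow_zero] at hj
        exact hu1 (orderOf_eq_one_iff.mp hj)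
      have hdvd : p ∣ orderOf (u : G) := by
        rw [hj]; exact dvd_pow_self p hj0
      rw [h _ hdvd, zero_mul]
    · intro h1; exact absurd (Finset.mem_univ _) h1
  have hn' : (Nat.card (P : Subgroup G) : ℂ)⁻¹ * (χ : G → ℂ) 1 = n := by
    rw [← hsum]; exact hn
  have hP0 : (Nat.card (P : Subgroup G) : ℂ) ≠ 0 := Nat.cast_ne_zero.mpr Nat.card_pos.ne'
  have heq : (charDegree (χ : G → ℂ) : ℂ) = ((n * Nat.card (P : Subgroup G) : ℕ) : ℂ) := by
    rw [← hd1]; push_cast; rw [← hn']; field_simp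
  have heq' : charDegree (χ : G → ℂ) = n * Nat.card (P : Subgroup G) := by exact_mod_cast heq
  rw [heq', Sylow.card_eq_multiplicity]
  exact dvd_mul_left _ _

/-- values of irreducible characters at elements of order dividing `m` lie in the `m`-th
cyclotomic field -/
theorem irr_mem_adjoin {G : Type u} [Group G] (χ : IrrCharacter G) (g : G) (m : ℕ)
    (hm : 0 < m) (hg : g ^ m = 1) :
    (χ : G → ℂ) g ∈ IntermediateField.adjoin ℚ
      ({Complex.exp (2 * Real.pi * Complex.I / (m : ℂ))} : Set ℂ) := by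
  obtain ⟨n, ρ, -, hρ⟩ := χ.2
  have hf : (ρ g) ^ m = 1 := by rw [← map_pow, hg, map_one]
  obtain ⟨S, d, hS, htr⟩ := exists_eigen_pow_decomp (ρ g) m hm hf
  have h1 := htr 1
  rw [pow_one] at h1
  have h2 : (χ : G → ℂ) g = ∑ μ ∈ S, μ ^ 1 * (d μ : ℂ) := by rw [← hρ]; exact h1
  rw [h2]
  haveI : NeZero m := ⟨hm.ne'⟩
  refine sum_mem (fun μ hμ => mul_mem (pow_mem ?_ 1) (natCast_mem _ _))
  obtain ⟨i, -, hi⟩ := (Complex.isPrimitiveRoot_exp m hm.ne').eq_pow_of_pow_eq_one (hS μ hμ)
  rw [← hi]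
  exact pow_mem (IntermediateField.subset_adjoin ℚ _ (Set.mem_singleton _)) i

end Cfsg.Agent.Helper22
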