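import Mathlib
import Cfsg.Agent.Helper22.BlkRank
import Cfsg.Agent.Helper22.BlkCover
import Cfsg.Agent.Helper5.BlkOrth2
import Cfsg.Agent.Helper24.CharComplete

/-!
# `p`-regular parts and blocks (helper22)

* `pRegLin`: `pRegularPart p` as a linear map.
* `pRegularPart_conj`: the `p`-regular part of a class function is a class function.
* `classInner_sum_smul`, `classInner_sub'`: linearity of `classInner` in the first argument.
* `classInner_pRegularPart_of_not_sameBlock`: characters in different blocks are orthogonal on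
  the `p`-regular elements (helper5's `block_reg_orth` in `classInner` form).
-/

set_option autoImplicit false

namespace Cfsg.Agent.Helper22

open Cfsg Cfsg.Agent.Helper24 Cfsg.Agent.Helper5

universe u

theorem orderOf_conj' {G : Type u} [Group G] (h g : G) : orderOf (h * g * h⁻¹) = orderOf g :=
  (MulAut.conj h).orderOf_eq g

theorem pRegularPart_conj {G : Type u} [Group G] (p : ℕ) {ψ : G → ℂ}
    (hψ : IsClassFunction G ψ) : IsClassFunction G (pRegularPart p ψ) := by
  intro g h
  by_cases hg : p ∣ orderOf g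
  · rw [pRegularPart_of_sing p ψ hg, pRegularPart_of_sing p ψ (by rwa [orderOf_conj'])]
  · rw [pRegularPart_of_reg p ψ hg, pRegularPart_of_reg p ψ (by rwa [orderOf_conj']), hψ g h]

/-- `pRegularPart p` as a linear map -/
noncomputable def pRegLin (G : Type u) [Group G] (p : ℕ) : (G → ℂ) →ₗ[ℂ] (G → ℂ) where
  toFun f := pRegularPart p f
  map_add' f f' := by
    funext g
    by_cases hg : p ∣ orderOf g
    · rw [Pi.add_apply, pRegularPart_of_sing p _ hg, pRegularPart_of_sing p _ hg,
        pRegularPart_of_sing p _ hg, add_zero]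
    · rw [Pi.add_apply, pRegularPart_of_reg p _ hg, pRegularPart_of_reg p _ hg,
        pRegularPart_of_reg p _ hg, Pi.add_apply]
  map_smul' c f := by
    funext g
    by_cases hg : p ∣ orderOf g
    · rw [Pi.smul_apply, pRegularPart_of_sing p _ hg, pRegularPart_of_sing p _ hg,
        RingHom.id_apply, smul_zero]
    · rw [Pi.smul_apply, pRegularPart_of_reg p _ hg, pRegularPart_of_reg p _ hg,
        RingHom.id_apply, Pi.smul_apply]

theorem pRegLin_apply {G : Type u} [Group G] (p : ℕ) (f : G → ℂ) :
    pRegLin G p f = pRegularPart p f := rfl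

theorem classInner_sum_smul {G : Type u} [Group G] [Fintype G] {ι : Type*} (s : Finset ι)
    (a : ι → ℂ) (F : ι → G → ℂ) (ψ : G → ℂ) :
    classInner (∑ i ∈ s, a i • F i) ψ = ∑ i ∈ s, a i * classInner (F i) ψ := by
  unfold classInner
  have e1 : ∀ g : G, (∑ i ∈ s, a i • F i) g * starRingEnd ℂ (ψ g) =
      ∑ i ∈ s, a i * (F i g * starRingEnd ℂ (ψ g)) := by
    intro g
    rw [Finset.sum_apply, Finset.sum_mul]
    exact Finset.sum_congr rfl fun i _ => by rw [Pi.smul_apply, smul_eq_mul, mul_assoc]
  rw [Finset.sum_congr rfl fun g _ => e1 g, Finset.sum_comm, Finset.mul_sum]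
  refine Finset.sum_congr rfl fun i _ => ?_
  rw [← Finset.mul_sum]
  ring

theorem classInner_sub' {G : Type u} [Group G] [Fintype G] (F F' ψ : G → ℂ) :
    classInner (F - F') ψ = classInner F ψ - classInner F' ψ := by
  unfold classInner
  rw [← mul_sub, ← Finset.sum_sub_distrib]
  congr 1
  refine Finset.sum_congr rfl fun g _ => ?_
  rw [Pi.sub_apply, sub_mul]

theorem classInner_pRegularPart_of_not_sameBlock {G : Type u} [Group G] [Fintype G] {p : ℕ}
    {M : Ideal AlgInt} (hM : IsPModular p M) (φ ψ : IrrCharacter G)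
    (h : ¬ SameBlock M (φ : G → ℂ) (ψ : G → ℂ)) :
    classInner (pRegularPart p (φ : G → ℂ)) (ψ : G → ℂ) = 0 := by
  classical
  haveI hMp : M.IsPrime := hM.2.1.isPrime
  have h1 := block_reg_orth hM φ ψ h
  rw [finsum_setOf_eq_sum'] at h1
  unfold classInner
  have e : ∀ g : G, pRegularPart p (φ : G → ℂ) g * starRingEnd ℂ ((ψ : G → ℂ) g) =
      if ¬ p ∣ orderOf g then (φ : G → ℂ) g * starRingEnd ℂ ((ψ : G → ℂ) g) else 0 := by
    intro g
    by_cases hg : p ∣ orderOf g
    · rw [pRegularPart_of_sing p _ hg, zero_mul, if_neg (not_not.mpr hg)]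
    · rw [pRegularPart_of_reg p _ hg, if_pos hg]
  rw [Finset.sum_congr rfl fun g _ => e g, h1, mul_zero]

end Cfsg.Agent.Helper22
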