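import Mathlib
import Cfsg.Agent.Helper5.BlkMinMax

/-!
# The number of `p`-regular elements is prime to `p` (helper22)

* `le_sylow_of_le_centralizer`: a `p`-subgroup of `C_G(P)`, `P` a Sylow `p`-subgroup, lies in `P`.
* `exists_pReg_decomp`: `g = g^j * g^k` with `g^j` a `p`-element and `g^k` `p`-regular.
* `not_dvd_card_pRegular`: `p` does not divide the number of elements of order prime to `p`.
-/

set_option autoImplicit false

namespace Cfsg.Agent.Helper22

universe u

theorem le_sylow_of_le_centralizer {G : Type u} [Group G] {p : ℕ} [Fact p.Prime] (P : Sylow p G)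
    (S : Subgroup G) (hS : IsPGroup p S)
    (hSC : S ≤ Subgroup.centralizer ((P : Subgroup G) : Set G)) : S ≤ (P : Subgroup G) := by
  have hN : S ≤ Subgroup.normalizer ((P : Subgroup G) : Set G) :=
    hSC.trans (Subgroup.centralizer_le_normalizer _)
  have h1 : IsPGroup p (S ⊔ (P : Subgroup G) : Subgroup G) := hS.to_sup_of_normal_right' P.2 hN
  have h2 := P.is_maximal' h1 le_sup_right
  exact le_sup_left.trans_eq h2

theorem exists_pReg_decomp {G : Type u} [Group G] [Finite G] (p : ℕ) [hp : Fact p.Prime] (g : G) :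
    ∃ j k : ℕ, g ^ j * g ^ k = g ∧ (∃ e : ℕ, (g ^ j) ^ (p ^ e) = 1) ∧ ¬ p ∣ orderOf (g ^ k) := by
  obtain ⟨e, m, hm, ho⟩ :=
    Nat.exists_eq_pow_mul_and_not_dvd (orderOf_pos g).ne' p hp.out.ne_one
  have hcop : Nat.Coprime (p ^ e) m :=
    Nat.Coprime.pow_left e ((Nat.Prime.coprime_iff_not_dvd hp.out).mpr hm)
  obtain ⟨k, hk0, hk1⟩ := Nat.chineseRemainder hcop 0 1
  obtain ⟨j, hj1, hj0⟩ := Nat.chineseRemainder hcop 1 0
  refine ⟨j, k, ?_, ⟨e, ?_⟩, ?_⟩
  · rw [← pow_add]
    have h1 : j + k ≡ 1 [MOD p ^ e * m] := by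
      rw [← Nat.modEq_and_modEq_iff_modEq_mul hcop]
      exact ⟨by simpa using hj1.add hk0, by simpa using hj0.add hk1⟩
    rw [← ho] at h1
    have h2 := (pow_eq_pow_iff_modEq (x := g)).mpr h1
    rw [h2, pow_one]
  · rw [← pow_mul]
    apply orderOf_dvd_iff_pow_eq_one.mp
    rw [ho, mul_comm j]
    exact Nat.mul_dvd_mul_left _ ((Nat.modEq_zero_iff_dvd).mp hj0)
  · intro hdvd
    have h1 : (g ^ k) ^ m = 1 := by
      rw [← pow_mul]
      apply orderOf_dvd_iff_pow_eq_one.mp
      rw [ho]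
      exact Nat.mul_dvd_mul_right ((Nat.modEq_zero_iff_dvd).mp hk0) m
    exact hm (hdvd.trans (orderOf_dvd_of_pow_eq_one h1))

theorem not_dvd_card_pRegular (G : Type u) [Group G] [Fintype G] [DecidableEq G] (p : ℕ)
    [hp : Fact p.Prime] :
    ¬ p ∣ (Finset.univ.filter (fun x : G => ¬ p ∣ orderOf x)).card := by
  classical
  obtain ⟨P⟩ := (inferInstance : Nonempty (Sylow p G))
  obtain ⟨X, hX⟩ : ∃ X : Finset G, X = Finset.univ.filter (fun x : G => ¬ p ∣ orderOf x) :=
    ⟨_, rfl⟩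
  rw [← hX]
  have hXmem : ∀ x, x ∈ X ↔ ¬ p ∣ orderOf x := fun x => by
    rw [hX, Finset.mem_filter]
    exact ⟨fun h => h.2, fun h => ⟨Finset.mem_univ _, h⟩⟩
  obtain ⟨X₀, hX₀⟩ : ∃ X₀ : Finset G,
      X₀ = X.filter (fun x => ∀ u ∈ (P : Subgroup G), u * x * u⁻¹ = x) := ⟨_, rfl⟩
  obtain ⟨X₁, hX₁⟩ : ∃ X₁ : Finset G,
      X₁ = X.filter (fun x => ¬ ∀ u ∈ (P : Subgroup G), u * x * u⁻¹ = x) := ⟨_, rfl⟩
  have hsplit : X₀.card + X₁.card = X.card := by
    rw [hX₀, hX₁]
    exact Finset.card_filter_add_card_filter_not _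
  have hdvd1 : p ∣ X₁.card := by
    refine Cfsg.Agent.Helper5.card_dvd_of_no_fixed (P : Subgroup G) P.2 X₁ ?_ ?_
    · intro u hu x hx
      rw [hX₁, Finset.mem_filter, hXmem] at hx ⊢
      refine ⟨?_, ?_⟩
      · have e : orderOf (u * x * u⁻¹) = orderOf x := (MulAut.conj u).orderOf_eq x
        rw [e]
        exact hx.1
      · intro hfix
        apply hx.2
        intro w hw
        have h1 := hfix (u * w * u⁻¹) ((P : Subgroup G).mul_mem ((P : Subgroup G).mul_mem hu hw)
          ((P : Subgroup G).inv_mem hu))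
        have h2 : u * (w * x * w⁻¹) * u⁻¹ = u * x * u⁻¹ := by
          rw [← h1]
          group
        exact mul_left_cancel (mul_right_cancel h2)
    · intro x hx
      rw [hX₁, Finset.mem_filter] at hx
      exact hx.2
  intro hdvd
  have hdvd0 : p ∣ X₀.card := by
    obtain ⟨a, ha⟩ := hdvd1
    obtain ⟨b, hb⟩ := hdvd
    refine ⟨b - a, ?_⟩
    rw [Nat.mul_sub]
    omega
  obtain ⟨C, hC⟩ : ∃ C : Subgroup G, C = Subgroup.centralizer ((P : Subgroup G) : Set G) :=
    ⟨_, rfl⟩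
  obtain ⟨Z, hZ⟩ : ∃ Z : Subgroup G, Z = (P : Subgroup G) ⊓ C := ⟨_, rfl⟩
  have hZC : Z ≤ C := by rw [hZ]; exact inf_le_right
  have hZP : Z ≤ (P : Subgroup G) := by rw [hZ]; exact inf_le_left
  have hZp : IsPGroup p Z := P.2.to_le hZP
  have hmemC : ∀ x : G, x ∈ C ↔ ∀ u ∈ (P : Subgroup G), u * x = x * u := by
    intro x
    rw [hC, Subgroup.mem_centralizer_iff]
    rfl
  have hX₀mem : ∀ x, x ∈ X₀ ↔ ¬ p ∣ orderOf x ∧ x ∈ C := by
    intro x
    rw [hX₀, Finset.mem_filter, hXmem, hmemC]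
    constructor
    · rintro ⟨h1, h2⟩
      exact ⟨h1, fun u hu => mul_inv_eq_iff_eq_mul.mp (h2 u hu)⟩
    · rintro ⟨h1, h2⟩
      exact ⟨h1, fun u hu => mul_inv_eq_iff_eq_mul.mpr (h2 u hu)⟩
  have hcard : (Finset.univ.filter (fun x : G => x ∈ Z)).card * X₀.card
      = (Finset.univ.filter (fun x : G => x ∈ C)).card := by
    rw [← Finset.card_product]
    refine Finset.card_bij (fun a _ => a.1 * a.2) ?_ ?_ ?_
    · rintro ⟨z, y⟩ ha
      rw [Finset.mem_product, Finset.mem_filter, hX₀mem] at ha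
      rw [Finset.mem_filter]
      exact ⟨Finset.mem_univ _, C.mul_mem (hZC ha.1.2) ha.2.2⟩
    · rintro ⟨z, y⟩ ha ⟨z', y'⟩ ha' heq
      rw [Finset.mem_product, Finset.mem_filter, hX₀mem] at ha ha'
      have heq' : z * y = z' * y' := heq
      obtain ⟨c, hcdef⟩ : ∃ c : G, c = z'⁻¹ * z := ⟨_, rfl⟩
      have hcZ : c ∈ Z := by
        rw [hcdef]
        exact Z.mul_mem (Z.inv_mem ha'.1.2) ha.1.2
      have hy' : y' = c * y := by rw [hcdef, mul_assoc, heq', inv_mul_cancel_left]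
      have hcy : Commute c y := (hmemC y).mp ha.2.2 c (hZP hcZ)
      obtain ⟨a, hca⟩ := hZp ⟨c, hcZ⟩
      have hca' : c ^ (p ^ a) = 1 := congrArg Subtype.val hca
      obtain ⟨n, hndef⟩ : ∃ n : ℕ, n = orderOf y * orderOf y' := ⟨_, rfl⟩
      have hyn : y ^ n = 1 := by rw [hndef, pow_mul, pow_orderOf_eq_one, one_pow]
      have hy'n : y' ^ n = 1 := by rw [hndef, pow_mul', pow_orderOf_eq_one, one_pow]
      have hn : c ^ (orderOf y * orderOf y') = 1 := by
        rw [← hndef]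
        have h1 := hy'n
        rw [hy', hcy.mul_pow, hyn, mul_one] at h1
        exact h1
      have hc1 : c = 1 := by
        have hd1 : orderOf c ∣ p ^ a := orderOf_dvd_of_pow_eq_one hca'
        have hd2 : orderOf c ∣ orderOf y * orderOf y' := orderOf_dvd_of_pow_eq_one hn
        have hcop : Nat.Coprime (p ^ a) (orderOf y * orderOf y') := by
          apply Nat.Coprime.pow_left
          exact Nat.Coprime.mul_right ((Nat.Prime.coprime_iff_not_dvd hp.out).mpr ha.2.1)
            ((Nat.Prime.coprime_iff_not_dvd hp.out).mpr ha'.2.1)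
        exact orderOf_eq_one_iff.mp (Nat.eq_one_of_dvd_coprimes hcop hd1 hd2)
      have hzz : z = z' := by
        have h3 : z'⁻¹ * z = 1 := by rw [← hcdef, hc1]
        exact (inv_mul_eq_one.mp h3).symm
      have hyy : y = y' := by rw [hy', hc1, one_mul]
      rw [hzz, hyy]
    · intro g hg
      rw [Finset.mem_filter] at hg
      obtain ⟨j, k, hjk, ⟨e, hje⟩, hk⟩ := exists_pReg_decomp p g
      have hjC : g ^ j ∈ C := C.pow_mem hg.2 j
      have hkC : g ^ k ∈ C := C.pow_mem hg.2 k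
      have hjP : g ^ j ∈ (P : Subgroup G) := by
        have hS : IsPGroup p (Subgroup.zpowers (g ^ j)) := by
          rintro ⟨w, hw⟩
          obtain ⟨i, rfl⟩ := Subgroup.mem_zpowers_iff.mp hw
          refine ⟨e, Subtype.ext ?_⟩
          show ((g ^ j) ^ i) ^ (p ^ e) = 1
          have h1 : ((g ^ j) ^ i) ^ (p ^ e) = ((g ^ j) ^ (p ^ e)) ^ i := by
            rw [← zpow_natCast ((g ^ j) ^ i) (p ^ e), ← zpow_mul, mul_comm, zpow_mul,
              zpow_natCast]
          rw [h1, hje, one_zpow]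
        have hle : Subgroup.zpowers (g ^ j) ≤ Subgroup.centralizer ((P : Subgroup G) : Set G) := by
          rw [Subgroup.zpowers_le, ← hC]
          exact hjC
        exact le_sylow_of_le_centralizer P _ hS hle (Subgroup.mem_zpowers _)
      refine ⟨(g ^ j, g ^ k), ?_, hjk⟩
      rw [Finset.mem_product, Finset.mem_filter, hX₀mem]
      exact ⟨⟨Finset.mem_univ _, by rw [hZ]; exact ⟨hjP, hjC⟩⟩, hk, hkC⟩
  have hcZ : (Finset.univ.filter (fun x : G => x ∈ Z)).card = Nat.card Z :=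
    (Nat.subtype_card _ (fun x => by simp)).symm
  have hcC : (Finset.univ.filter (fun x : G => x ∈ C)).card = Nat.card C :=
    (Nat.subtype_card _ (fun x => by simp)).symm
  obtain ⟨k, hk⟩ := hZp.exists_card_eq
  obtain ⟨S⟩ := (inferInstance : Nonempty (Sylow p C))
  have hSle : (S : Subgroup C).map C.subtype ≤ Z := by
    have h1 : (S : Subgroup C).map C.subtype ≤ (P : Subgroup G) :=
      le_sylow_of_le_centralizer P _ (S.2.map _) (by
        rw [← hC]
        exact Subgroup.map_subtype_le _)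
    rw [hZ]
    exact le_inf h1 (Subgroup.map_subtype_le _)
  have hScard : Nat.card ((S : Subgroup C).map C.subtype) = p ^ (Nat.card C).factorization p := by
    rw [Subgroup.card_map_of_injective C.subtype_injective]
    exact S.card_eq_multiplicity
  have hle : p ^ (Nat.card C).factorization p ≤ p ^ k := by
    rw [← hScard, ← hk]
    exact Subgroup.card_le_of_le hSle
  obtain ⟨b, hb⟩ := hdvd0
  have hdiv : p ^ (k + 1) ∣ Nat.card C := by
    rw [← hcC, ← hcard, hcZ, hk, hb, pow_succ]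
    exact ⟨b, by ring⟩
  have hk1 : k + 1 ≤ (Nat.card C).factorization p :=
    (hp.out.pow_dvd_iff_le_factorization Nat.card_pos.ne').mp hdiv
  have h3 : p ^ (k + 1) ≤ p ^ k := (Nat.pow_le_pow_right hp.out.pos hk1).trans hle
  have h4 : k + 1 ≤ k := (Nat.pow_le_pow_iff_right hp.out.one_lt).mp h3
  omega

end Cfsg.Agent.Helper22
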