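import Mathlib
import Cfsg.Agent.Helper22.BlkBrCongr
import Cfsg.Agent.Helper22.PRegCount
import Cfsg.Agent.Helper22.FrobSchur
import Cfsg.Agent.Helper22.Brauer5
import Cfsg.Agent.Helper22.BlkCover
import Cfsg.Agent.Helper5.BlkOrth2

/-!
# Tools for Brauer's third main theorem (helper22)

* `induced_classFun_congr`: block induction congruence for class functions.
* `sum_pReg_eq_zero`: the sum of a non-principal-block character over the `p`-regular elements
  vanishes.
* `pReg_sum_not_mem`: the number of `p`-regular elements is a unit of the local ring.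
-/

set_option autoImplicit false

namespace Cfsg.Agent.Helper22

open Cfsg Cfsg.Agent.Helper5

universe u

theorem induced_classFun_congr {G : Type u} [Group G] [Fintype G] {M : Ideal AlgInt}
    [hMp : M.IsPrime] (H : Subgroup G) [Fintype H] (ξ : IrrCharacter H) (χ₀ : IrrCharacter G)
    (hind : ∀ g : G, MemLocalIdeal M
      (inducedCentralChar H (ξ : H → ℂ) g - centralChar (χ₀ : G → ℂ) g))
    (Φ : G → ℂ) (hΦ : IsClassFunction G Φ) (hΦR : ∀ g, MemLocalRing M (Φ g)) :
    MemLocalIdeal M (((ξ : H → ℂ) 1)⁻¹ * ∑ h : H, Φ (h : G) * (ξ : H → ℂ) h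
      - ((χ₀ : G → ℂ) 1)⁻¹ * ∑ g : G, Φ g * (χ₀ : G → ℂ) g) := by
  classical
  have hbr : ∀ g : G, MemLocalIdeal M
      (brauerCentralChar (⊥ : Subgroup G) H (ξ : H → ℂ) g - centralChar (χ₀ : G → ℂ) g) := by
    intro g
    have e : brauerCentralChar (⊥ : Subgroup G) H (ξ : H → ℂ) g
        = inducedCentralChar H (ξ : H → ℂ) g := by
      unfold brauerCentralChar inducedCentralChar
      have hset : {h : H | IsConj g (h : G) ∧
          (h : G) ∈ Subgroup.centralizer ((⊥ : Subgroup G) : Set G)}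
          = {h : H | IsConj g (h : G)} := by
        ext h
        simp [Subgroup.mem_centralizer_iff]
      rw [hset]
    rw [e]
    exact hind g
  have key := brauer_classFun_congr (⊥ : Subgroup G) H ξ χ₀ hbr Φ hΦ hΦR
  have e2 : ∀ h : H, (if (h : G) ∈ Subgroup.centralizer ((⊥ : Subgroup G) : Set G)
      then Φ (h : G) else 0) = Φ (h : G) := by
    intro h
    rw [if_pos]
    simp [Subgroup.mem_centralizer_iff]
  rw [Finset.sum_congr rfl fun (h : H) _ => by rw [e2 h]] at key
  exact key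

theorem sum_pReg_eq_zero {G : Type u} [Group G] [Fintype G] {p : ℕ} {M : Ideal AlgInt}
    (hM : IsPModular p M) (χ : IrrCharacter G)
    (h : ¬ SameBlock M (fun _ : G => (1 : ℂ)) (χ : G → ℂ)) :
    ∑ g : G, (if ¬ p ∣ orderOf g then (1 : ℂ) else 0) * (χ : G → ℂ) g = 0 := by
  classical
  haveI hMp : M.IsPrime := hM.2.1.isPrime
  have h' : ¬ SameBlock M (χ : G → ℂ) ((trivIrr G : IrrCharacter G) : G → ℂ) :=
    fun hs => h (sameBlock_symm hs)
  have h1 := block_reg_orth hM χ (trivIrr G) h'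
  rw [finsum_setOf_eq_sum'] at h1
  refine Eq.trans (Finset.sum_congr rfl fun g _ => ?_) h1
  by_cases hg : p ∣ orderOf g
  · rw [if_neg (not_not.mpr hg), if_neg (not_not.mpr hg), zero_mul]
  · rw [if_pos hg, if_pos hg, one_mul]
    show (χ : G → ℂ) g = (χ : G → ℂ) g * starRingEnd ℂ (1 : ℂ)
    rw [map_one, mul_one]

theorem sum_pReg_triv {G : Type u} [Group G] [Fintype G] (p : ℕ) :
    ∑ g : G, (if ¬ p ∣ orderOf g then (1 : ℂ) else 0) * ((trivIrr G : IrrCharacter G) : G → ℂ) g
      = ((Finset.univ.filter (fun x : G => ¬ p ∣ orderOf x)).card : ℂ) := by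
  rw [Finset.card_filter, Nat.cast_sum]
  refine Finset.sum_congr rfl fun g _ => ?_
  show (if ¬ p ∣ orderOf g then (1 : ℂ) else 0) * 1 = _
  rw [mul_one]
  split_ifs <;> simp

theorem pReg_sum_not_mem {G : Type u} [Group G] [Fintype G] {p : ℕ} [Fact p.Prime]
    {M : Ideal AlgInt} (hM : IsPModular p M) :
    ¬ MemLocalIdeal M ((((trivIrr G : IrrCharacter G) : G → ℂ) 1)⁻¹ *
      ∑ g : G, (if ¬ p ∣ orderOf g then (1 : ℂ) else 0) *
        ((trivIrr G : IrrCharacter G) : G → ℂ) g) := by
  classical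
  rw [sum_pReg_triv]
  have e : ((trivIrr G : IrrCharacter G) : G → ℂ) 1 = 1 := rfl
  rw [e, inv_one, one_mul]
  refine not_memLocalIdeal_natCast hM ?_
  exact ((Nat.Prime.coprime_iff_not_dvd (Fact.out)).mpr (not_dvd_card_pRegular G p)).symm

end Cfsg.Agent.Helper22
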