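import Mathlib
import Cfsg.Agent.Helper22.BlkThird
import Cfsg.Agent.Helper22.BlkRank
import Cfsg.Agent.Helper22.BlkRank2
import Cfsg.Agent.Helper22.Brauer3
import Cfsg.Agent.S0961
import Cfsg.Agent.S4665
import Cfsg.Agent.Helper24.CharOdd
import Cfsg.Agent.Helper24.CharGagola
import Cfsg.Agent.Helper24.CharInd
import Cfsg.Agent.Helper5.BlkMinMax
import Cfsg.Agent.Helper5.BlkBr2
import Cfsg.Agent.Helper5.BlkHt
import Cfsg.Agent.Helper5.BlkOp
import Cfsg.Agent.Helper5.BlkNorm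

/-!
# Height zero characters and the truncated character (helper22)

For a class function `f` of `G` the function `tildeFun p f` is `|G|_p * f` on the `p`-regular
elements and zero elsewhere.  For irreducible `χ` it is a generalized character, and
`tildeC p χ ψ` is (up to a unit) `⟨tildeFun p χ, ψ⟩ / ψ 1`.

* `height_zero_iff`: `χ` has height zero in its block iff `tildeC p χ χ` is a unit of the local
  ring.
* `tilde_E_iff`: `tildeC p χ ξ` is a unit iff `⟨tildeFun p χ, ξ⟩` is a nonzero integer with the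
  same `p`-adic valuation as the degree of `ξ`.
* `tildeC_induced_congr`: compatibility with block induction.
-/

set_option autoImplicit false

namespace Cfsg.Agent.Helper22

open Cfsg Cfsg.Agent.Helper5 Cfsg.Agent.Helper24

universe u

/-- `|G|_p * f` on `p`-regular elements, zero on `p`-singular elements -/
noncomputable def tildeFun {G : Type u} [Group G] (p : ℕ) (f : G → ℂ) : G → ℂ :=
  fun x => if p ∣ orderOf x then (0 : ℂ) else ((p ^ (Nat.card G).factorization p : ℕ) : ℂ) * f x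

/-- the central character value attached to the `p`-regular truncation of `f` -/
noncomputable def tildeC {G : Type u} [Group G] [Fintype G] (p : ℕ) (f : G → ℂ)
    (ψ : IrrCharacter G) : ℂ :=
  ((ψ : G → ℂ) 1)⁻¹ * ∑ g : G, (if p ∣ orderOf g then (0 : ℂ) else f g⁻¹) * (ψ : G → ℂ) g

theorem tilde_inner_int {G : Type u} [Group G] [Fintype G] (p : ℕ) [Fact p.Prime]
    (χ ξ : IrrCharacter G) :
    ∃ n : ℤ, classInner (tildeFun p (χ : G → ℂ)) (ξ : G → ℂ) = (n : ℂ) := by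
  obtain ⟨z, hz1, -⟩ := genChar_decomp (Cfsg.Agent.S0961.result p χ)
  exact ⟨z ξ, hz1 ξ⟩

theorem tilde_inner_eq {G : Type u} [Group G] [Fintype G] (p : ℕ) [Fact p.Prime] (f : G → ℂ)
    (ψ : IrrCharacter G) :
    classInner (tildeFun p f) (ψ : G → ℂ) / (ψ : G → ℂ) 1 =
      ((Nat.card G / p ^ (Nat.card G).factorization p : ℕ) : ℂ)⁻¹ * tildeC p f ψ := by
  have hp : p.Prime := Fact.out
  have hcard : (Nat.card G : ℂ) = ((p ^ (Nat.card G).factorization p : ℕ) : ℂ) *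
      ((Nat.card G / p ^ (Nat.card G).factorization p : ℕ) : ℂ) := by
    rw [← Nat.cast_mul, Nat.ordProj_mul_ordCompl_eq_self]
  have hpa : ((p ^ (Nat.card G).factorization p : ℕ) : ℂ) ≠ 0 :=
    Nat.cast_ne_zero.mpr (pow_ne_zero _ hp.ne_zero)
  have hsum : ∑ g : G, tildeFun p f g * starRingEnd ℂ ((ψ : G → ℂ) g) =
      ((p ^ (Nat.card G).factorization p : ℕ) : ℂ) *
        ∑ g : G, (if p ∣ orderOf g then (0 : ℂ) else f g⁻¹) * (ψ : G → ℂ) g := by
    have hre := Equiv.sum_comp (Equiv.inv G)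
      (fun g : G => tildeFun p f g * starRingEnd ℂ ((ψ : G → ℂ) g))
    rw [← hre, Finset.mul_sum]
    refine Finset.sum_congr rfl fun (g : G) _ => ?_
    have e1 : starRingEnd ℂ ((ψ : G → ℂ) g⁻¹) = (ψ : G → ℂ) g := by
      have h := irr_inv ψ g⁻¹
      rw [inv_inv] at h
      exact h.symm
    show tildeFun p f g⁻¹ * starRingEnd ℂ ((ψ : G → ℂ) g⁻¹) = _
    rw [e1]
    unfold tildeFun
    rw [orderOf_inv]
    by_cases h : p ∣ orderOf g
    · rw [if_pos h, if_pos h]; ring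
    · rw [if_neg h, if_neg h]; ring
  have e : ∀ (A m S d : ℂ), A ≠ 0 → (A * m)⁻¹ * (A * S) / d = m⁻¹ * (d⁻¹ * S) := by
    intro A m S d hA
    rw [mul_inv, div_eq_mul_inv]
    have := inv_mul_cancel₀ hA
    linear_combination (m⁻¹ * S * d⁻¹) * this
  rw [classInner_def', hsum, hcard]
  exact e _ _ _ _ hpa

theorem tilde_phi_classFun {G : Type u} [Group G] (p : ℕ) (f : G → ℂ)
    (hf : IsClassFunction G f) :
    IsClassFunction G (fun g : G => if p ∣ orderOf g then (0 : ℂ) else f g⁻¹) := by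
  intro g h
  show (if p ∣ orderOf (h * g * h⁻¹) then (0 : ℂ) else f (h * g * h⁻¹)⁻¹) =
    if p ∣ orderOf g then (0 : ℂ) else f g⁻¹
  have e1 : (h * g * h⁻¹)⁻¹ = h * g⁻¹ * h⁻¹ := by group
  rw [orderOf_conj', e1, hf g⁻¹ h]

theorem tilde_phi_mem {G : Type u} [Group G] {M : Ideal AlgInt} [hMp : M.IsPrime] (p : ℕ)
    (f : G → ℂ) (hfR : ∀ g, MemLocalRing M (f g)) (g : G) :
    MemLocalRing M (if p ∣ orderOf g then (0 : ℂ) else f g⁻¹) := by
  split_ifs
  · exact mem_locRing.mp (locRing M).zero_mem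
  · exact hfR _

theorem tilde_spec {G : Type u} [Group G] [Fintype G] {M : Ideal AlgInt} [hMp : M.IsPrime]
    (p : ℕ) (f : G → ℂ) (hf : IsClassFunction G f) (hfR : ∀ g, MemLocalRing M (f g)) :
    tildeC p f ∈ specRing M G := by
  show ∀ g, MemLocalRing M (specFun (tildeC p f) g)
  intro g
  have e : specFun (tildeC p f) g = (if p ∣ orderOf g then (0 : ℂ) else f g⁻¹) :=
    congrFun (specFun_cvec _ (tilde_phi_classFun p f hf)) g
  rw [e]
  exact tilde_phi_mem p f hfR g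

theorem ordCompl_inv_mem {G : Type u} [Group G] [Finite G] {p : ℕ} {M : Ideal AlgInt}
    (hM : IsPModular p M) :
    MemLocalRing M (((Nat.card G / p ^ (Nat.card G).factorization p : ℕ) : ℂ)⁻¹) :=
  natCast_inv_memLocalRing hM (Nat.not_dvd_ordCompl hM.1 Nat.card_pos.ne')

theorem ordCompl_cast_ne_zero {G : Type u} [Group G] [Finite G] (p : ℕ) :
    ((Nat.card G / p ^ (Nat.card G).factorization p : ℕ) : ℂ) ≠ 0 :=
  Nat.cast_ne_zero.mpr (Nat.ordCompl_pos p Nat.card_pos.ne').ne'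

theorem tilde_Q_ideal_iff {G : Type u} [Group G] [Fintype G] {p : ℕ} [Fact p.Prime]
    {M : Ideal AlgInt} (hM : IsPModular p M) (f : G → ℂ) (ψ : IrrCharacter G) :
    MemLocalIdeal M (classInner (tildeFun p f) (ψ : G → ℂ) / (ψ : G → ℂ) 1) ↔
      MemLocalIdeal M (tildeC p f ψ) := by
  haveI hMp : M.IsPrime := hM.2.1.isPrime
  rw [tilde_inner_eq]
  constructor
  · intro h
    have h1 := memLocalIdeal_mul_left
      (natCast_memLocalRing (M := M) (Nat.card G / p ^ (Nat.card G).factorization p)) h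
    rwa [← mul_assoc, mul_inv_cancel₀ (ordCompl_cast_ne_zero p), one_mul] at h1
  · exact fun h => memLocalIdeal_mul_left (ordCompl_inv_mem hM) h

theorem irr_tilde_spec {G : Type u} [Group G] [Fintype G] {M : Ideal AlgInt} [hMp : M.IsPrime]
    (p : ℕ) (χ : IrrCharacter G) : tildeC p (χ : G → ℂ) ∈ specRing M G :=
  tilde_spec p (χ : G → ℂ) (irr_isClassFunction χ)
    (fun g => integral_mem_locRing (irr_isIntegral χ g))

theorem tildeC_mem {G : Type u} [Group G] [Fintype G] {p : ℕ} {M : Ideal AlgInt}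
    [hMp : M.IsPrime] (χ ψ : IrrCharacter G) : MemLocalRing M (tildeC p (χ : G → ℂ) ψ) :=
  spec_apply_mem (irr_tilde_spec p χ) ψ

theorem tildeC_congr {G : Type u} [Group G] [Fintype G] {p : ℕ} {M : Ideal AlgInt}
    [hMp : M.IsPrime] (χ : IrrCharacter G) {ψ ψ' : IrrCharacter G}
    (h : SameBlock M (ψ : G → ℂ) (ψ' : G → ℂ)) :
    MemLocalIdeal M (tildeC p (χ : G → ℂ) ψ - tildeC p (χ : G → ℂ) ψ') :=
  spec_congr (irr_tilde_spec p χ) h

theorem tilde_Q_mem {G : Type u} [Group G] [Fintype G] {p : ℕ} [Fact p.Prime] {M : Ideal AlgInt}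
    (hM : IsPModular p M) (χ ψ : IrrCharacter G) :
    MemLocalRing M (classInner (tildeFun p (χ : G → ℂ)) (ψ : G → ℂ) / (ψ : G → ℂ) 1) := by
  haveI hMp : M.IsPrime := hM.2.1.isPrime
  rw [tilde_inner_eq]
  exact mem_locRing.mp ((locRing M).mul_mem (mem_locRing.mpr (ordCompl_inv_mem hM))
    (mem_locRing.mpr (tildeC_mem χ ψ)))

theorem tilde_inner_eq_zero {G : Type u} [Group G] [Fintype G] {p : ℕ} [Fact p.Prime]
    {M : Ideal AlgInt} (hM : IsPModular p M)
    (χ ψ : IrrCharacter G) (h : ¬ SameBlock M (χ : G → ℂ) (ψ : G → ℂ)) :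
    classInner (tildeFun p (χ : G → ℂ)) (ψ : G → ℂ) = 0 := by
  classical
  haveI hMp : M.IsPrime := hM.2.1.isPrime
  have h1 := block_reg_orth hM χ ψ h
  rw [finsum_setOf_eq_sum'] at h1
  unfold classInner
  have e : ∀ g : G, tildeFun p (χ : G → ℂ) g * starRingEnd ℂ ((ψ : G → ℂ) g) =
      ((p ^ (Nat.card G).factorization p : ℕ) : ℂ) *
      (if ¬ p ∣ orderOf g then (χ : G → ℂ) g * starRingEnd ℂ ((ψ : G → ℂ) g) else 0) := by
    intro g
    unfold tildeFun
    by_cases hg : p ∣ orderOf g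
    · rw [if_pos hg, if_neg (not_not.mpr hg), zero_mul, mul_zero]
    · rw [if_neg hg, if_pos hg, mul_assoc]
  rw [Finset.sum_congr rfl fun (g : G) _ => e g, ← Finset.mul_sum, h1, mul_zero, mul_zero]

theorem tildeC_eq_zero {G : Type u} [Group G] [Fintype G] {p : ℕ} [Fact p.Prime]
    {M : Ideal AlgInt} (hM : IsPModular p M) (χ ψ : IrrCharacter G)
    (h : ¬ SameBlock M (χ : G → ℂ) (ψ : G → ℂ)) : tildeC p (χ : G → ℂ) ψ = 0 := by
  have h1 := tilde_inner_eq p (χ : G → ℂ) ψ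
  rw [tilde_inner_eq_zero hM χ ψ h, zero_div] at h1
  rcases mul_eq_zero.mp h1.symm with h2 | h2
  · exact absurd h2 (inv_ne_zero (ordCompl_cast_ne_zero p))
  · exact h2

theorem tilde_inner_symm {G : Type u} [Group G] [Fintype G] (p : ℕ) [Fact p.Prime]
    (χ ξ : IrrCharacter G) :
    classInner (tildeFun p (ξ : G → ℂ)) (χ : G → ℂ) =
      classInner (tildeFun p (χ : G → ℂ)) (ξ : G → ℂ) := by
  obtain ⟨n, hn⟩ := tilde_inner_int p χ ξ
  have h1 : classInner (tildeFun p (ξ : G → ℂ)) (χ : G → ℂ) =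
      starRingEnd ℂ (classInner (tildeFun p (χ : G → ℂ)) (ξ : G → ℂ)) := by
    rw [classInner_def', classInner_def', map_mul, map_inv₀, map_natCast, map_sum]
    congr 1
    refine Finset.sum_congr rfl fun (g : G) _ => ?_
    rw [map_mul, Complex.conj_conj]
    unfold tildeFun
    by_cases h : p ∣ orderOf g
    · rw [if_pos h, if_pos h, map_zero, zero_mul, zero_mul]
    · rw [if_neg h, if_neg h, map_mul, map_natCast]; ring
  rw [h1, hn, map_intCast]

theorem memLocalRing_neg_iff {M : Ideal AlgInt} [hMp : M.IsPrime] {z : ℂ} :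
    MemLocalRing M (-z) ↔ MemLocalRing M z :=
  ⟨fun h => by
    have h1 := mem_locRing.mp ((locRing M).neg_mem (mem_locRing.mpr h))
    rwa [neg_neg] at h1,
   fun h => mem_locRing.mp ((locRing M).neg_mem (mem_locRing.mpr h))⟩

theorem memLocalIdeal_neg_iff {M : Ideal AlgInt} [hMp : M.IsPrime] {z : ℂ} :
    MemLocalIdeal M (-z) ↔ MemLocalIdeal M z :=
  ⟨fun h => by
    have h1 := memLocalIdeal_neg h
    rwa [neg_neg] at h1,
   fun h => memLocalIdeal_neg h⟩

/-- membership of a quotient of naturals in the local ring / its maximal ideal is read off the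
`p`-adic valuations -/
theorem nat_div_mem {p : ℕ} {M : Ideal AlgInt} (hM : IsPModular p M) {N m : ℕ}
    (hN : N ≠ 0) (hm : m ≠ 0) :
    (MemLocalRing M ((N : ℂ) / (m : ℂ)) ↔ m.factorization p ≤ N.factorization p) ∧
    (MemLocalIdeal M ((N : ℂ) / (m : ℂ)) ↔ m.factorization p < N.factorization p) := by
  haveI hMp : M.IsPrime := hM.2.1.isPrime
  have hN0 : (N : ℂ) ≠ 0 := Nat.cast_ne_zero.mpr hN
  have hm0 : (m : ℂ) ≠ 0 := Nat.cast_ne_zero.mpr hm
  have e1 : ((N : ℂ) / (m : ℂ)) * ((m : ℂ) / (N : ℂ)) = 1 := by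
    rw [div_mul_div_comm, mul_comm (N : ℂ) (m : ℂ)]
    exact div_self (mul_ne_zero hm0 hN0)
  have e2 : ((m : ℂ) / (N : ℂ)) * ((N : ℂ) / (m : ℂ)) = 1 := by
    rw [mul_comm]; exact e1
  refine ⟨⟨fun h => ?_, natCast_div_memLocalRing hM hm hN⟩,
    ⟨fun h => ?_, natCast_div_memLocalIdeal hM hm hN⟩⟩
  · by_contra hlt
    push_neg at hlt
    have h2 := natCast_div_memLocalIdeal hM hN hm hlt
    have h3 := memLocalIdeal_mul_left h h2
    rw [e1] at h3
    exact not_memLocalIdeal_one h3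
  · by_contra hle
    push_neg at hle
    have h2 := natCast_div_memLocalRing hM hN hm hle
    have h3 := memLocalIdeal_mul_left h2 h
    rw [e2] at h3
    exact not_memLocalIdeal_one h3

theorem int_div_mem {p : ℕ} [Fact p.Prime] {M : Ideal AlgInt} (hM : IsPModular p M) {n : ℤ}
    {m : ℕ} (hn : n ≠ 0) (hm : m ≠ 0) :
    (MemLocalRing M ((n : ℂ) / (m : ℂ)) ↔ m.factorization p ≤ padicValInt p n) ∧
    (MemLocalIdeal M ((n : ℂ) / (m : ℂ)) ↔ m.factorization p < padicValInt p n) := by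
  haveI hMp : M.IsPrime := hM.2.1.isPrime
  have hp : p.Prime := Fact.out
  have hk0 : n.natAbs ≠ 0 := Int.natAbs_ne_zero.mpr hn
  have hpv : padicValInt p n = n.natAbs.factorization p := (Nat.factorization_def _ hp).symm
  have hnat := nat_div_mem hM hk0 hm
  rw [hpv]
  rcases Int.natAbs_eq n with h | h
  · have hc : (n : ℂ) = (n.natAbs : ℂ) := by
      conv_lhs => rw [h]
      exact Int.cast_natCast _
    rw [hc]
    exact hnat
  · have hc : (n : ℂ) = -(n.natAbs : ℂ) := by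
      conv_lhs => rw [h]
      rw [Int.cast_neg, Int.cast_natCast]
    rw [hc, neg_div]
    exact ⟨memLocalRing_neg_iff.trans hnat.1, memLocalIdeal_neg_iff.trans hnat.2⟩

/-- `tildeC p χ ξ` is a unit iff `⟨tildeFun p χ, ξ⟩` is a nonzero integer whose `p`-adic
valuation is that of the degree of `ξ` -/
theorem tilde_E_iff {G : Type u} [Group G] [Fintype G] {p : ℕ} [Fact p.Prime] {M : Ideal AlgInt}
    (hM : IsPModular p M) (χ ξ : IrrCharacter G) :
    (∃ n : ℤ, classInner (tildeFun p (χ : G → ℂ)) (ξ : G → ℂ) = (n : ℂ) ∧ n ≠ 0 ∧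
      padicValInt p n = (charDegree (ξ : G → ℂ)).factorization p) ↔
    ¬ MemLocalIdeal M (tildeC p (χ : G → ℂ) ξ) := by
  haveI hMp : M.IsPrime := hM.2.1.isPrime
  rw [← tilde_Q_ideal_iff hM]
  obtain ⟨n, hn⟩ := tilde_inner_int p χ ξ
  obtain ⟨hd1, hd0, -⟩ := irr_charDegree_spec ξ
  have hQR := tilde_Q_mem hM χ ξ
  constructor
  · rintro ⟨n', hn', hn'0, hpv⟩ hmem
    have hnn : n' = n := Int.cast_injective (hn'.symm.trans hn)
    rw [hnn] at hn'0 hpv
    rw [hn, hd1] at hmem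
    have := ((int_div_mem hM hn'0 hd0).2).mp hmem
    omega
  · intro hmem
    have hn0 : n ≠ 0 := by
      rintro rfl
      apply hmem
      rw [hn, Int.cast_zero, zero_div]
      exact memLocalIdeal_zero hMp.ne_top
    refine ⟨n, hn, hn0, ?_⟩
    rw [hn, hd1] at hQR hmem
    have h1 := ((int_div_mem hM hn0 hd0).1).mp hQR
    have h2 : ¬ ((charDegree (ξ : G → ℂ)).factorization p < padicValInt p n) :=
      fun h => hmem (((int_div_mem hM hn0 hd0).2).mpr h)
    omega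

theorem height_zero_of_unit {G : Type u} [Group G] [Fintype G] {p : ℕ} [Fact p.Prime]
    {M : Ideal AlgInt} (hM : IsPModular p M) (χ₀ χ₁ : IrrCharacter G)
    (hχ₁ : SameBlock M (χ₀ : G → ℂ) (χ₁ : G → ℂ))
    (hu : ¬ MemLocalIdeal M (tildeC p (χ₁ : G → ℂ) χ₁)) :
    blockHeight p (blockOf M (χ₀ : G → ℂ)) (χ₁ : G → ℂ) = 0 := by
  haveI hMp : M.IsPrime := hM.2.1.isPrime
  unfold blockHeight
  rw [Nat.sub_eq_zero_iff_le]
  refine le_csInf ⟨_, ⟨χ₁, hχ₁, rfl⟩⟩ ?_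
  rintro _ ⟨ψ, hψ, rfl⟩
  have hψ' : SameBlock M (χ₀ : G → ℂ) (ψ : G → ℂ) := hψ
  have h1 : SameBlock M (χ₁ : G → ℂ) (ψ : G → ℂ) := sameBlock_trans' (sameBlock_symm hχ₁) hψ'
  have hcong := tildeC_congr (p := p) χ₁ h1
  have hu2 : ¬ MemLocalIdeal M (tildeC p (χ₁ : G → ℂ) ψ) := by
    intro h
    apply hu
    have := memLocalIdeal_add hMp hcong h
    rwa [sub_add_cancel] at this
  obtain ⟨n, hn, hn0, hpv⟩ := (tilde_E_iff hM χ₁ ψ).mpr hu2
  have hsym := tilde_inner_symm p χ₁ ψ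
  have hQR := tilde_Q_mem hM ψ χ₁
  obtain ⟨hd1, hd0, -⟩ := irr_charDegree_spec χ₁
  rw [hsym, hn, hd1] at hQR
  have := ((int_div_mem hM hn0 hd0).1).mp hQR
  show (charDegree (χ₁ : G → ℂ)).factorization p ≤ (charDegree (ψ : G → ℂ)).factorization p
  omega

theorem unit_of_height_zero {G : Type u} [Group G] [Fintype G] {p : ℕ} [Fact p.Prime]
    {M : Ideal AlgInt} (hM : IsPModular p M)
    (χ₀ χ : IrrCharacter G) (hχ : SameBlock M (χ₀ : G → ℂ) (χ : G → ℂ))
    (h0 : blockHeight p (blockOf M (χ₀ : G → ℂ)) (χ : G → ℂ) = 0) :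
    ¬ MemLocalIdeal M (tildeC p (χ : G → ℂ) χ) := by
  classical
  haveI hMp : M.IsPrime := hM.2.1.isPrime
  have hp : p.Prime := Fact.out
  intro hmem
  obtain ⟨s, hs⟩ : ∃ s : ℕ, s = sInf ((fun ψ : IrrCharacter G =>
      (charDegree (ψ : G → ℂ)).factorization p) '' blockOf M (χ₀ : G → ℂ)) := ⟨_, rfl⟩
  have hsle : ∀ ψ : IrrCharacter G, SameBlock M (χ₀ : G → ℂ) (ψ : G → ℂ) →
      s ≤ (charDegree (ψ : G → ℂ)).factorization p := by
    intro ψ hψ
    rw [hs]
    exact Nat.sInf_le ⟨ψ, hψ, rfl⟩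
  have hχs : (charDegree (χ : G → ℂ)).factorization p ≤ s := by
    unfold blockHeight at h0
    rw [← hs] at h0
    exact Nat.sub_eq_zero_iff_le.mp h0
  obtain ⟨z, hz1, hz2⟩ := genChar_decomp (Cfsg.Agent.S0961.result p χ)
  have hz1' : ∀ ψ : IrrCharacter G,
      classInner (tildeFun p (χ : G → ℂ)) (ψ : G → ℂ) = (z ψ : ℂ) := hz1
  have hzB : ∀ ψ : IrrCharacter G, ¬ SameBlock M (χ₀ : G → ℂ) (ψ : G → ℂ) → z ψ = 0 := by
    intro ψ hψ
    have hns : ¬ SameBlock M (χ : G → ℂ) (ψ : G → ℂ) := fun h => hψ (sameBlock_trans' hχ h)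
    have h1 := tilde_inner_eq_zero hM χ ψ hns
    rw [hz1' ψ] at h1
    exact_mod_cast h1
  have hdvd : ∀ ψ : IrrCharacter G, (p : ℤ) ^ (s + 1) ∣ z ψ := by
    intro ψ
    by_cases hψ : SameBlock M (χ₀ : G → ℂ) (ψ : G → ℂ)
    · by_cases hz0 : z ψ = 0
      · rw [hz0]; exact dvd_zero _
      · have hcong := tildeC_congr (p := p) χ (sameBlock_trans' (sameBlock_symm hχ) hψ)
        have hC : MemLocalIdeal M (tildeC p (χ : G → ℂ) ψ) := by
          have h1 := memLocalIdeal_sub hmem hcong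
          rwa [sub_sub_cancel] at h1
        have hQ := (tilde_Q_ideal_iff hM (χ : G → ℂ) ψ).mpr hC
        obtain ⟨hd1, hd0, -⟩ := irr_charDegree_spec ψ
        rw [hz1' ψ, hd1] at hQ
        have hlt := ((int_div_mem hM hz0 hd0).2).mp hQ
        rw [padicValInt_dvd_iff]
        right
        have := hsle ψ hψ
        omega
    · rw [hzB ψ hψ]; exact dvd_zero _
  obtain ⟨b, hb⟩ : ∃ b : IrrCharacter G → ℤ, ∀ ψ, z ψ = (p : ℤ) ^ (s + 1) * b ψ :=
    ⟨fun ψ => z ψ / (p : ℤ) ^ (s + 1), fun ψ => (Int.mul_ediv_cancel' (hdvd ψ)).symm⟩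
  have hpp : (p : ℤ) ^ (s + 1) ≠ 0 := pow_ne_zero _ (Int.natCast_ne_zero.mpr hp.ne_zero)
  have hbB : ∀ ψ : IrrCharacter G, ¬ SameBlock M (χ₀ : G → ℂ) (ψ : G → ℂ) → b ψ = 0 := by
    intro ψ hψ
    have h1 := hb ψ
    rw [hzB ψ hψ] at h1
    rcases mul_eq_zero.mp h1.symm with h | h
    · exact absurd h hpp
    · exact h
  have hpc : (p : ℂ) ^ (s + 1) ≠ 0 := pow_ne_zero _ (Nat.cast_ne_zero.mpr hp.ne_zero)
  have hθ : ∀ g : G, tildeFun p (χ : G → ℂ) g =
      (p : ℂ) ^ (s + 1) * ∑ ψ : IrrCharacter G, (b ψ : ℂ) * (ψ : G → ℂ) g := by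
    intro g
    have h1 := congrFun hz2 g
    rw [Finset.sum_apply] at h1
    rw [Finset.mul_sum]
    refine h1.trans (Finset.sum_congr rfl fun ψ _ => ?_)
    rw [Pi.smul_apply, smul_eq_mul, hb ψ]
    push_cast
    ring
  have hsumB : ∀ g : G, ∑ ψ : IrrCharacter G, (b ψ : ℂ) * (ψ : G → ℂ) g =
      ∑ᶠ ψ ∈ blockOf M (χ₀ : G → ℂ), (b ψ : ℂ) * (ψ : G → ℂ) g := by
    intro g
    have e := finsum_setOf_eq_sum'
      (fun ψ : IrrCharacter G => SameBlock M (χ₀ : G → ℂ) (ψ : G → ℂ))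
      (fun ψ : IrrCharacter G => (b ψ : ℂ) * (ψ : G → ℂ) g)
    refine Eq.trans ?_ e.symm
    refine Finset.sum_congr rfl fun ψ _ => ?_
    by_cases hψ : SameBlock M (χ₀ : G → ℂ) (ψ : G → ℂ)
    · exact (if_pos hψ).symm
    · rw [hbB ψ hψ, Int.cast_zero, zero_mul]
      exact (if_neg hψ).symm
  have hA : ∃ n : IrrCharacter G → ℤ, ∀ g : G,
      (fun g : G => ∑ ψ : IrrCharacter G, (b ψ : ℂ) * (ψ : G → ℂ) g) g =
        ∑ᶠ ψ ∈ blockOf M (χ₀ : G → ℂ), (n ψ : ℂ) * (ψ : G → ℂ) g := ⟨b, hsumB⟩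
  have hB' : ∃ n : IrrCharacter G → ℤ, ∀ g : G,
      pRegularPart p (fun g : G => ∑ ψ : IrrCharacter G, (b ψ : ℂ) * (ψ : G → ℂ) g) g =
        ∑ᶠ ψ ∈ blockOf M (χ₀ : G → ℂ), (n ψ : ℂ) * (ψ : G → ℂ) g := by
    refine ⟨b, fun g => ?_⟩
    rw [← hsumB g]
    by_cases hg : p ∣ orderOf g
    · rw [pRegularPart_of_sing p _ hg]
      have h1 := hθ g
      have h2 : tildeFun p (χ : G → ℂ) g = 0 := if_pos hg
      rw [h2] at h1
      rcases mul_eq_zero.mp h1.symm with h | h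
      · exact absurd h hpc
      · exact h.symm
    · rw [pRegularPart_of_reg p _ hg]
  obtain ⟨k, hk⟩ := Cfsg.Agent.S4665.result p M hM (blockOf M (χ₀ : G → ℂ)) ⟨χ₀, rfl⟩ _ hA hB'
  obtain ⟨hd1, hd0, -⟩ := irr_charDegree_spec χ
  have h1 := hθ 1
  have h2 : tildeFun p (χ : G → ℂ) 1 =
      ((p ^ (Nat.card G).factorization p : ℕ) : ℂ) * (χ : G → ℂ) 1 :=
    if_neg (by rw [orderOf_one]; exact hp.not_dvd_one)
  have hk' : ∑ ψ : IrrCharacter G, (b ψ : ℂ) * (ψ : G → ℂ) 1 =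
      (p : ℂ) ^ (Nat.card G).factorization p * (k : ℂ) := hk
  rw [h2, hk', hd1] at h1
  have hpa : (p : ℂ) ^ (Nat.card G).factorization p ≠ 0 :=
    pow_ne_zero _ (Nat.cast_ne_zero.mpr hp.ne_zero)
  have h3 : ((charDegree (χ : G → ℂ) : ℤ) : ℂ) = (((p : ℤ) ^ (s + 1) * k : ℤ) : ℂ) := by
    push_cast
    push_cast at h1
    have h4 : (p : ℂ) ^ (Nat.card G).factorization p * (charDegree (χ : G → ℂ) : ℂ) =
        (p : ℂ) ^ (Nat.card G).factorization p * ((p : ℂ) ^ (s + 1) * (k : ℂ)) := by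
      rw [h1]; ring
    exact mul_left_cancel₀ hpa h4
  have h4 : (charDegree (χ : G → ℂ) : ℤ) = (p : ℤ) ^ (s + 1) * k := Int.cast_injective h3
  have h5 : p ^ (s + 1) ∣ charDegree (χ : G → ℂ) := by
    have h6 : ((p ^ (s + 1) : ℕ) : ℤ) ∣ (charDegree (χ : G → ℂ) : ℤ) :=
      ⟨k, by rw [h4]; push_cast; ring⟩
    exact Int.natCast_dvd_natCast.mp h6
  have h6 := (hp.pow_dvd_iff_le_factorization hd0).mp h5
  omega

/-- **Height zero criterion**: `χ` has height zero in its block iff `tildeC p χ χ` is a unit. -/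
theorem height_zero_iff {G : Type u} [Group G] [Fintype G] {p : ℕ} [Fact p.Prime]
    {M : Ideal AlgInt} (hM : IsPModular p M)
    (χ₀ χ : IrrCharacter G) (hχ : SameBlock M (χ₀ : G → ℂ) (χ : G → ℂ)) :
    blockHeight p (blockOf M (χ₀ : G → ℂ)) (χ : G → ℂ) = 0 ↔
      ¬ MemLocalIdeal M (tildeC p (χ : G → ℂ) χ) :=
  ⟨unit_of_height_zero hM χ₀ χ hχ, height_zero_of_unit hM χ₀ χ hχ⟩

/-- block induction and the truncated character -/
theorem tildeC_induced_congr {G : Type u} [Group G] [Fintype G] {p : ℕ} {M : Ideal AlgInt}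
    [hMp : M.IsPrime] (H : Subgroup G) [Fintype H]
    (ψ : IrrCharacter H) (χ' : IrrCharacter G)
    (hind : ∀ g : G, MemLocalIdeal M
      (inducedCentralChar H (ψ : H → ℂ) g - centralChar (χ' : G → ℂ) g))
    (χ : IrrCharacter G) :
    MemLocalIdeal M (tildeC p (fun h : H => (χ : G → ℂ) h) ψ - tildeC p (χ : G → ℂ) χ') := by
  have hΦ := tilde_phi_classFun p (χ : G → ℂ) (irr_isClassFunction χ)
  have hΦR : ∀ g : G, MemLocalRing M
      ((fun g : G => if p ∣ orderOf g then (0 : ℂ) else (χ : G → ℂ) g⁻¹) g) :=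
    fun g => tilde_phi_mem p (χ : G → ℂ) (fun g => integral_mem_locRing (irr_isIntegral χ g)) g
  have key := induced_classFun_congr H ψ χ' hind _ hΦ hΦR
  have e : tildeC p (fun h : H => (χ : G → ℂ) h) ψ = ((ψ : H → ℂ) 1)⁻¹ * ∑ h : H,
      (fun g : G => if p ∣ orderOf g then (0 : ℂ) else (χ : G → ℂ) g⁻¹) (h : G) *
        (ψ : H → ℂ) h := by
    unfold tildeC
    congr 1
    refine Finset.sum_congr rfl fun (h : H) _ => ?_
    have eo : orderOf (h : G) = orderOf h := Subgroup.orderOf_coe h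
    show (if p ∣ orderOf h then (0 : ℂ) else (χ : G → ℂ) ((h⁻¹ : H) : G)) * _ =
      (if p ∣ orderOf (h : G) then (0 : ℂ) else (χ : G → ℂ) (h : G)⁻¹) * _
    rw [eo]
    rfl
  rw [e]
  exact key

theorem tildeC_sum_smul {G : Type u} [Group G] [Fintype G] (p : ℕ) {ι : Type*} (s : Finset ι)
    (a : ι → ℂ) (F : ι → G → ℂ) (ψ : IrrCharacter G) :
    tildeC p (∑ i ∈ s, a i • F i) ψ = ∑ i ∈ s, a i * tildeC p (F i) ψ := by
  unfold tildeC
  have e1 : ∀ g : G,
      (if p ∣ orderOf g then (0 : ℂ) else (∑ i ∈ s, a i • F i) g⁻¹) * (ψ : G → ℂ) g =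
      ∑ i ∈ s, a i * ((if p ∣ orderOf g then (0 : ℂ) else F i g⁻¹) * (ψ : G → ℂ) g) := by
    intro g
    by_cases h : p ∣ orderOf g
    · rw [if_pos h, zero_mul]
      refine (Finset.sum_eq_zero fun i _ => ?_).symm
      rw [if_pos h, zero_mul, mul_zero]
    · rw [if_neg h, Finset.sum_apply, Finset.sum_mul]
      refine Finset.sum_congr rfl fun i _ => ?_
      rw [if_neg h, Pi.smul_apply, smul_eq_mul, mul_assoc]
  rw [Finset.sum_congr rfl fun (g : G) _ => e1 g, Finset.sum_comm, Finset.mul_sum]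
  refine Finset.sum_congr rfl fun i _ => ?_
  rw [← Finset.mul_sum]
  ring

end Cfsg.Agent.Helper22
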