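import Mathlib
import Cfsg.Agent.Helper22.BlkHtZero

/-!
# The block parts of an induced character (helper22)

* `blockPart_eq`, `blockPart_one_natCast`: unfolding `blockPart`.
* `ind_spec_sum`: the induced central character of a spectral vector in terms of the
  multiplicities of the induced character.
-/

set_option autoImplicit false

namespace Cfsg.Agent.Helper22

open Cfsg Cfsg.Agent.Helper5 Cfsg.Agent.Helper24

universe u

theorem classInner_inst_irrel {G : Type u} [Group G] (i1 i2 : Fintype G) (φ ψ : G → ℂ) :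
    @classInner G _ i1 φ ψ = @classInner G _ i2 φ ψ := by
  have h : i1 = i2 := Subsingleton.elim _ _
  rw [h]

theorem blockPart_eq {G : Type u} [Group G] [Fintype G] (B : Set (IrrCharacter G))
    (ϑ : G → ℂ) (g : G) :
    blockPart B ϑ g = ∑ᶠ χ ∈ B, classInner ϑ (χ : G → ℂ) * (χ : G → ℂ) g := by
  show ∑ᶠ χ ∈ B, @classInner G _ (Fintype.ofFinite G) ϑ (χ : G → ℂ) * (χ : G → ℂ) g = _
  refine finsum_congr fun χ => finsum_congr fun _ => ?_
  congr 1
  exact classInner_inst_irrel _ _ _ _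

theorem finsum_mem_eq_sum_ite {α : Type*} [Fintype α] (B : Set α) [DecidablePred (· ∈ B)]
    (f : α → ℂ) : ∑ᶠ x ∈ B, f x = ∑ x : α, if x ∈ B then f x else 0 :=
  finsum_setOf_eq_sum' (fun x => x ∈ B) f

theorem blockPart_one_natCast {G : Type u} [Group G] [Fintype G] (B : Set (IrrCharacter G))
    [DecidablePred (· ∈ B)] (ϑ : G → ℂ) (a : IrrCharacter G → ℕ)
    (ha : ∀ χ : IrrCharacter G, classInner ϑ (χ : G → ℂ) = (a χ : ℂ)) :
    blockPart B ϑ 1 = ((∑ χ : IrrCharacter G,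
      if χ ∈ B then a χ * charDegree (χ : G → ℂ) else 0 : ℕ) : ℂ) := by
  rw [blockPart_eq, finsum_mem_eq_sum_ite, Nat.cast_sum]
  refine Finset.sum_congr rfl fun χ _ => ?_
  by_cases h : χ ∈ B
  · rw [if_pos h, if_pos h, Nat.cast_mul, ha χ, (irr_charDegree_spec χ).1]
  · rw [if_neg h, if_neg h, Nat.cast_zero]

theorem ind_spec_sum {G : Type u} [Group G] [Fintype G] (H : Subgroup G) [Fintype H] (ξ : H → ℂ)
    (c : IrrCharacter G → ℂ) :
    (ξ 1)⁻¹ * ∑ h : H, specFun c (h : G) * ξ h =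
      (indFun H ξ 1)⁻¹ * ∑ χ : IrrCharacter G,
        c χ * (classInner (indFun H ξ) (χ : G → ℂ) * (χ : G → ℂ) 1) := by
  have hH : (Nat.card H : ℂ) ≠ 0 := Nat.cast_ne_zero.mpr Nat.card_pos.ne'
  have hidx : (Nat.card G : ℂ) = (Nat.card H : ℂ) * (H.index : ℂ) := by
    rw [← Nat.cast_mul, Subgroup.card_mul_index]
  have e1 : ∀ χ : IrrCharacter G, ∑ h : H, ξ h * starRingEnd ℂ ((χ : G → ℂ) h) =
      (Nat.card H : ℂ) * classInner (indFun H ξ) (χ : G → ℂ) := by
    intro χ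
    rw [classInner_indFun H ξ (χ : G → ℂ) (irr_isClassFunction χ), classInner_def', ← mul_assoc,
      mul_inv_cancel₀ hH, one_mul]
  have e2 : ∑ h : H, specFun c (h : G) * ξ h = (Nat.card G : ℂ)⁻¹ *
      ∑ χ : IrrCharacter G, c χ * ((χ : G → ℂ) 1 *
        ((Nat.card H : ℂ) * classInner (indFun H ξ) (χ : G → ℂ))) := by
    unfold specFun
    have e3 : ∀ h : H, (Nat.card G : ℂ)⁻¹ * (∑ χ : IrrCharacter G,
        c χ * ((χ : G → ℂ) 1 * starRingEnd ℂ ((χ : G → ℂ) (h : G)))) * ξ h =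
        (Nat.card G : ℂ)⁻¹ * ∑ χ : IrrCharacter G,
          c χ * ((χ : G → ℂ) 1 * (ξ h * starRingEnd ℂ ((χ : G → ℂ) (h : G)))) := by
      intro h
      rw [mul_assoc, Finset.sum_mul]
      congr 1
      exact Finset.sum_congr rfl fun χ _ => by ring
    rw [Finset.sum_congr rfl fun (h : H) _ => e3 h, ← Finset.mul_sum, Finset.sum_comm]
    congr 1
    refine Finset.sum_congr rfl fun χ _ => ?_
    rw [← Finset.mul_sum, ← Finset.mul_sum, e1 χ]
  have e4 : ∑ χ : IrrCharacter G, c χ * ((χ : G → ℂ) 1 *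
      ((Nat.card H : ℂ) * classInner (indFun H ξ) (χ : G → ℂ))) =
      (Nat.card H : ℂ) * ∑ χ : IrrCharacter G,
        c χ * (classInner (indFun H ξ) (χ : G → ℂ) * (χ : G → ℂ) 1) := by
    rw [Finset.mul_sum]
    exact Finset.sum_congr rfl fun χ _ => by ring
  rw [e2, e4, Cfsg.Agent.Helper24.indFun_one, hidx, mul_inv, mul_inv]
  generalize (∑ χ : IrrCharacter G,
    c χ * (classInner (indFun H ξ) (χ : G → ℂ) * (χ : G → ℂ) 1)) = S
  have h1 := inv_mul_cancel₀ hH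
  linear_combination ((ξ 1)⁻¹ * (H.index : ℂ)⁻¹ * S) * h1

/-- the congruence behind the block decomposition of an induced character: for a block `B₁` of
`G` and a block `b` of `H` inducing the block of `χ₀`, the degree of the `B₁`-part of `ξ^G`
divided by the degree of `ξ^G` is congruent to `1` or `0`. -/
theorem indPart_congr {G : Type u} [Group G] [Fintype G] {M : Ideal AlgInt} [hMp : M.IsPrime]
    (H : Subgroup G) [Fintype H] (ξ : IrrCharacter H) (χ₀ χ₁ : IrrCharacter G)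
    (hind : ∀ g : G, MemLocalIdeal M
      (inducedCentralChar H (ξ : H → ℂ) g - centralChar (χ₀ : G → ℂ) g))
    [DecidablePred (· ∈ blockOf M (χ₁ : G → ℂ))]
    (a : IrrCharacter G → ℕ)
    (ha : ∀ χ : IrrCharacter G, classInner (indFun H (ξ : H → ℂ)) (χ : G → ℂ) = (a χ : ℂ)) :
    MemLocalIdeal M (((∑ χ : IrrCharacter G,
      if χ ∈ blockOf M (χ₁ : G → ℂ) then a χ * charDegree (χ : G → ℂ) else 0 : ℕ) : ℂ) /
        indFun H (ξ : H → ℂ) 1 -
      (if χ₀ ∈ blockOf M (χ₁ : G → ℂ) then (1 : ℂ) else 0)) := by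
  obtain ⟨c, hc, hcv⟩ := osima (M := M) χ₁
  have h1 := induced_classFun_congr H ξ χ₀ hind (specFun c) (specFun_isClassFunction c)
    (mem_specRing.mp hc)
  rw [ind_spec_sum, spec_inversion] at h1
  have e1 : ((χ₀ : G → ℂ) 1)⁻¹ * (c χ₀ * (χ₀ : G → ℂ) 1) =
      (if χ₀ ∈ blockOf M (χ₁ : G → ℂ) then (1 : ℂ) else 0) := by
    have hne := Cfsg.Agent.Helper5.irr_one_ne_zero χ₀
    by_cases h : χ₀ ∈ blockOf M (χ₁ : G → ℂ)
    · rw [if_pos h, (hcv χ₀).1 h, one_mul, inv_mul_cancel₀ hne]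
    · rw [if_neg h, (hcv χ₀).2 h, zero_mul, mul_zero]
  have e2 : (indFun H (ξ : H → ℂ) 1)⁻¹ * ∑ χ : IrrCharacter G,
      c χ * (classInner (indFun H (ξ : H → ℂ)) (χ : G → ℂ) * (χ : G → ℂ) 1) =
      ((∑ χ : IrrCharacter G,
        if χ ∈ blockOf M (χ₁ : G → ℂ) then a χ * charDegree (χ : G → ℂ) else 0 : ℕ) : ℂ) /
        indFun H (ξ : H → ℂ) 1 := by
    rw [div_eq_inv_mul, Nat.cast_sum]
    congr 1
    refine Finset.sum_congr rfl fun χ _ => ?_
    by_cases h : χ ∈ blockOf M (χ₁ : G → ℂ)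
    · rw [if_pos h, (hcv χ).1 h, one_mul, ha χ, (irr_charDegree_spec χ).1, Nat.cast_mul]
    · rw [if_neg h, (hcv χ).2 h, zero_mul, Nat.cast_zero]
  rw [e1, e2] at h1
  exact h1

end Cfsg.Agent.Helper22
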