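import Mathlib
import Cfsg.Agent.Helper22.BlkIndPart

/-!
# More on the truncated central character `tildeC` (helper22)

* `tildeC_eq_zero_of_vanish`, `tildeC_sub`, `tildeC_memIdeal`.
* `blockPart_fun_eq`: `blockPart B f` as a sum over the irreducible characters.
* `tildeC_blockPart`: `tildeC p (blockPart (blockOf M ψ) f) ψ = tildeC p f ψ` for class functions.
-/

set_option autoImplicit false

namespace Cfsg.Agent.Helper22

open Cfsg Cfsg.Agent.Helper5 Cfsg.Agent.Helper24

universe u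

theorem tildeC_eq_zero_of_vanish {G : Type u} [Group G] [Fintype G] (p : ℕ) (F : G → ℂ)
    (ψ : IrrCharacter G) (h : ∀ y : G, ¬ p ∣ orderOf y → F y = 0) : tildeC p F ψ = 0 := by
  unfold tildeC
  rw [Finset.sum_eq_zero, mul_zero]
  intro y _
  by_cases hy : p ∣ orderOf y
  · rw [if_pos hy, zero_mul]
  · rw [if_neg hy, h y⁻¹ (by rwa [orderOf_inv]), zero_mul]

theorem tildeC_sub {G : Type u} [Group G] [Fintype G] (p : ℕ) (F F' : G → ℂ)
    (ψ : IrrCharacter G) : tildeC p (F - F') ψ = tildeC p F ψ - tildeC p F' ψ := by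
  unfold tildeC
  rw [← mul_sub, ← Finset.sum_sub_distrib]
  congr 1
  refine Finset.sum_congr rfl fun (y : G) _ => ?_
  by_cases hy : p ∣ orderOf y
  · rw [if_pos hy, if_pos hy, if_pos hy, zero_mul, sub_zero]
  · rw [if_neg hy, if_neg hy, if_neg hy, Pi.sub_apply, sub_mul]

theorem tildeC_memIdeal {G : Type u} [Group G] [Fintype G] {M : Ideal AlgInt} [hMp : M.IsPrime]
    (p : ℕ) (F : G → ℂ) (hF : IsClassFunction G F) (hFI : ∀ g, MemLocalIdeal M (F g))
    (ψ : IrrCharacter G) : MemLocalIdeal M (tildeC p F ψ) := by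
  refine classFun_char_memIdeal _ (tilde_phi_classFun p F hF) (fun g => ?_) ψ
  show MemLocalIdeal M (if p ∣ orderOf g then (0 : ℂ) else F g⁻¹)
  split_ifs
  · exact memLocalIdeal_zero hMp.ne_top
  · exact hFI _

theorem blockPart_fun_eq {G : Type u} [Group G] [Fintype G] (B : Set (IrrCharacter G))
    [DecidablePred (· ∈ B)] (f : G → ℂ) :
    blockPart B f = ∑ ζ : IrrCharacter G,
      (if ζ ∈ B then classInner f (ζ : G → ℂ) else 0) • (ζ : G → ℂ) := by
  funext y
  rw [blockPart_eq, finsum_mem_eq_sum_ite, Finset.sum_apply]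
  refine Finset.sum_congr rfl fun ζ _ => ?_
  rw [Pi.smul_apply, smul_eq_mul]
  by_cases hζ : ζ ∈ B
  · rw [if_pos hζ, if_pos hζ]
  · rw [if_neg hζ, if_neg hζ, zero_mul]

/-- the `tildeC`-value at `ψ` only sees the part of `f` in the block of `ψ` -/
theorem tildeC_blockPart {G : Type u} [Group G] [Fintype G] {p : ℕ} [Fact p.Prime]
    {M : Ideal AlgInt} (hM : IsPModular p M) (f : G → ℂ) (hf : IsClassFunction G f)
    (ψ : IrrCharacter G) :
    tildeC p (blockPart (blockOf M (ψ : G → ℂ)) f) ψ = tildeC p f ψ := by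
  classical
  haveI hMp : M.IsPrime := hM.2.1.isPrime
  have hdec := classFunction_eq_sum_irr f hf
  have hdec' : tildeC p f ψ =
      ∑ ζ : IrrCharacter G, classInner f (ζ : G → ℂ) * tildeC p (ζ : G → ℂ) ψ :=
    (congrArg (fun F => tildeC p F ψ) hdec).trans
      (tildeC_sum_smul p Finset.univ (fun ζ : IrrCharacter G => classInner f (ζ : G → ℂ))
        (fun ζ : IrrCharacter G => (ζ : G → ℂ)) ψ)
  rw [blockPart_fun_eq, tildeC_sum_smul, hdec']
  refine Finset.sum_congr rfl fun ζ _ => ?_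
  by_cases hζ : ζ ∈ blockOf M (ψ : G → ℂ)
  · rw [if_pos hζ]
  · rw [if_neg hζ, zero_mul, tildeC_eq_zero hM ζ ψ (fun h => hζ (sameBlock_symm h)), mul_zero]

end Cfsg.Agent.Helper22
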