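import Mathlib
import Cfsg.Agent.Helper22.BlkHtZero2

/-!
# The contribution matrix of a block and the Brauer–Feit inequalities (helper22)

`tildeN p χ ψ` is the integer `⟨χ̃, ψ⟩` (`χ̃ = |G|_p χ` on `p`-regular elements, zero elsewhere).

* `tildeN_symm`, `tildeN_eq_zero` (different blocks), `tildeN_sq_sum` (`∑_ψ n_{χψ}² = |G|_p n_{χχ}`),
  `tildeN_self_bounds` (`0 < n_{χχ} ≤ |G|_p`, equality forces vanishing on `p`-singular elements).
* `tildeN_of_height_zero`, `tildeN_of_pos_height`: `p`-adic valuations of the entries.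
* `bf_height_le`: a character of positive height has height at most `d - 2`.
* `bf_row_zero`, `bf_row_pos`: the Brauer–Feit row inequalities.
-/

set_option autoImplicit false

namespace Cfsg.Agent.Helper22

open Cfsg Cfsg.Agent.Helper5 Cfsg.Agent.Helper24

universe u

section

variable {G : Type u} [Group G] [Fintype G]

/-- the integer `⟨χ̃, ψ⟩` -/
noncomputable def tildeN (p : ℕ) [Fact p.Prime] (χ ψ : IrrCharacter G) : ℤ :=
  Classical.choose (tilde_inner_int p χ ψ)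

theorem tildeN_spec (p : ℕ) [Fact p.Prime] (χ ψ : IrrCharacter G) :
    classInner (tildeFun p (χ : G → ℂ)) (ψ : G → ℂ) = (tildeN p χ ψ : ℂ) :=
  Classical.choose_spec (tilde_inner_int p χ ψ)

theorem tildeN_symm (p : ℕ) [Fact p.Prime] (χ ψ : IrrCharacter G) :
    tildeN p χ ψ = tildeN p ψ χ := by
  have h := tilde_inner_symm p χ ψ
  rw [tildeN_spec, tildeN_spec] at h
  exact (Int.cast_injective h).symm

theorem tildeN_eq_zero {p : ℕ} [Fact p.Prime] {M : Ideal AlgInt} (hM : IsPModular p M)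
    (χ ψ : IrrCharacter G) (h : ¬ SameBlock M (χ : G → ℂ) (ψ : G → ℂ)) : tildeN p χ ψ = 0 := by
  have h1 := tilde_inner_eq_zero hM χ ψ h
  rw [tildeN_spec] at h1
  exact_mod_cast h1

theorem tildeN_sq_sum (p : ℕ) [Fact p.Prime] (χ : IrrCharacter G) :
    ∑ ψ : IrrCharacter G, tildeN p χ ψ ^ 2 =
      (p : ℤ) ^ (Nat.card G).factorization p * tildeN p χ χ := by
  obtain ⟨z, hz1, hz2⟩ := genChar_decomp (Cfsg.Agent.S0961.result p χ)
  have hz1' : ∀ ψ : IrrCharacter G,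
      classInner (tildeFun p (χ : G → ℂ)) (ψ : G → ℂ) = (z ψ : ℂ) := hz1
  have hz : ∀ ψ : IrrCharacter G, z ψ = tildeN p χ ψ := fun ψ =>
    Int.cast_injective ((hz1' ψ).symm.trans (tildeN_spec p χ ψ))
  have e : tildeFun p (χ : G → ℂ) = ∑ ψ : IrrCharacter G, (z ψ : ℂ) • (ψ : G → ℂ) := hz2
  have h1 : classInner (tildeFun p (χ : G → ℂ)) (tildeFun p (χ : G → ℂ)) =
      ((p ^ (Nat.card G).factorization p : ℕ) : ℂ) *
        classInner (tildeFun p (χ : G → ℂ)) (χ : G → ℂ) := by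
    have hs : ∑ g : G, tildeFun p (χ : G → ℂ) g * starRingEnd ℂ (tildeFun p (χ : G → ℂ) g) =
        ((p ^ (Nat.card G).factorization p : ℕ) : ℂ) *
          ∑ g : G, tildeFun p (χ : G → ℂ) g * starRingEnd ℂ ((χ : G → ℂ) g) := by
      rw [Finset.mul_sum]
      refine Finset.sum_congr rfl fun (g : G) _ => ?_
      unfold tildeFun
      by_cases h : p ∣ orderOf g
      · rw [if_pos h, zero_mul, zero_mul, mul_zero]
      · rw [if_neg h, map_mul, map_natCast]; ring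
    rw [classInner_def', classInner_def', hs]
    ring
  have h2 : classInner (tildeFun p (χ : G → ℂ)) (tildeFun p (χ : G → ℂ)) =
      ∑ ψ : IrrCharacter G, (z ψ : ℂ) * (z ψ : ℂ) := by
    have h3 := classInner_sum_smul Finset.univ (fun ψ : IrrCharacter G => (z ψ : ℂ))
      (fun ψ : IrrCharacter G => (ψ : G → ℂ)) (tildeFun p (χ : G → ℂ))
    rw [← e] at h3
    rw [h3]
    refine Finset.sum_congr rfl fun ψ _ => ?_
    rw [classInner_conj_symm, hz1' ψ, map_intCast]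
  have h4 : ((∑ ψ : IrrCharacter G, tildeN p χ ψ ^ 2 : ℤ) : ℂ) =
      (((p : ℤ) ^ (Nat.card G).factorization p * tildeN p χ χ : ℤ) : ℂ) := by
    rw [Int.cast_sum, Int.cast_mul, Int.cast_pow, Int.cast_natCast, ← tildeN_spec p χ χ]
    have h5 := h2.symm.trans h1
    rw [Nat.cast_pow] at h5
    rw [← h5]
    refine Finset.sum_congr rfl fun ψ _ => ?_
    rw [Int.cast_pow, ← hz ψ, sq]
  exact Int.cast_injective h4

theorem tildeN_self_bounds (p : ℕ) [Fact p.Prime] (χ : IrrCharacter G) :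
    0 < tildeN p χ χ ∧ tildeN p χ χ ≤ (p : ℤ) ^ (Nat.card G).factorization p ∧
      (tildeN p χ χ = (p : ℤ) ^ (Nat.card G).factorization p →
        ∀ g : G, p ∣ orderOf g → (χ : G → ℂ) g = 0) := by
  classical
  have hp : p.Prime := Fact.out
  obtain ⟨N, hN⟩ : ∃ N : ℝ, N = (Nat.card G : ℝ) := ⟨_, rfl⟩
  have hNpos : 0 < N := by rw [hN]; exact Nat.cast_pos.mpr Nat.card_pos
  obtain ⟨R₁, hR₁⟩ : ∃ R₁ : ℝ, R₁ = ∑ g : G,
      if p ∣ orderOf g then 0 else Complex.normSq ((χ : G → ℂ) g) := ⟨_, rfl⟩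
  obtain ⟨R₂, hR₂⟩ : ∃ R₂ : ℝ, R₂ = ∑ g : G,
      if p ∣ orderOf g then Complex.normSq ((χ : G → ℂ) g) else 0 := ⟨_, rfl⟩
  have hG0 : (Nat.card G : ℂ) ≠ 0 := Nat.cast_ne_zero.mpr Nat.card_pos.ne'
  have hsum : R₁ + R₂ = N := by
    have h1 := irr_orthonormal χ χ
    rw [if_pos rfl, classInner_def'] at h1
    have h2 : ∑ g : G, (χ : G → ℂ) g * starRingEnd ℂ ((χ : G → ℂ) g) = (Nat.card G : ℂ) := by
      have h3 := congrArg (fun t => (Nat.card G : ℂ) * t) h1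
      beta_reduce at h3
      rwa [← mul_assoc, mul_inv_cancel₀ hG0, one_mul, mul_one] at h3
    have h3 : ((∑ g : G, Complex.normSq ((χ : G → ℂ) g) : ℝ) : ℂ) = ((Nat.card G : ℝ) : ℂ) := by
      rw [Complex.ofReal_sum, Complex.ofReal_natCast, ← h2]
      exact Finset.sum_congr rfl fun g _ => (Complex.mul_conj _).symm
    have h4 : ∑ g : G, Complex.normSq ((χ : G → ℂ) g) = (Nat.card G : ℝ) :=
      Complex.ofReal_injective h3
    rw [hR₁, hR₂, ← Finset.sum_add_distrib, hN, ← h4]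
    refine Finset.sum_congr rfl fun g _ => ?_
    by_cases h : p ∣ orderOf g
    · rw [if_pos h, if_pos h, zero_add]
    · rw [if_neg h, if_neg h, add_zero]
  have hR₁c : ((R₁ : ℝ) : ℂ) = ∑ g : G, if p ∣ orderOf g then (0 : ℂ) else
      (χ : G → ℂ) g * starRingEnd ℂ ((χ : G → ℂ) g) := by
    rw [hR₁, Complex.ofReal_sum]
    refine Finset.sum_congr rfl fun g _ => ?_
    by_cases h : p ∣ orderOf g
    · rw [if_pos h, if_pos h, Complex.ofReal_zero]
    · rw [if_neg h, if_neg h, Complex.mul_conj]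
  have hn : (tildeN p χ χ : ℝ) * N = (p : ℝ) ^ (Nat.card G).factorization p * R₁ := by
    have h1 := tildeN_spec p χ χ
    rw [classInner_def'] at h1
    have h2 : ∑ g : G, tildeFun p (χ : G → ℂ) g * starRingEnd ℂ ((χ : G → ℂ) g) =
        ((p ^ (Nat.card G).factorization p : ℕ) : ℂ) * ((R₁ : ℝ) : ℂ) := by
      rw [hR₁c, Finset.mul_sum]
      refine Finset.sum_congr rfl fun g _ => ?_
      unfold tildeFun
      by_cases h : p ∣ orderOf g
      · rw [if_pos h, if_pos h, zero_mul, mul_zero]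
      · rw [if_neg h, if_neg h, mul_assoc]
    rw [h2] at h1
    have h3 : (((tildeN p χ χ : ℝ) * N : ℝ) : ℂ) =
        (((p : ℝ) ^ (Nat.card G).factorization p * R₁ : ℝ) : ℂ) := by
      rw [hN, Complex.ofReal_mul, Complex.ofReal_mul, Complex.ofReal_intCast,
        Complex.ofReal_natCast, Complex.ofReal_pow, Complex.ofReal_natCast, ← h1, Nat.cast_pow,
        mul_comm ((Nat.card G : ℂ))⁻¹, mul_assoc, inv_mul_cancel₀ hG0, mul_one]
    exact Complex.ofReal_injective h3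
  have hterm : ∀ g ∈ (Finset.univ : Finset G),
      (0 : ℝ) ≤ (if p ∣ orderOf g then Complex.normSq ((χ : G → ℂ) g) else 0) := by
    intro g _
    split_ifs
    · exact Complex.normSq_nonneg _
    · exact le_refl _
  have hR₂nn : 0 ≤ R₂ := by
    rw [hR₂]
    exact Finset.sum_nonneg hterm
  have hR₁pos : 0 < R₁ := by
    have h1 : Complex.normSq ((χ : G → ℂ) 1) ≤ R₁ := by
      rw [hR₁]
      have h2 : ∀ g ∈ (Finset.univ : Finset G),
          (0 : ℝ) ≤ (if p ∣ orderOf g then 0 else Complex.normSq ((χ : G → ℂ) g)) := by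
        intro g _
        split_ifs
        · exact le_refl _
        · exact Complex.normSq_nonneg _
      have h3 := Finset.single_le_sum h2 (Finset.mem_univ (1 : G))
      rwa [if_neg (by rw [orderOf_one]; exact hp.not_dvd_one)] at h3
    have h4 : 0 < Complex.normSq ((χ : G → ℂ) 1) :=
      Complex.normSq_pos.mpr (Cfsg.Agent.Helper5.irr_one_ne_zero χ)
    linarith
  have hpa : (0 : ℝ) < (p : ℝ) ^ (Nat.card G).factorization p :=
    pow_pos (Nat.cast_pos.mpr hp.pos) _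
  refine ⟨?_, ?_, ?_⟩
  · have h1 : (0 : ℝ) < (tildeN p χ χ : ℝ) * N := by rw [hn]; exact mul_pos hpa hR₁pos
    have h2 : (0 : ℝ) < (tildeN p χ χ : ℝ) := by
      by_contra hneg
      push_neg at hneg
      nlinarith
    exact_mod_cast h2
  · have h1 : (tildeN p χ χ : ℝ) * N ≤ (p : ℝ) ^ (Nat.card G).factorization p * N := by
      rw [hn]
      exact mul_le_mul_of_nonneg_left (by linarith) hpa.le
    have h2 : (tildeN p χ χ : ℝ) ≤ (p : ℝ) ^ (Nat.card G).factorization p :=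
      le_of_mul_le_mul_right h1 hNpos
    exact_mod_cast h2
  · intro heq g hg
    have h1 : (tildeN p χ χ : ℝ) = (p : ℝ) ^ (Nat.card G).factorization p := by
      exact_mod_cast congrArg (Int.cast : ℤ → ℝ) heq
    rw [h1] at hn
    have h2 : N = R₁ := mul_left_cancel₀ hpa.ne' hn
    have hR20 : ∑ g : G, (if p ∣ orderOf g then Complex.normSq ((χ : G → ℂ) g) else 0) = 0 := by
      rw [← hR₂]; linarith
    have h3 := (Finset.sum_eq_zero_iff_of_nonneg hterm).mp hR20 g (Finset.mem_univ g)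
    rw [if_pos hg] at h3
    exact Complex.normSq_eq_zero.mp h3

theorem tildeN_of_height_zero {p : ℕ} [Fact p.Prime] {M : Ideal AlgInt} (hM : IsPModular p M)
    (χ₀ χ₁ ψ : IrrCharacter G) (hχ₁ : SameBlock M (χ₀ : G → ℂ) (χ₁ : G → ℂ))
    (h0 : blockHeight p (blockOf M (χ₀ : G → ℂ)) (χ₁ : G → ℂ) = 0)
    (hψ : SameBlock M (χ₀ : G → ℂ) (ψ : G → ℂ)) :
    tildeN p χ₁ ψ ≠ 0 ∧
      padicValInt p (tildeN p χ₁ ψ) = (charDegree (ψ : G → ℂ)).factorization p := by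
  haveI hMp : M.IsPrime := hM.2.1.isPrime
  have hu := unit_of_height_zero hM χ₀ χ₁ hχ₁ h0
  have hcong := tildeC_congr (p := p) χ₁ (sameBlock_trans' (sameBlock_symm hχ₁) hψ)
  have hu2 : ¬ MemLocalIdeal M (tildeC p (χ₁ : G → ℂ) ψ) := by
    intro h
    apply hu
    have h1 := memLocalIdeal_add hMp hcong h
    rwa [sub_add_cancel] at h1
  obtain ⟨n, hn, hn0, hpv⟩ := (tilde_E_iff hM χ₁ ψ).mpr hu2
  have hnn : n = tildeN p χ₁ ψ := Int.cast_injective (hn.symm.trans (tildeN_spec p χ₁ ψ))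
  rw [← hnn]
  exact ⟨hn0, hpv⟩

theorem tildeN_of_pos_height {p : ℕ} [Fact p.Prime] {M : Ideal AlgInt} (hM : IsPModular p M)
    (χ₀ χ ψ : IrrCharacter G) (hχ : SameBlock M (χ₀ : G → ℂ) (χ : G → ℂ))
    (hpos : blockHeight p (blockOf M (χ₀ : G → ℂ)) (χ : G → ℂ) ≠ 0)
    (hψ : SameBlock M (χ₀ : G → ℂ) (ψ : G → ℂ)) (hne : tildeN p χ ψ ≠ 0) :
    (charDegree (ψ : G → ℂ)).factorization p < padicValInt p (tildeN p χ ψ) := by
  haveI hMp : M.IsPrime := hM.2.1.isPrime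
  have hI : MemLocalIdeal M (tildeC p (χ : G → ℂ) χ) := by
    by_contra h
    exact hpos (height_zero_of_unit hM χ₀ χ hχ h)
  have hcong := tildeC_congr (p := p) χ (sameBlock_trans' (sameBlock_symm hχ) hψ)
  have hC : MemLocalIdeal M (tildeC p (χ : G → ℂ) ψ) := by
    have h1 := memLocalIdeal_sub hI hcong
    rwa [sub_sub_cancel] at h1
  have hQ := (tilde_Q_ideal_iff hM (χ : G → ℂ) ψ).mpr hC
  obtain ⟨hd1, hd0, -⟩ := irr_charDegree_spec ψ
  rw [tildeN_spec, hd1] at hQ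
  exact ((int_div_mem hM hne hd0).2).mp hQ

theorem block_val_eq {p : ℕ} {M : Ideal AlgInt} (χ₀ ψ : IrrCharacter G)
    (hψ : SameBlock M (χ₀ : G → ℂ) (ψ : G → ℂ)) :
    (charDegree (ψ : G → ℂ)).factorization p =
      sInf ((fun ψ : IrrCharacter G => (charDegree (ψ : G → ℂ)).factorization p) ''
        blockOf M (χ₀ : G → ℂ)) + blockHeight p (blockOf M (χ₀ : G → ℂ)) (ψ : G → ℂ) := by
  unfold blockHeight
  have h : sInf ((fun ψ : IrrCharacter G => (charDegree (ψ : G → ℂ)).factorization p) ''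
      blockOf M (χ₀ : G → ℂ)) ≤ (charDegree (ψ : G → ℂ)).factorization p :=
    Nat.sInf_le ⟨ψ, hψ, rfl⟩
  omega

theorem block_defect_eq {M : Ideal AlgInt} [hMp : M.IsPrime] (p : ℕ) (χ₀ : IrrCharacter G) :
    (Nat.card G).factorization p =
      sInf ((fun ψ : IrrCharacter G => (charDegree (ψ : G → ℂ)).factorization p) ''
        blockOf M (χ₀ : G → ℂ)) + blockDefect p (blockOf M (χ₀ : G → ℂ)) := by
  unfold blockDefect
  have h : sInf ((fun ψ : IrrCharacter G => (charDegree (ψ : G → ℂ)).factorization p) ''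
      blockOf M (χ₀ : G → ℂ)) ≤ (Nat.card G).factorization p := by
    obtain ⟨-, hc0, hcdvd⟩ := irr_charDegree_spec χ₀
    have h1 : sInf ((fun ψ : IrrCharacter G => (charDegree (ψ : G → ℂ)).factorization p) ''
        blockOf M (χ₀ : G → ℂ)) ≤ (charDegree (χ₀ : G → ℂ)).factorization p :=
      Nat.sInf_le ⟨χ₀, sameBlock_refl _, rfl⟩
    exact h1.trans ((Nat.factorization_le_iff_dvd hc0 Nat.card_pos.ne').mpr hcdvd p)
  omega

/-- existence of a character of height zero -/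
theorem exists_height_zero {M : Ideal AlgInt} [hMp : M.IsPrime] (p : ℕ) (χ₀ : IrrCharacter G) :
    ∃ χ₁ : IrrCharacter G, χ₁ ∈ blockOf M (χ₀ : G → ℂ) ∧
      blockHeight p (blockOf M (χ₀ : G → ℂ)) (χ₁ : G → ℂ) = 0 := by
  have hne : ((fun ψ : IrrCharacter G => (charDegree (ψ : G → ℂ)).factorization p) ''
      blockOf M (χ₀ : G → ℂ)).Nonempty := ⟨_, ⟨χ₀, sameBlock_refl _, rfl⟩⟩
  obtain ⟨χ₁, hχ₁, hχ₁s⟩ := Nat.sInf_mem hne
  refine ⟨χ₁, hχ₁, ?_⟩
  unfold blockHeight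
  rw [Nat.sub_eq_zero_iff_le]
  exact hχ₁s.le

theorem tildeN_row (p : ℕ) [Fact p.Prime] [DecidableEq (IrrCharacter G)] (χ : IrrCharacter G) :
    ∑ ψ ∈ (Finset.univ : Finset (IrrCharacter G)).erase χ, tildeN p χ ψ ^ 2 =
      tildeN p χ χ * ((p : ℤ) ^ (Nat.card G).factorization p - tildeN p χ χ) := by
  have h1 := tildeN_sq_sum p χ
  have h2 := Finset.add_sum_erase Finset.univ (fun ψ : IrrCharacter G => tildeN p χ ψ ^ 2)
    (Finset.mem_univ χ)
  beta_reduce at h2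
  linear_combination h2 + h1

end

theorem sq_le_sq_of_pow_dvd {q n : ℤ} (hdvd : q ∣ n) (hn : n ≠ 0) : q ^ 2 ≤ n ^ 2 := by
  obtain ⟨c, rfl⟩ := hdvd
  have hc : c ≠ 0 := fun h => hn (by rw [h, mul_zero])
  have h1 : 1 ≤ c ^ 2 := (one_le_sq_iff_one_le_abs c).mpr (Int.one_le_abs hc)
  nlinarith [mul_nonneg (sq_nonneg q) (sub_nonneg.mpr h1)]

theorem bf_numeric {ι : Type*} (U F : Finset ι) (hFU : F ⊆ U) (n : ι → ℤ) (e : ι → ℕ)
    (P S Dd n₁ : ℤ) (hS : 0 < S) (hrow : ∑ ψ ∈ U, n ψ ^ 2 = n₁ * (S * Dd - n₁))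
    (hterm : ∀ ψ ∈ F, (S * P ^ e ψ) ^ 2 ≤ n ψ ^ 2) :
    4 * ∑ ψ ∈ F, P ^ (2 * e ψ) ≤ Dd ^ 2 := by
  have h1 : ∑ ψ ∈ F, (S * P ^ e ψ) ^ 2 ≤ ∑ ψ ∈ U, n ψ ^ 2 :=
    (Finset.sum_le_sum hterm).trans
      (Finset.sum_le_sum_of_subset_of_nonneg hFU (fun ψ _ _ => sq_nonneg _))
  have h2 : ∑ ψ ∈ F, (S * P ^ e ψ) ^ 2 = S ^ 2 * ∑ ψ ∈ F, P ^ (2 * e ψ) := by
    rw [Finset.mul_sum]
    exact Finset.sum_congr rfl fun ψ _ => by ring
  have h4 : 4 * (n₁ * (S * Dd - n₁)) ≤ (S * Dd) ^ 2 := by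
    nlinarith [sq_nonneg (S * Dd - 2 * n₁)]
  have key : S ^ 2 * (4 * ∑ ψ ∈ F, P ^ (2 * e ψ)) ≤ S ^ 2 * Dd ^ 2 := by
    have e1 : S ^ 2 * (4 * ∑ ψ ∈ F, P ^ (2 * e ψ)) = 4 * (S ^ 2 * ∑ ψ ∈ F, P ^ (2 * e ψ)) := by
      ring
    have e2 : S ^ 2 * Dd ^ 2 = (S * Dd) ^ 2 := by ring
    rw [e1, ← h2, e2]
    linarith
  exact le_of_mul_le_mul_left key (pow_pos hS 2)

section

variable {G : Type u} [Group G] [Fintype G]

/-- **Brauer–Feit**: a character of positive height `h` in a block of defect `d` has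
`h + 2 ≤ d`. -/
theorem bf_height_le {p : ℕ} [Fact p.Prime] {M : Ideal AlgInt} (hM : IsPModular p M)
    (χ₀ χ : IrrCharacter G) (hχ : SameBlock M (χ₀ : G → ℂ) (χ : G → ℂ))
    (hpos : blockHeight p (blockOf M (χ₀ : G → ℂ)) (χ : G → ℂ) ≠ 0) :
    blockHeight p (blockOf M (χ₀ : G → ℂ)) (χ : G → ℂ) + 2 ≤
      blockDefect p (blockOf M (χ₀ : G → ℂ)) := by
  haveI hMp : M.IsPrime := hM.2.1.isPrime
  have hp : p.Prime := Fact.out
  have hval := block_val_eq (p := p) χ₀ χ hχ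
  have hdef := block_defect_eq (M := M) p χ₀
  obtain ⟨hn0, hnle, hneq⟩ := tildeN_self_bounds p χ
  have hlt := tildeN_of_pos_height hM χ₀ χ χ hχ hpos hχ hn0.ne'
  have hdvd := padicValInt_dvd (p := p) (tildeN p χ χ)
  have hle1 : (p : ℤ) ^ padicValInt p (tildeN p χ χ) ≤ tildeN p χ χ := Int.le_of_dvd hn0 hdvd
  have hp1 : (1 : ℤ) < (p : ℤ) := by exact_mod_cast hp.one_lt
  have hne : tildeN p χ χ ≠ (p : ℤ) ^ (Nat.card G).factorization p := by
    intro heq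
    have hv := hneq heq
    have h1 := pow_dvd_degree_of_vanish p χ hv
    obtain ⟨-, hd0, -⟩ := irr_charDegree_spec χ
    have h2 := (hp.pow_dvd_iff_le_factorization hd0).mp h1
    have h3 : (p : ℤ) ^ padicValInt p (tildeN p χ χ) ≤
        (p : ℤ) ^ (Nat.card G).factorization p := hle1.trans hnle
    have h4 := (pow_le_pow_iff_right₀ hp1).mp h3
    omega
  have hlt2 : tildeN p χ χ < (p : ℤ) ^ (Nat.card G).factorization p := lt_of_le_of_ne hnle hne
  have h3 : (p : ℤ) ^ padicValInt p (tildeN p χ χ) <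
      (p : ℤ) ^ (Nat.card G).factorization p := lt_of_le_of_lt hle1 hlt2
  have h4 := (pow_lt_pow_iff_right₀ hp1).mp h3
  omega

/-- **Brauer–Feit row inequality** for a character `χ₁` of height zero. -/
theorem bf_row_zero {p : ℕ} [Fact p.Prime] {M : Ideal AlgInt} (hM : IsPModular p M)
    (χ₀ χ₁ : IrrCharacter G) (hχ₁ : SameBlock M (χ₀ : G → ℂ) (χ₁ : G → ℂ))
    (h0 : blockHeight p (blockOf M (χ₀ : G → ℂ)) (χ₁ : G → ℂ) = 0)
    (F : Finset (IrrCharacter G))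
    (hF : ∀ ψ ∈ F, ψ ∈ blockOf M (χ₀ : G → ℂ) ∧ ψ ≠ χ₁) :
    4 * ∑ ψ ∈ F, p ^ (2 * blockHeight p (blockOf M (χ₀ : G → ℂ)) (ψ : G → ℂ)) ≤
      p ^ (2 * blockDefect p (blockOf M (χ₀ : G → ℂ))) := by
  classical
  haveI hMp : M.IsPrime := hM.2.1.isPrime
  have hp : p.Prime := Fact.out
  obtain ⟨s, hs⟩ : ∃ s : ℕ, s = sInf ((fun ψ : IrrCharacter G =>
      (charDegree (ψ : G → ℂ)).factorization p) '' blockOf M (χ₀ : G → ℂ)) := ⟨_, rfl⟩
  have hval : ∀ ψ : IrrCharacter G, ψ ∈ blockOf M (χ₀ : G → ℂ) →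
      (charDegree (ψ : G → ℂ)).factorization p =
        s + blockHeight p (blockOf M (χ₀ : G → ℂ)) (ψ : G → ℂ) :=
    fun ψ hψ => by rw [hs]; exact block_val_eq χ₀ ψ hψ
  have hdef : (Nat.card G).factorization p = s + blockDefect p (blockOf M (χ₀ : G → ℂ)) := by
    rw [hs]; exact block_defect_eq p χ₀
  have hFU : F ⊆ (Finset.univ : Finset (IrrCharacter G)).erase χ₁ :=
    fun ψ hψ => Finset.mem_erase.mpr ⟨(hF ψ hψ).2, Finset.mem_univ _⟩
  have hterm : ∀ ψ ∈ F, ((p : ℤ) ^ s *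
      (p : ℤ) ^ blockHeight p (blockOf M (χ₀ : G → ℂ)) (ψ : G → ℂ)) ^ 2 ≤ tildeN p χ₁ ψ ^ 2 := by
    intro ψ hψ
    obtain ⟨hψB, -⟩ := hF ψ hψ
    obtain ⟨hne, hpv⟩ := tildeN_of_height_zero hM χ₀ χ₁ ψ hχ₁ h0 hψB
    have hdvd : (p : ℤ) ^ s * (p : ℤ) ^ blockHeight p (blockOf M (χ₀ : G → ℂ)) (ψ : G → ℂ) ∣
        tildeN p χ₁ ψ := by
      rw [← pow_add, ← hval ψ hψB, ← hpv]
      exact padicValInt_dvd _
    exact sq_le_sq_of_pow_dvd hdvd hne
  have hrow : ∑ ψ ∈ (Finset.univ : Finset (IrrCharacter G)).erase χ₁, tildeN p χ₁ ψ ^ 2 =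
      tildeN p χ₁ χ₁ * ((p : ℤ) ^ s * (p : ℤ) ^ blockDefect p (blockOf M (χ₀ : G → ℂ)) -
        tildeN p χ₁ χ₁) := by
    rw [tildeN_row, hdef, pow_add]
  have h1 := bf_numeric ((Finset.univ : Finset (IrrCharacter G)).erase χ₁) F hFU
    (fun ψ => tildeN p χ₁ ψ)
    (fun ψ => blockHeight p (blockOf M (χ₀ : G → ℂ)) (ψ : G → ℂ)) (p : ℤ) ((p : ℤ) ^ s)
    ((p : ℤ) ^ blockDefect p (blockOf M (χ₀ : G → ℂ))) (tildeN p χ₁ χ₁)
    (pow_pos (Int.natCast_pos.mpr hp.pos) s) hrow hterm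
  beta_reduce at h1
  have h2 : ((p : ℤ) ^ blockDefect p (blockOf M (χ₀ : G → ℂ))) ^ 2 =
      (p : ℤ) ^ (2 * blockDefect p (blockOf M (χ₀ : G → ℂ))) := by ring
  rw [h2] at h1
  exact_mod_cast h1

/-- **Brauer–Feit row inequality** for a character `χ` of positive height: the number of
characters of height zero is at most `p^(2d-2)/4`. -/
theorem bf_row_pos {p : ℕ} [Fact p.Prime] {M : Ideal AlgInt} (hM : IsPModular p M)
    (χ₀ χ : IrrCharacter G) (hχ : SameBlock M (χ₀ : G → ℂ) (χ : G → ℂ))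
    (hpos : blockHeight p (blockOf M (χ₀ : G → ℂ)) (χ : G → ℂ) ≠ 0)
    (F : Finset (IrrCharacter G))
    (hF : ∀ ψ ∈ F, ψ ∈ blockOf M (χ₀ : G → ℂ) ∧
      blockHeight p (blockOf M (χ₀ : G → ℂ)) (ψ : G → ℂ) = 0) :
    4 * (p ^ 2 * F.card) ≤ p ^ (2 * blockDefect p (blockOf M (χ₀ : G → ℂ))) := by
  classical
  haveI hMp : M.IsPrime := hM.2.1.isPrime
  have hp : p.Prime := Fact.out
  obtain ⟨s, hs⟩ : ∃ s : ℕ, s = sInf ((fun ψ : IrrCharacter G =>
      (charDegree (ψ : G → ℂ)).factorization p) '' blockOf M (χ₀ : G → ℂ)) := ⟨_, rfl⟩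
  have hvalχ : (charDegree (χ : G → ℂ)).factorization p =
      s + blockHeight p (blockOf M (χ₀ : G → ℂ)) (χ : G → ℂ) := by
    rw [hs]; exact block_val_eq χ₀ χ hχ
  have hdef : (Nat.card G).factorization p = s + blockDefect p (blockOf M (χ₀ : G → ℂ)) := by
    rw [hs]; exact block_defect_eq p χ₀
  have hFU : F ⊆ (Finset.univ : Finset (IrrCharacter G)).erase χ := by
    intro ψ hψ
    refine Finset.mem_erase.mpr ⟨?_, Finset.mem_univ _⟩
    rintro rfl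
    exact hpos (hF _ hψ).2
  have hterm : ∀ ψ ∈ F, ((p : ℤ) ^ s * (p : ℤ) ^ (1 : ℕ)) ^ 2 ≤ tildeN p χ ψ ^ 2 := by
    intro ψ hψ
    obtain ⟨hψB, hψ0⟩ := hF ψ hψ
    obtain ⟨hne, hpv⟩ := tildeN_of_height_zero hM χ₀ ψ χ hψB hψ0 hχ
    rw [tildeN_symm p ψ χ] at hne hpv
    have hdvd : (p : ℤ) ^ s * (p : ℤ) ^ (1 : ℕ) ∣ tildeN p χ ψ := by
      rw [← pow_add]
      refine (pow_dvd_pow (p : ℤ) ?_).trans (padicValInt_dvd (tildeN p χ ψ))
      rw [hpv, hvalχ]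
      have h1 : 0 < blockHeight p (blockOf M (χ₀ : G → ℂ)) (χ : G → ℂ) :=
        Nat.pos_of_ne_zero hpos
      omega
    exact sq_le_sq_of_pow_dvd hdvd hne
  have hrow : ∑ ψ ∈ (Finset.univ : Finset (IrrCharacter G)).erase χ, tildeN p χ ψ ^ 2 =
      tildeN p χ χ * ((p : ℤ) ^ s * (p : ℤ) ^ blockDefect p (blockOf M (χ₀ : G → ℂ)) -
        tildeN p χ χ) := by
    rw [tildeN_row, hdef, pow_add]
  have h1 := bf_numeric ((Finset.univ : Finset (IrrCharacter G)).erase χ) F hFU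
    (fun ψ => tildeN p χ ψ) (fun _ => 1) (p : ℤ) ((p : ℤ) ^ s)
    ((p : ℤ) ^ blockDefect p (blockOf M (χ₀ : G → ℂ))) (tildeN p χ χ)
    (pow_pos (Int.natCast_pos.mpr hp.pos) s) hrow hterm
  beta_reduce at h1
  rw [Finset.sum_const, nsmul_eq_mul, mul_one] at h1
  have h2 : ((p : ℤ) ^ blockDefect p (blockOf M (χ₀ : G → ℂ))) ^ 2 =
      (p : ℤ) ^ (2 * blockDefect p (blockOf M (χ₀ : G → ℂ))) := by ring
  rw [h2] at h1
  have h3 : ((4 * (p ^ 2 * F.card) : ℕ) : ℤ) ≤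
      ((p ^ (2 * blockDefect p (blockOf M (χ₀ : G → ℂ))) : ℕ) : ℤ) := by
    push_cast
    linarith
  exact_mod_cast h3

end

end Cfsg.Agent.Helper22
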