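import Mathlib
import Cfsg.Agent.Helper22.FT1
import Cfsg.Agent.S4567

/-!
# The Feit–Thompson inequality for abelian subgroups (helper22)

`FTHyp H`: `H` abelian, `H ∩ Z(G) = 1`, and the centralizer of a noncentral element meets at most
one conjugate of `H` nontrivially.  `ft_bound`: for an irreducible `χ` with `H ⊄ ker χ`,
`|H| · |[χ_H, 1_H]|² < χ(1)²`.
-/

set_option autoImplicit false

namespace Cfsg.Agent.Helper22

open Cfsg Cfsg.Agent.Helper24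

universe u

section Global

variable {G : Type u} [Group G] [Fintype G] [DecidableEq G]

theorem filter_val_image (N : Subgroup G) [Fintype ↥N] (P : G → Prop) [DecidablePred P]
    (hP : ∀ y, P y → y ∈ N) :
    (Finset.univ.filter (fun g : ↥N => P (g : G))).image Subtype.val = Finset.univ.filter P := by
  ext y
  simp only [Finset.mem_image, Finset.mem_filter, Finset.mem_univ, true_and]
  constructor
  · rintro ⟨g, hg, rfl⟩; exact hg
  · intro hy; exact ⟨⟨y, hP y hy⟩, hy, rfl⟩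

theorem sum_filter_val {M : Type*} [AddCommMonoid M] (N : Subgroup G) [Fintype ↥N]
    (P : G → Prop) [DecidablePred P] (hP : ∀ y, P y → y ∈ N) (F : G → M) :
    ∑ g ∈ Finset.univ.filter (fun g : ↥N => P (g : G)), F (g : G) =
      ∑ y ∈ Finset.univ.filter P, F y := by
  rw [← filter_val_image N P hP, Finset.sum_image Subtype.val_injective.injOn]

theorem card_filter_val (N : Subgroup G) [Fintype ↥N] (P : G → Prop) [DecidablePred P]
    (hP : ∀ y, P y → y ∈ N) :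
    (Finset.univ.filter (fun g : ↥N => P (g : G))).card = (Finset.univ.filter P).card := by
  rw [← filter_val_image N P hP, Finset.card_image_of_injective _ Subtype.val_injective]

/-- the Feit–Thompson hypothesis on an abelian subgroup -/
structure FTHyp (H : Subgroup G) : Prop where
  ab : ∀ a ∈ H, ∀ b ∈ H, a * b = b * a
  cent : H ⊓ Subgroup.center G = ⊥
  one : ∀ g : G, g ∉ Subgroup.center G → ∀ a b : G,
    Subgroup.centralizer ({g} : Set G) ⊓ H.map (MulAut.conj a).toMonoidHom ≠ ⊥ →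
    Subgroup.centralizer ({g} : Set G) ⊓ H.map (MulAut.conj b).toMonoidHom ≠ ⊥ →
    H.map (MulAut.conj a).toMonoidHom = H.map (MulAut.conj b).toMonoidHom

omit [Fintype G] [DecidableEq G] in
theorem FTHyp.conj_mem_normalizer {H : Subgroup G} (hH : FTHyp H) {t w a a₀ : G}
    (ht : t ∉ Subgroup.center G) (ha : a ∈ H) (ha1 : a ≠ 1) (hat : a * t = t * a)
    (ha₀ : a₀ ∈ H) (ha₀1 : a₀ ≠ 1) (h0 : w * a₀ * w⁻¹ * t = t * (w * a₀ * w⁻¹)) :
    w ∈ Subgroup.normalizer (H : Set G) := by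
  have h1 : Subgroup.centralizer ({t} : Set G) ⊓ H.map (MulAut.conj (1 : G)).toMonoidHom ≠ ⊥ := by
    intro h
    have hm : a ∈ Subgroup.centralizer ({t} : Set G) ⊓ H.map (MulAut.conj (1 : G)).toMonoidHom :=
      Subgroup.mem_inf.2 ⟨Subgroup.mem_centralizer_singleton_iff.2 hat,
        Subgroup.mem_map.2 ⟨a, ha, by simp⟩⟩
    rw [h] at hm
    exact ha1 (Subgroup.mem_bot.1 hm)
  have h2 : Subgroup.centralizer ({t} : Set G) ⊓ H.map (MulAut.conj w).toMonoidHom ≠ ⊥ := by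
    intro h
    have hm : w * a₀ * w⁻¹ ∈
        Subgroup.centralizer ({t} : Set G) ⊓ H.map (MulAut.conj w).toMonoidHom :=
      Subgroup.mem_inf.2 ⟨Subgroup.mem_centralizer_singleton_iff.2 h0,
        Subgroup.mem_map.2 ⟨a₀, ha₀, by simp⟩⟩
    rw [h] at hm
    have h3 : w * a₀ * w⁻¹ = 1 := Subgroup.mem_bot.1 hm
    exact ha₀1 (conj_eq_one_iff.mp h3)
  have key := hH.one t ht 1 w h1 h2
  rw [Subgroup.mem_normalizer_iff]
  intro h
  constructor
  · intro hh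
    have hm : w * h * w⁻¹ ∈ H.map (MulAut.conj w).toMonoidHom :=
      Subgroup.mem_map.2 ⟨h, hh, by simp⟩
    rw [← key] at hm
    obtain ⟨h', hh', e⟩ := Subgroup.mem_map.1 hm
    have e' : h' = w * h * w⁻¹ := by simpa using e
    rw [← e']; exact hh'
  · intro hh
    have hm : w * h * w⁻¹ ∈ H.map (MulAut.conj (1 : G)).toMonoidHom :=
      Subgroup.mem_map.2 ⟨_, hh, by simp⟩
    rw [key] at hm
    obtain ⟨h', hh', e⟩ := Subgroup.mem_map.1 hm
    have e' : h' = h := by simpa using e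
    rw [← e']; exact hh'

omit [Fintype G] [DecidableEq G] in
theorem FTHyp.not_center {H : Subgroup G} (hH : FTHyp H) {a : G} (ha : a ∈ H) (ha1 : a ≠ 1) :
    a ∉ Subgroup.center G := by
  intro hc
  have hm : a ∈ H ⊓ Subgroup.center G := Subgroup.mem_inf.2 ⟨ha, hc⟩
  rw [hH.cent] at hm
  exact ha1 (Subgroup.mem_bot.1 hm)

omit [Fintype G] [DecidableEq G] in
theorem FTHyp.mem_normalizer {H : Subgroup G} (hH : FTHyp H) {y a : G} (ha : a ∈ H)
    (ha1 : a ≠ 1) (hay : a * y = y * a) : y ∈ Subgroup.normalizer (H : Set G) := by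
  have e : y * a * y⁻¹ = a := by rw [← hay, mul_inv_cancel_right]
  refine hH.conj_mem_normalizer (t := a) (w := y) (a := a) (a₀ := a) (hH.not_center ha ha1)
    ha ha1 rfl ha ha1 ?_
  rw [e]

omit [DecidableEq G] in
theorem norm_central (χ : IrrCharacter G) {z : G} (hz : z ∈ Subgroup.center G) :
    ‖(χ : G → ℂ) z‖ = ‖(χ : G → ℂ) 1‖ := by
  have h := Cfsg.Agent.S4567.central_shift χ z hz z⁻¹
  rw [inv_mul_cancel, irr_inv] at h
  have h2 := congrArg norm h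
  rw [norm_mul, norm_mul, Complex.norm_conj] at h2
  exact (mul_self_inj (norm_nonneg _) (norm_nonneg _)).mp h2.symm

omit [Fintype G] [DecidableEq G] in
theorem conj_comm_of_comm (w a t : G) (h : a * t = t * a) :
    w * a * w⁻¹ * (w * t * w⁻¹) = w * t * w⁻¹ * (w * a * w⁻¹) := by
  have e1 : w * a * w⁻¹ * (w * t * w⁻¹) = w * (a * t) * w⁻¹ := by group
  have e2 : w * t * w⁻¹ * (w * a * w⁻¹) = w * (t * a) * w⁻¹ := by group
  rw [e1, e2, h]

theorem ft_count {H : Subgroup G} (hH : FTHyp H) (χ : IrrCharacter G) (TG NZ : Finset G)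
    (hTG : ∀ y, y ∈ TG ↔ (y ∉ Subgroup.center G ∧ ∃ a ∈ H, a ≠ 1 ∧ a * y = y * a))
    (hNZ : ∀ y, y ∈ NZ ↔ y ∉ Subgroup.center G) :
    (Nat.card G : ℝ) * ∑ t ∈ TG, ‖(χ : G → ℂ) t‖ ^ 2 ≤
      (Nat.card (Subgroup.normalizer (H : Set G)) : ℝ) * ∑ y ∈ NZ, ‖(χ : G → ℂ) y‖ ^ 2 := by
  classical
  obtain ⟨F, hF⟩ : ∃ F : G → ℝ, ∀ y, F y = ‖(χ : G → ℂ) y‖ ^ 2 := ⟨_, fun _ => rfl⟩
  simp only [← hF]
  have hFc : ∀ x y : G, F (x * y * x⁻¹) = F y := by
    intro x y; rw [hF, hF, irr_conj χ y x]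
  have h1 : ∀ x : G, ∑ t ∈ TG, F t = ∑ y : G, if x⁻¹ * y * x ∈ TG then F y else 0 := by
    intro x
    rw [← Finset.sum_filter]
    refine Finset.sum_bij' (fun t _ => x * t * x⁻¹) (fun y _ => x⁻¹ * y * x) ?_ ?_ ?_ ?_ ?_
    · intro t ht
      have e : x⁻¹ * (x * t * x⁻¹) * x = t := by group
      simp only [Finset.mem_filter, Finset.mem_univ, true_and]
      rw [e]; exact ht
    · intro y hy
      simpa using hy
    · intro t _; group
    · intro y _; group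
    · intro t _; exact (hFc x t).symm
  have h2 : (Nat.card G : ℝ) * ∑ t ∈ TG, F t =
      ∑ y : G, ((Finset.univ.filter (fun x : G => x⁻¹ * y * x ∈ TG)).card : ℝ) * F y := by
    have h : ∑ x : G, ∑ t ∈ TG, F t =
        ∑ x : G, ∑ y : G, if x⁻¹ * y * x ∈ TG then F y else 0 :=
      Finset.sum_congr rfl fun x _ => h1 x
    rw [Finset.sum_const, Finset.card_univ, nsmul_eq_mul, ← Nat.card_eq_fintype_card,
      Finset.sum_comm] at h
    rw [h]
    refine Finset.sum_congr rfl fun y _ => ?_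
    rw [← Finset.sum_filter, Finset.sum_const, nsmul_eq_mul]
  have h3 : ∀ y : G, ((Finset.univ.filter (fun x : G => x⁻¹ * y * x ∈ TG)).card : ℝ) * F y ≤
      if y ∈ NZ then (Nat.card (Subgroup.normalizer (H : Set G)) : ℝ) * F y else 0 := by
    intro y
    have hFnn : 0 ≤ F y := by rw [hF]; positivity
    by_cases hy : y ∈ NZ
    · rw [if_pos hy]
      refine mul_le_mul_of_nonneg_right ?_ hFnn
      rcases (Finset.univ.filter (fun x : G => x⁻¹ * y * x ∈ TG)).eq_empty_or_nonempty with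
        he | ⟨x₀, hx₀⟩
      · rw [he]; simp
      · have hx₀' : x₀⁻¹ * y * x₀ ∈ TG := by simpa using hx₀
        obtain ⟨-, a₀, ha₀, ha₀1, hc₀⟩ := (hTG _).1 hx₀'
        have hcard : (Finset.univ.filter (fun x : G => x⁻¹ * y * x ∈ TG)).card ≤
            (Finset.univ.filter (fun x : G => x ∈ Subgroup.normalizer (H : Set G))).card := by
          refine Finset.card_le_card_of_injOn (fun x => x₀⁻¹ * x) ?_ ?_
          · intro x hx
            have hx' : x⁻¹ * y * x ∈ TG := by simpa using hx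
            obtain ⟨ht, a, ha, ha1, hc⟩ := (hTG _).1 hx'
            have hw : x⁻¹ * x₀ ∈ Subgroup.normalizer (H : Set G) := by
              refine hH.conj_mem_normalizer (t := x⁻¹ * y * x) (a := a) (a₀ := a₀) ht ha ha1 hc
                ha₀ ha₀1 ?_
              have e1 : x⁻¹ * y * x = (x⁻¹ * x₀) * (x₀⁻¹ * y * x₀) * (x⁻¹ * x₀)⁻¹ := by group
              rw [e1]
              exact conj_comm_of_comm _ _ _ hc₀
            have e2 : x₀⁻¹ * x = (x⁻¹ * x₀)⁻¹ := by group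
            simp only [Finset.coe_filter, Finset.mem_univ, true_and, Set.mem_setOf_eq]
            rw [e2]; exact Subgroup.inv_mem _ hw
          · intro x _ x' _ h
            exact mul_left_cancel h
        have hN : (Finset.univ.filter (fun x : G => x ∈ Subgroup.normalizer (H : Set G))).card =
            Nat.card (Subgroup.normalizer (H : Set G)) := (Nat.subtype_card _ (by simp)).symm
        rw [hN] at hcard
        exact_mod_cast hcard
    · rw [if_neg hy]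
      have hyc : y ∈ Subgroup.center G := by
        by_contra h; exact hy ((hNZ y).2 h)
      have he : Finset.univ.filter (fun x : G => x⁻¹ * y * x ∈ TG) = ∅ := by
        apply Finset.filter_eq_empty_iff.2
        intro x _ hx
        have e : x⁻¹ * y * x = y := by
          rw [mul_assoc, ← Subgroup.mem_center_iff.mp hyc x, inv_mul_cancel_left]
        rw [e] at hx
        exact ((hTG _).1 hx).1 hyc
      rw [he]; simp
  rw [h2]
  calc ∑ y : G, ((Finset.univ.filter (fun x : G => x⁻¹ * y * x ∈ TG)).card : ℝ) * F y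
      ≤ ∑ y : G, if y ∈ NZ then (Nat.card (Subgroup.normalizer (H : Set G)) : ℝ) * F y else 0 :=
        Finset.sum_le_sum fun y _ => h3 y
    _ = (Nat.card (Subgroup.normalizer (H : Set G)) : ℝ) * ∑ y ∈ NZ, F y := by
        rw [← Finset.sum_filter, Finset.filter_mem_eq_inter, Finset.univ_inter, Finset.mul_sum]

theorem ft_bound {H : Subgroup G} (hH : FTHyp H) (χ : IrrCharacter G)
    (hker : ∃ h ∈ H, (χ : G → ℂ) h ≠ (χ : G → ℂ) 1) (HF : Finset G)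
    (hHF : ∀ y, y ∈ HF ↔ y ∈ H) :
    (HF.card : ℝ) * ‖(HF.card : ℂ)⁻¹ * ∑ h ∈ HF, (χ : G → ℂ) h‖ ^ 2 <
      ‖(χ : G → ℂ) 1‖ ^ 2 := by
  classical
  obtain ⟨h₀, hh₀, hne₀⟩ := hker
  have hh₀1 : h₀ ≠ 1 := by rintro rfl; exact hne₀ rfl
  obtain ⟨N, hNdef⟩ : ∃ N : Subgroup G, N = Subgroup.normalizer (H : Set G) := ⟨_, rfl⟩
  haveI : Fintype ↥N := Fintype.ofFinite _
  have hHN : H ≤ N := by rw [hNdef]; exact Subgroup.le_normalizer
  have hZN : ∀ z, z ∈ Subgroup.center G → z ∈ N := by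
    intro z hz
    rw [hNdef, Subgroup.mem_normalizer_iff]
    intro h
    have e : z * h * z⁻¹ = h := by
      rw [← Subgroup.mem_center_iff.mp hz h, mul_inv_cancel_right]
    rw [e]
  obtain ⟨PH, hPH⟩ : ∃ PH : G → Prop, ∀ y, PH y ↔ y ∈ H := ⟨_, fun _ => Iff.rfl⟩
  obtain ⟨PZ, hPZ⟩ : ∃ PZ : G → Prop, ∀ y, PZ y ↔ y ∈ Subgroup.center G :=
    ⟨_, fun _ => Iff.rfl⟩
  obtain ⟨PD, hPD⟩ : ∃ PD : G → Prop, ∀ y, PD y ↔ ∃ a ∈ H, a ≠ 1 ∧ a * y = y * a :=
    ⟨_, fun _ => Iff.rfl⟩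
  have hPHN : ∀ y, PH y → y ∈ N := fun y hy => hHN ((hPH y).1 hy)
  have hPZN : ∀ y, PZ y → y ∈ N := fun y hy => hZN y ((hPZ y).1 hy)
  have hPDN : ∀ y, PD y → y ∈ N := by
    intro y hy
    obtain ⟨a, ha, ha1, hay⟩ := (hPD y).1 hy
    rw [hNdef]; exact hH.mem_normalizer ha ha1 hay
  -- objects on `N`
  obtain ⟨S, hSdef⟩ : ∃ S : Finset ↥N, S = Finset.univ.filter (fun a : ↥N => PH (a : G)) :=
    ⟨_, rfl⟩
  have hSmem : ∀ a : ↥N, a ∈ S ↔ (a : G) ∈ H := by intro a; rw [hSdef]; simp [hPH]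
  have hS : IsNormalFinset S := by
    refine ⟨(hSmem 1).2 H.one_mem, fun a ha b hb => (hSmem _).2
      (H.mul_mem ((hSmem a).1 ha) ((hSmem b).1 hb)),
      fun a ha => (hSmem _).2 (H.inv_mem ((hSmem a).1 ha)), fun x a ha => (hSmem _).2 ?_⟩
    have hx : (x : G) ∈ Subgroup.normalizer (H : Set G) := by rw [← hNdef]; exact x.2
    exact (Subgroup.mem_normalizer_iff.mp hx a).mp ((hSmem a).1 ha)
  obtain ⟨φ, hφdef⟩ : ∃ φ : ↥N → ℂ, ∀ g, φ g = (χ : G → ℂ) g := ⟨_, fun _ => rfl⟩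
  have hφ : IsCharacter ↥N φ := by
    have hφe : φ = fun g : ↥N => (χ : G → ℂ) g := funext hφdef
    rw [hφe]
    exact isCharacter_restrict N (isCharacter_of_isIrrCharacter χ.2)
  have hφc : IsClassFunction ↥N φ := isCharacter_isClassFunction hφ
  obtain ⟨D, hDdef⟩ : ∃ D : Finset ↥N, D = Finset.univ.filter (fun g : ↥N => PD (g : G)) :=
    ⟨_, rfl⟩
  have hDmem : ∀ g : ↥N, g ∈ D ↔ PD (g : G) := by intro g; rw [hDdef]; simp
  have hvan : ∀ g, g ∉ D → φ g - fixPart S φ g = 0 := by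
    intro g hg
    refine fixPart_of_fpf hS hφc g ?_
    intro a ha hag
    by_contra ha1
    apply hg
    rw [hDmem, hPD]
    exact ⟨(a : G), (hSmem a).1 ha, fun h => ha1 (Subtype.ext h), congrArg Subtype.val hag⟩
  have hβne : ∃ g, (fun g => φ g - fixPart S φ g) g ≠ 0 := by
    by_contra hall
    have hall' : ∀ g, φ g - fixPart S φ g = 0 := by
      intro g; by_contra h; exact hall ⟨g, h⟩
    have e1 := hall' ⟨h₀, hHN hh₀⟩
    have e2 := hall' 1
    have e3 := fixPart_mul_left hS φ ⟨h₀, hHN hh₀⟩ ((hSmem _).2 hh₀) 1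
    rw [mul_one] at e3
    apply hne₀
    have e4 : φ ⟨h₀, hHN hh₀⟩ = φ 1 := by
      rw [sub_eq_zero.mp e1, e3, ← sub_eq_zero.mp e2]
    rw [hφdef, hφdef] at e4
    exact e4
  have hβnorm := card_le_sum_normSq (isCharacter_sub_fixPart hS hφ) hβne
  have hdecomp := sum_normSq_decomp hS φ D hvan
  obtain ⟨SZ, hSZdef⟩ : ∃ SZ : Finset ↥N, SZ = Finset.univ.filter (fun a : ↥N => PZ (a : G)) :=
    ⟨_, rfl⟩
  have hSZmem : ∀ a : ↥N, a ∈ SZ ↔ (a : G) ∈ Subgroup.center G := by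
    intro a; rw [hSZdef]; simp [hPZ]
  obtain ⟨c, hc⟩ : ∃ c : ℝ, c = ‖fixPart S φ 1‖ := ⟨_, rfl⟩
  have hf0 : ‖(χ : G → ℂ) 1‖ ≠ 0 := norm_ne_zero_iff.mpr (irr_one_ne_zero χ)
  have hαz : ∀ a ∈ S, ∀ z ∈ SZ, ‖fixPart S φ (a * z)‖ = c := by
    intro a ha z hz
    rw [fixPart_mul_left hS φ a ha z, hc]
    have hz' := (hSZmem z).1 hz
    have h0 : ∀ b : ↥N, φ (b * z) * (χ : G → ℂ) 1 = (χ : G → ℂ) z * φ (b * 1) := by
      intro b
      rw [hφdef, hφdef, mul_one]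
      exact Cfsg.Agent.S4567.central_shift χ (z : G) hz' (b : G)
    have h1 : fixPart S φ z * (χ : G → ℂ) 1 = (χ : G → ℂ) z * fixPart S φ 1 := by
      unfold fixPart avgS
      rw [mul_assoc, Finset.sum_mul, Finset.sum_congr rfl fun b _ => h0 b, ← Finset.mul_sum]
      ring
    have h2 := congrArg norm h1
    rw [norm_mul, norm_mul, norm_central χ hz'] at h2
    exact mul_right_cancel₀ hf0 (h2.trans (mul_comm _ _))
  have hαD : (S.card : ℝ) * (SZ.card : ℝ) * c ^ 2 ≤ ∑ g ∈ D, ‖fixPart S φ g‖ ^ 2 := by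
    have hinj : Set.InjOn (fun p : ↥N × ↥N => p.1 * p.2)
        ((S ×ˢ SZ : Finset (↥N × ↥N)) : Set (↥N × ↥N)) := by
      rintro ⟨a₁, z₁⟩ h1 ⟨a₂, z₂⟩ h2 h
      simp only [Finset.coe_product, Set.mem_prod, Finset.mem_coe] at h1 h2
      have h' : a₁ * z₁ = a₂ * z₂ := h
      have ha : (a₂ : G)⁻¹ * (a₁ : G) ∈ H :=
        H.mul_mem (H.inv_mem ((hSmem a₂).1 h2.1)) ((hSmem a₁).1 h1.1)
      have hz : (z₂ : G) * (z₁ : G)⁻¹ ∈ Subgroup.center G :=
        (Subgroup.center G).mul_mem ((hSZmem z₂).1 h2.2)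
          ((Subgroup.center G).inv_mem ((hSZmem z₁).1 h1.2))
      have heq : (a₂ : G)⁻¹ * (a₁ : G) = (z₂ : G) * (z₁ : G)⁻¹ := by
        have h'' : (a₁ : G) * (z₁ : G) = (a₂ : G) * (z₂ : G) := congrArg Subtype.val h'
        calc (a₂ : G)⁻¹ * (a₁ : G) = (a₂ : G)⁻¹ * ((a₁ : G) * (z₁ : G)) * (z₁ : G)⁻¹ := by group
          _ = (a₂ : G)⁻¹ * ((a₂ : G) * (z₂ : G)) * (z₁ : G)⁻¹ := by rw [h'']
          _ = (z₂ : G) * (z₁ : G)⁻¹ := by group
      have hm : (a₂ : G)⁻¹ * (a₁ : G) ∈ H ⊓ Subgroup.center G :=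
        Subgroup.mem_inf.2 ⟨ha, by rw [heq]; exact hz⟩
      rw [hH.cent] at hm
      have e1 : (a₁ : G) = (a₂ : G) := (inv_mul_eq_one.mp (Subgroup.mem_bot.1 hm)).symm
      have e1' : a₁ = a₂ := Subtype.ext e1
      subst e1'
      have e2 : z₁ = z₂ := mul_left_cancel h'
      rw [e2]
    have hsub : (S ×ˢ SZ).image (fun p : ↥N × ↥N => p.1 * p.2) ⊆ D := by
      intro g hg
      obtain ⟨⟨a, z⟩, hp, rfl⟩ := Finset.mem_image.mp hg
      rw [Finset.mem_product] at hp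
      rw [hDmem, hPD]
      refine ⟨h₀, hh₀, hh₀1, ?_⟩
      have e1 : h₀ * (a : G) = (a : G) * h₀ := hH.ab h₀ hh₀ _ ((hSmem a).1 hp.1)
      have e2 : h₀ * (z : G) = (z : G) * h₀ := Subgroup.mem_center_iff.mp ((hSZmem z).1 hp.2) h₀
      show h₀ * ((a : G) * (z : G)) = (a : G) * (z : G) * h₀
      rw [← mul_assoc, e1, mul_assoc, e2, ← mul_assoc]
    have hconst : ∀ p ∈ S ×ˢ SZ, ‖fixPart S φ (p.1 * p.2)‖ ^ 2 = c ^ 2 := fun p hp => by
      rw [hαz p.1 (Finset.mem_product.mp hp).1 p.2 (Finset.mem_product.mp hp).2]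
    calc (S.card : ℝ) * (SZ.card : ℝ) * c ^ 2
        = ∑ p ∈ S ×ˢ SZ, ‖fixPart S φ (p.1 * p.2)‖ ^ 2 := by
          rw [Finset.sum_congr rfl hconst, Finset.sum_const, Finset.card_product, nsmul_eq_mul]
          push_cast; ring
      _ = ∑ g ∈ (S ×ˢ SZ).image (fun p : ↥N × ↥N => p.1 * p.2), ‖fixPart S φ g‖ ^ 2 :=
          (Finset.sum_image (f := fun g => ‖fixPart S φ g‖ ^ 2) hinj).symm
      _ ≤ ∑ g ∈ D, ‖fixPart S φ g‖ ^ 2 :=
          Finset.sum_le_sum_of_subset_of_nonneg hsub (fun g _ _ => by positivity)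
  -- transfer to `G`
  obtain ⟨ZF, hZF⟩ : ∃ ZF : Finset G, ZF = Finset.univ.filter PZ := ⟨_, rfl⟩
  obtain ⟨DG, hDG⟩ : ∃ DG : Finset G, DG = Finset.univ.filter PD := ⟨_, rfl⟩
  obtain ⟨TG, hTG⟩ : ∃ TG : Finset G, TG = Finset.univ.filter (fun y => ¬ PZ y ∧ PD y) :=
    ⟨_, rfl⟩
  obtain ⟨NZ, hNZ⟩ : ∃ NZ : Finset G, NZ = Finset.univ.filter (fun y => ¬ PZ y) := ⟨_, rfl⟩
  have hHFeq : Finset.univ.filter PH = HF := by ext y; simp [hPH, hHF]
  have hScard : S.card = HF.card := by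
    rw [hSdef, card_filter_val N PH hPHN, hHFeq]
  have hSZcard : SZ.card = ZF.card := by
    rw [hSZdef, card_filter_val N PZ hPZN, hZF]
  have hDsum : ∑ g ∈ D, ‖φ g‖ ^ 2 = ∑ y ∈ DG, ‖(χ : G → ℂ) y‖ ^ 2 := by
    rw [hDdef, hDG, ← sum_filter_val N PD hPDN (fun y => ‖(χ : G → ℂ) y‖ ^ 2)]
    exact Finset.sum_congr rfl fun g _ => by rw [hφdef]
  have hc' : fixPart S φ 1 = (HF.card : ℂ)⁻¹ * ∑ h ∈ HF, (χ : G → ℂ) h := by
    unfold fixPart avgS
    rw [hScard]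
    congr 1
    have e : ∑ a ∈ S, φ (a * 1) = ∑ a ∈ S, (χ : G → ℂ) (a : G) :=
      Finset.sum_congr rfl fun a _ => by rw [mul_one, hφdef]
    rw [e, hSdef, sum_filter_val N PH hPHN (fun y => (χ : G → ℂ) y), hHFeq]
  have hstar : (Nat.card ↥N : ℝ) + (HF.card : ℝ) * (ZF.card : ℝ) * c ^ 2 ≤
      ∑ y ∈ DG, ‖(χ : G → ℂ) y‖ ^ 2 := by
    rw [← hDsum, hdecomp, ← hScard, ← hSZcard]
    linarith [hβnorm, hαD]
  have hZsum : ∑ y ∈ ZF, ‖(χ : G → ℂ) y‖ ^ 2 = (ZF.card : ℝ) * ‖(χ : G → ℂ) 1‖ ^ 2 := by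
    have h : ∀ y ∈ ZF, ‖(χ : G → ℂ) y‖ ^ 2 = ‖(χ : G → ℂ) 1‖ ^ 2 := by
      intro y hy
      rw [hZF] at hy
      rw [norm_central χ ((hPZ y).1 (Finset.mem_filter.mp hy).2)]
    rw [Finset.sum_congr rfl h, Finset.sum_const, nsmul_eq_mul]
  have hsplit : ∑ y ∈ DG, ‖(χ : G → ℂ) y‖ ^ 2 =
      ∑ y ∈ TG, ‖(χ : G → ℂ) y‖ ^ 2 + (ZF.card : ℝ) * ‖(χ : G → ℂ) 1‖ ^ 2 := by
    have e1 : DG.filter PZ = ZF := by
      rw [hDG, hZF]; ext y
      simp only [Finset.mem_filter, Finset.mem_univ, true_and]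
      constructor
      · exact fun h => h.2
      · intro hz
        exact ⟨(hPD y).2 ⟨h₀, hh₀, hh₀1, Subgroup.mem_center_iff.mp ((hPZ y).1 hz) h₀⟩, hz⟩
    have e2 : DG.filter (fun y => ¬ PZ y) = TG := by
      rw [hDG, hTG]; ext y
      simp only [Finset.mem_filter, Finset.mem_univ, true_and]
      exact and_comm
    rw [← Finset.sum_filter_add_sum_filter_not DG PZ, e1, e2, hZsum]
    ring
  have hTG' : ∀ y, y ∈ TG ↔ (y ∉ Subgroup.center G ∧ ∃ a ∈ H, a ≠ 1 ∧ a * y = y * a) := by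
    intro y; rw [hTG]; simp [hPZ, hPD]
  have hNZ' : ∀ y, y ∈ NZ ↔ y ∉ Subgroup.center G := by
    intro y; rw [hNZ]; simp [hPZ]
  have hCL := ft_count hH χ TG NZ hTG' hNZ'
  rw [← hNdef] at hCL
  have horth : ∑ y : G, ‖(χ : G → ℂ) y‖ ^ 2 = (Nat.card G : ℝ) := by
    have h := sum_normSq_eq_inner (χ : G → ℂ)
    rw [irr_inner_self, mul_one] at h
    exact_mod_cast h
  have hNZsum : ∑ y ∈ NZ, ‖(χ : G → ℂ) y‖ ^ 2 =
      (Nat.card G : ℝ) - (ZF.card : ℝ) * ‖(χ : G → ℂ) 1‖ ^ 2 := by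
    have h := Finset.sum_filter_add_sum_filter_not Finset.univ PZ
      (fun y => ‖(χ : G → ℂ) y‖ ^ 2)
    rw [← hZF, ← hNZ, hZsum, horth] at h
    linarith
  rw [hNZsum] at hCL
  rw [← hc', ← hc]
  -- arithmetic
  have hgG : (0 : ℝ) < (Nat.card G : ℝ) := by exact_mod_cast Nat.card_pos
  have hn : (0 : ℝ) < (Nat.card ↥N : ℝ) := by exact_mod_cast Nat.card_pos
  have hzc : (0 : ℝ) < (ZF.card : ℝ) := by
    have : 0 < ZF.card := Finset.card_pos.mpr ⟨1, by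
      rw [hZF]; simp only [Finset.mem_filter, Finset.mem_univ, true_and]
      exact (hPZ 1).2 (Subgroup.one_mem _)⟩
    exact_mod_cast this
  have hF2 : (0 : ℝ) < ‖(χ : G → ℂ) 1‖ ^ 2 := by positivity
  by_contra hcon
  have hcon' : ‖(χ : G → ℂ) 1‖ ^ 2 ≤ (HF.card : ℝ) * c ^ 2 := not_lt.mp hcon
  have k1 : (Nat.card G : ℝ) * ((Nat.card ↥N : ℝ) + (HF.card : ℝ) * (ZF.card : ℝ) * c ^ 2) ≤
      (Nat.card G : ℝ) * (∑ y ∈ TG, ‖(χ : G → ℂ) y‖ ^ 2 +
        (ZF.card : ℝ) * ‖(χ : G → ℂ) 1‖ ^ 2) :=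
    mul_le_mul_of_nonneg_left (by rw [← hsplit]; exact hstar) hgG.le
  have k3 : (Nat.card G : ℝ) * (ZF.card : ℝ) * ‖(χ : G → ℂ) 1‖ ^ 2 ≤
      (Nat.card G : ℝ) * (ZF.card : ℝ) * ((HF.card : ℝ) * c ^ 2) :=
    mul_le_mul_of_nonneg_left hcon' (mul_nonneg hgG.le hzc.le)
  have k4 : (0 : ℝ) < (Nat.card ↥N : ℝ) * (ZF.card : ℝ) * ‖(χ : G → ℂ) 1‖ ^ 2 :=
    mul_pos (mul_pos hn hzc) hF2
  nlinarith [k1, k3, k4, hCL]

end Global

end Cfsg.Agent.Helper22
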