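import Mathlib
import Cfsg.Agent.Helper22.Brauer5

/-!
# Existence of `p`-modular ideals; Frobenius congruence for character values modulo `p`
-/

set_option autoImplicit false

namespace Cfsg.Agent.Helper22

open Cfsg Cfsg.Agent.Helper24

universe u

theorem natCast_not_isUnit_algInt {p : ℕ} (hp : p.Prime) : ¬ IsUnit ((p : ℕ) : AlgInt) := by
  rintro ⟨u, hu⟩
  have h1 : ((u⁻¹ : AlgIntˣ) : AlgInt) * ((p : ℕ) : AlgInt) = 1 := by
    rw [← hu]; exact u.inv_mul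
  have h2 : (((u⁻¹ : AlgIntˣ) : AlgInt) : ℂ) * (p : ℂ) = 1 := by
    have h := congrArg (Subtype.val) h1
    exact_mod_cast h
  have hp0 : (p : ℂ) ≠ 0 := Nat.cast_ne_zero.mpr hp.ne_zero
  have h3 : (((u⁻¹ : AlgIntˣ) : AlgInt) : ℂ) = (((1 : ℚ) / (p : ℚ) : ℚ) : ℂ) := by
    push_cast
    rw [eq_div_iff hp0]
    exact h2
  have hint : IsIntegral ℤ ((((1 : ℚ) / (p : ℚ) : ℚ)) : ℂ) := by
    rw [← h3]; exact ((u⁻¹ : AlgIntˣ) : AlgInt).2
  obtain ⟨z, hz⟩ := exists_int_of_isIntegral_ratCast hint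
  have hpq : (p : ℚ) ≠ 0 := Nat.cast_ne_zero.mpr hp.ne_zero
  have h4 : (z : ℚ) * (p : ℚ) = 1 := by rw [hz]; field_simp
  have h5 : z * (p : ℤ) = 1 := by exact_mod_cast h4
  have h6 : (p : ℤ) ∣ 1 := Dvd.intro_left z h5
  have h7 := Int.le_of_dvd one_pos h6
  have h8 := hp.two_le
  omega

theorem span_natCast_ne_top {p : ℕ} (hp : p.Prime) :
    Ideal.span {((p : ℕ) : AlgInt)} ≠ ⊤ := by
  rw [Ne, Ideal.span_singleton_eq_top]; exact natCast_not_isUnit_algInt hp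

/-- a `p`-modular maximal ideal exists -/
theorem exists_isPModular {p : ℕ} (hp : p.Prime) : ∃ M : Ideal AlgInt, IsPModular p M := by
  obtain ⟨M, hM, hle⟩ := Ideal.exists_le_maximal _ (span_natCast_ne_top hp)
  exact ⟨M, hp, hM, hle (Ideal.mem_span_singleton_self _)⟩

/-- `χ(g)^(p^k) ≡ χ(g^(p^k))` modulo `p` in the ring of algebraic integers -/
theorem char_pow_sub_mem_span {G : Type u} [Group G] [Finite G] {p : ℕ} (hp : p.Prime) {n : ℕ}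
    (ρ : Representation ℂ G (Fin n → ℂ)) (g : G) (k : ℕ) :
    ∃ γ : AlgInt, ρ.character g ^ (p ^ k) - ρ.character (g ^ (p ^ k)) = (p : ℂ) * (γ : ℂ) := by
  classical
  haveI : Fact p.Prime := ⟨hp⟩
  obtain ⟨I, hI⟩ : ∃ I : Ideal AlgInt, I = Ideal.span {((p : ℕ) : AlgInt)} := ⟨_, rfl⟩
  haveI : Nontrivial (AlgInt ⧸ I) :=
    Ideal.Quotient.nontrivial_iff.mpr (hI ▸ span_natCast_ne_top hp)
  have hpK : ((p : ℕ) : AlgInt ⧸ I) = 0 := by
    have h1 : Ideal.Quotient.mk I ((p : ℕ) : AlgInt) = 0 :=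
      Ideal.Quotient.eq_zero_iff_mem.mpr (hI ▸ Ideal.mem_span_singleton_self _)
    rwa [map_natCast] at h1
  haveI : CharP (AlgInt ⧸ I) p := (CharP.charP_iff_prime_eq_zero hp).mpr hpK
  have hN := Nat.card_pos (α := G)
  obtain ⟨S, d, hS, htr⟩ := exists_eigen_pow_decomp (ρ g) (Nat.card G) hN (rep_pow_card ρ g)
  have hint : ∀ μ ∈ S, IsIntegral ℤ μ := by
    intro μ hμ
    refine IsIntegral.of_pow (n := Nat.card G) Nat.card_pos ?_
    rw [hS μ hμ]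
    exact isIntegral_one
  have hA : ∀ j, ((∑ μ ∈ S, (toAI μ) ^ j * (d μ : AlgInt) : AlgInt) : ℂ) =
      ρ.character (g ^ j) := by
    intro j
    show ((∑ μ ∈ S, (toAI μ) ^ j * (d μ : AlgInt) : AlgInt) : ℂ) =
      LinearMap.trace ℂ _ (ρ (g ^ j))
    rw [map_pow, htr j]
    push_cast
    refine Finset.sum_congr rfl (fun μ hμ => ?_)
    rw [toAI_coe (hint μ hμ)]
  have hAq : Ideal.Quotient.mk I (∑ μ ∈ S, (toAI μ) ^ 1 * (d μ : AlgInt)) ^ (p ^ k) =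
      Ideal.Quotient.mk I (∑ μ ∈ S, (toAI μ) ^ (p ^ k) * (d μ : AlgInt)) := by
    rw [map_sum, map_sum, sum_pow_char_pow]
    refine Finset.sum_congr rfl (fun μ _ => ?_)
    rw [map_mul, map_mul, mul_pow, map_pow, map_pow, pow_one, map_natCast,
      natCast_pow_char_pow]
  have hmem : (∑ μ ∈ S, (toAI μ) ^ 1 * (d μ : AlgInt)) ^ (p ^ k) -
      (∑ μ ∈ S, (toAI μ) ^ (p ^ k) * (d μ : AlgInt)) ∈ I := by
    rw [← Ideal.Quotient.eq_zero_iff_mem, map_sub, map_pow, hAq, sub_self]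
  rw [hI] at hmem
  obtain ⟨γ, hγ⟩ := Ideal.mem_span_singleton'.mp hmem
  refine ⟨γ, ?_⟩
  have h := congrArg (Subtype.val) hγ
  have h2 : (γ : ℂ) * (p : ℂ) =
      ((∑ μ ∈ S, (toAI μ) ^ 1 * (d μ : AlgInt) : AlgInt) : ℂ) ^ (p ^ k) -
      ((∑ μ ∈ S, (toAI μ) ^ (p ^ k) * (d μ : AlgInt) : AlgInt) : ℂ) := by
    exact_mod_cast h
  rw [hA 1, hA (p ^ k), pow_one] at h2
  rw [← h2]; ring

end Cfsg.Agent.Helper22
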