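import Mathlib
import Cfsg.Agent.Helper22.BlkContrib
import Cfsg.Agent.S0969

/-!
# Blocks with a central defect group (helper22)

* `sum_normSq_irr`: `∑_g |χ(g)|² = |G|`.
* `regT_eq`: `|G|_p ∑_{g p-regular} χ(g) conj ψ(g) = |G| n_{χψ}` (`n = tildeN`).
* `reg_self`, `reg_dist`: the squared distance of `χ` and `e ψ` on the `p`-regular elements.
* `central_defect_facts`: in a block with a central defect group all characters have height
  zero, all contributions `n_{χψ}` equal `|G|_p / |D|`, and all characters agree on the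
  `p`-regular elements.
-/

set_option autoImplicit false

namespace Cfsg.Agent.Helper22

open Cfsg Cfsg.Agent.Helper5 Cfsg.Agent.Helper24

universe u

section

variable {G : Type u} [Group G] [Fintype G]

theorem sum_normSq_irr (χ : IrrCharacter G) :
    ∑ g : G, Complex.normSq ((χ : G → ℂ) g) = (Nat.card G : ℝ) := by
  have hG0 : (Nat.card G : ℂ) ≠ 0 := Nat.cast_ne_zero.mpr Nat.card_pos.ne'
  have h1 := irr_orthonormal χ χ
  rw [if_pos rfl, classInner_def'] at h1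
  have h2 : ∑ g : G, (χ : G → ℂ) g * starRingEnd ℂ ((χ : G → ℂ) g) = (Nat.card G : ℂ) := by
    have h3 := congrArg (fun t => (Nat.card G : ℂ) * t) h1
    beta_reduce at h3
    rwa [← mul_assoc, mul_inv_cancel₀ hG0, one_mul, mul_one] at h3
  have h3 : ((∑ g : G, Complex.normSq ((χ : G → ℂ) g) : ℝ) : ℂ) = ((Nat.card G : ℝ) : ℂ) := by
    rw [Complex.ofReal_sum, Complex.ofReal_natCast, ← h2]
    exact Finset.sum_congr rfl fun g _ => (Complex.mul_conj _).symm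
  exact Complex.ofReal_injective h3

theorem regT_eq (p : ℕ) [Fact p.Prime] (χ ψ : IrrCharacter G) :
    (p : ℂ) ^ (Nat.card G).factorization p *
      ∑ g : G, (if p ∣ orderOf g then (0 : ℂ) else
        (χ : G → ℂ) g * starRingEnd ℂ ((ψ : G → ℂ) g)) =
    (Nat.card G : ℂ) * (tildeN p χ ψ : ℂ) := by
  have hG0 : (Nat.card G : ℂ) ≠ 0 := Nat.cast_ne_zero.mpr Nat.card_pos.ne'
  have hc : ((p ^ (Nat.card G).factorization p : ℕ) : ℂ) =
      (p : ℂ) ^ (Nat.card G).factorization p := Nat.cast_pow _ _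
  have h1 := tildeN_spec p χ ψ
  rw [classInner_def'] at h1
  rw [← h1, ← mul_assoc, mul_inv_cancel₀ hG0, one_mul, Finset.mul_sum]
  refine Finset.sum_congr rfl fun g _ => ?_
  unfold tildeFun
  by_cases h : p ∣ orderOf g
  · rw [if_pos h, if_pos h, mul_zero, zero_mul]
  · rw [if_neg h, if_neg h, hc, mul_assoc]

theorem reg_self (p : ℕ) [Fact p.Prime] (χ : IrrCharacter G) :
    (p : ℝ) ^ (Nat.card G).factorization p *
      ∑ g : G, (if p ∣ orderOf g then (0 : ℝ) else Complex.normSq ((χ : G → ℂ) g)) =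
    (Nat.card G : ℝ) * (tildeN p χ χ : ℝ) := by
  apply Complex.ofReal_injective
  have h1 := regT_eq p χ χ
  have hsum : ((∑ g : G, (if p ∣ orderOf g then (0 : ℝ) else
      Complex.normSq ((χ : G → ℂ) g)) : ℝ) : ℂ) =
      ∑ g : G, (if p ∣ orderOf g then (0 : ℂ) else
        (χ : G → ℂ) g * starRingEnd ℂ ((χ : G → ℂ) g)) := by
    rw [Complex.ofReal_sum]
    refine Finset.sum_congr rfl fun g _ => ?_
    by_cases h : p ∣ orderOf g
    · rw [if_pos h, if_pos h, Complex.ofReal_zero]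
    · rw [if_neg h, if_neg h, Complex.mul_conj]
  rw [Complex.ofReal_mul, hsum]
  push_cast
  exact h1

theorem reg_dist (p : ℕ) [Fact p.Prime] (χ ψ : IrrCharacter G) (e : ℤ) :
    (p : ℝ) ^ (Nat.card G).factorization p *
      ∑ g : G, (if p ∣ orderOf g then (0 : ℝ) else
        Complex.normSq ((χ : G → ℂ) g - (e : ℂ) * (ψ : G → ℂ) g)) =
    (Nat.card G : ℝ) * ((tildeN p χ χ : ℝ) - 2 * (e : ℝ) * (tildeN p χ ψ : ℝ) +
      (e : ℝ) ^ 2 * (tildeN p ψ ψ : ℝ)) := by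
  apply Complex.ofReal_injective
  have h1 := regT_eq p χ χ
  have h2 := regT_eq p χ ψ
  have h3 := regT_eq p ψ χ
  have h4 := regT_eq p ψ ψ
  rw [tildeN_symm p ψ χ] at h3
  have hsum : ((∑ g : G, (if p ∣ orderOf g then (0 : ℝ) else
      Complex.normSq ((χ : G → ℂ) g - (e : ℂ) * (ψ : G → ℂ) g)) : ℝ) : ℂ) =
      ∑ g : G, (if p ∣ orderOf g then (0 : ℂ) else
        (χ : G → ℂ) g * starRingEnd ℂ ((χ : G → ℂ) g))
      - (e : ℂ) * ∑ g : G, (if p ∣ orderOf g then (0 : ℂ) else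
        (χ : G → ℂ) g * starRingEnd ℂ ((ψ : G → ℂ) g))
      - (e : ℂ) * ∑ g : G, (if p ∣ orderOf g then (0 : ℂ) else
        (ψ : G → ℂ) g * starRingEnd ℂ ((χ : G → ℂ) g))
      + (e : ℂ) ^ 2 * ∑ g : G, (if p ∣ orderOf g then (0 : ℂ) else
        (ψ : G → ℂ) g * starRingEnd ℂ ((ψ : G → ℂ) g)) := by
    rw [Complex.ofReal_sum, Finset.mul_sum, Finset.mul_sum, Finset.mul_sum,
      ← Finset.sum_sub_distrib, ← Finset.sum_sub_distrib, ← Finset.sum_add_distrib]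
    refine Finset.sum_congr rfl fun g _ => ?_
    by_cases h : p ∣ orderOf g
    · simp only [if_pos h, Complex.ofReal_zero, mul_zero, sub_zero, add_zero]
    · simp only [if_neg h]
      rw [← Complex.mul_conj, map_sub, map_mul, map_intCast]
      ring
  rw [Complex.ofReal_mul, hsum]
  push_cast
  linear_combination h1 - (e : ℂ) * h2 - (e : ℂ) * h3 + (e : ℂ) ^ 2 * h4

/-- blocks with a central defect group -/
theorem central_defect_facts {p : ℕ} [Fact p.Prime] {M : Ideal AlgInt} (hM : IsPModular p M)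
    (χ₀ : IrrCharacter G) (P : Subgroup G)
    (hD : IsDefectGroup p M (blockOf M (χ₀ : G → ℂ)) P) (hPZ : P ≤ Subgroup.center G)
    (χ ψ : IrrCharacter G) (hχ : SameBlock M (χ₀ : G → ℂ) (χ : G → ℂ))
    (hψ : SameBlock M (χ₀ : G → ℂ) (ψ : G → ℂ)) :
    blockHeight p (blockOf M (χ₀ : G → ℂ)) (χ : G → ℂ) = 0 ∧
    tildeN p χ ψ = (p : ℤ) ^ ((Nat.card G).factorization p -
      blockDefect p (blockOf M (χ₀ : G → ℂ))) ∧
    ∀ g : G, ¬ p ∣ orderOf g → (χ : G → ℂ) g = (ψ : G → ℂ) g := by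
  classical
  haveI hMp : M.IsPrime := hM.2.1.isPrime
  have hp : p.Prime := Fact.out
  have hcP := card_defect_group hM χ₀ P hD
  obtain ⟨d, hd⟩ : ∃ d : ℕ, d = blockDefect p (blockOf M (χ₀ : G → ℂ)) := ⟨_, rfl⟩
  rw [← hd] at hcP ⊢
  have hPp : IsPGroup p P := IsPGroup.of_card hcP
  obtain ⟨a, ha⟩ : ∃ a : ℕ, a = (Nat.card G).factorization p := ⟨_, rfl⟩
  rw [← ha]
  obtain ⟨s, hs⟩ : ∃ s : ℕ, s = sInf ((fun ψ : IrrCharacter G =>
      (charDegree (ψ : G → ℂ)).factorization p) '' blockOf M (χ₀ : G → ℂ)) := ⟨_, rfl⟩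
  have hdef := block_defect_eq (M := M) p χ₀
  rw [← ha, ← hs, ← hd] at hdef
  have hsub : a - d = s := by omega
  rw [hsub]
  obtain ⟨N, hN⟩ : ∃ N : ℝ, N = (Nat.card G : ℝ) := ⟨_, rfl⟩
  have hNpos : 0 < N := by rw [hN]; exact Nat.cast_pos.mpr Nat.card_pos
  have hpR : (0 : ℝ) < (p : ℝ) := Nat.cast_pos.mpr hp.pos
  have hpa : (p : ℝ) ^ a = (p : ℝ) ^ s * (p : ℝ) ^ d := by rw [hdef, pow_add]
  have hPd : (Nat.card P : ℝ) = (p : ℝ) ^ d := by rw [hcP, Nat.cast_pow]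
  have hq : (0 : ℤ) < (p : ℤ) ^ s := pow_pos (by exact_mod_cast hp.pos) s
  have hpaR : (0 : ℝ) < (p : ℝ) ^ a := pow_pos hpR a
  have hstep1 : ∀ ξ : IrrCharacter G, tildeN p ξ ξ ≤ (p : ℤ) ^ s := by
    intro ξ
    obtain ⟨hle, -⟩ := Cfsg.Agent.S0969.central_sum_le hp P hPp hPZ ξ
    have hself := reg_self p ξ
    obtain ⟨R, hR⟩ : ∃ R : ℝ, R = ∑ g : G,
        (if p ∣ orderOf g then (0 : ℝ) else Complex.normSq ((ξ : G → ℂ) g)) := ⟨_, rfl⟩
    rw [← hR, ← ha, ← hN] at hself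
    rw [← hR, hPd, sum_normSq_irr ξ, ← hN] at hle
    have h1 : (tildeN p ξ ξ : ℝ) * N ≤ (p : ℝ) ^ s * N := by
      calc (tildeN p ξ ξ : ℝ) * N = (p : ℝ) ^ s * ((p : ℝ) ^ d * R) := by
            linear_combination (-1 : ℝ) * hself + R * hpa
        _ ≤ (p : ℝ) ^ s * N := mul_le_mul_of_nonneg_left hle (pow_pos hpR s).le
    have h2 : (tildeN p ξ ξ : ℝ) ≤ (p : ℝ) ^ s := le_of_mul_le_mul_right h1 hNpos
    exact_mod_cast h2
  have hht : ∀ ξ : IrrCharacter G, SameBlock M (χ₀ : G → ℂ) (ξ : G → ℂ) →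
      blockHeight p (blockOf M (χ₀ : G → ℂ)) (ξ : G → ℂ) = 0 := by
    intro ξ hξ
    by_contra hpos
    obtain ⟨hnpos, -, -⟩ := tildeN_self_bounds p ξ
    have h1 := tildeN_of_pos_height hM χ₀ ξ ξ hξ hpos hξ hnpos.ne'
    have hval := block_val_eq (p := p) (M := M) χ₀ ξ hξ
    rw [← hs] at hval
    have h2 : (p : ℤ) ^ (s + 1) ∣ tildeN p ξ ξ :=
      (padicValInt_dvd_iff (s + 1) _).mpr (Or.inr (by omega))
    have h3 : (p : ℤ) ^ (s + 1) ≤ tildeN p ξ ξ := Int.le_of_dvd hnpos h2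
    have h4 : (p : ℤ) ^ s < (p : ℤ) ^ (s + 1) := by
      have hp1 : (1 : ℤ) < (p : ℤ) := by exact_mod_cast hp.one_lt
      exact pow_lt_pow_right₀ hp1 (Nat.lt_succ_self s)
    have h5 := hstep1 ξ
    linarith
  have hval : ∀ ξ η : IrrCharacter G, SameBlock M (χ₀ : G → ℂ) (ξ : G → ℂ) →
      SameBlock M (χ₀ : G → ℂ) (η : G → ℂ) →
      tildeN p ξ η ≠ 0 ∧ (p : ℤ) ^ s ∣ tildeN p ξ η := by
    intro ξ η hξ hη
    obtain ⟨hne, hv⟩ := tildeN_of_height_zero hM χ₀ ξ η hξ (hht ξ hξ) hη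
    have hvalη := block_val_eq (p := p) (M := M) χ₀ η hη
    rw [← hs, hht η hη, add_zero] at hvalη
    refine ⟨hne, (padicValInt_dvd_iff s _).mpr (Or.inr ?_)⟩
    rw [hv, hvalη]
  have hself : ∀ ξ : IrrCharacter G, SameBlock M (χ₀ : G → ℂ) (ξ : G → ℂ) →
      tildeN p ξ ξ = (p : ℤ) ^ s := by
    intro ξ hξ
    obtain ⟨hnpos, -, -⟩ := tildeN_self_bounds p ξ
    exact le_antisymm (hstep1 ξ) (Int.le_of_dvd hnpos (hval ξ ξ hξ hξ).2)
  obtain ⟨hne, hdvd⟩ := hval χ ψ hχ hψ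
  have hχχ := hself χ hχ
  have hψψ := hself ψ hψ
  have hm := reg_dist p χ ψ (-1)
  have hp1 := reg_dist p χ ψ 1
  obtain ⟨Sm, hSm⟩ : ∃ Sm : ℝ, Sm = ∑ g : G, (if p ∣ orderOf g then (0 : ℝ) else
      Complex.normSq ((χ : G → ℂ) g - ((-1 : ℤ) : ℂ) * (ψ : G → ℂ) g)) := ⟨_, rfl⟩
  obtain ⟨Sp, hSp⟩ : ∃ Sp : ℝ, Sp = ∑ g : G, (if p ∣ orderOf g then (0 : ℝ) else
      Complex.normSq ((χ : G → ℂ) g - ((1 : ℤ) : ℂ) * (ψ : G → ℂ) g)) := ⟨_, rfl⟩
  rw [← hSm, ← ha, ← hN, hχχ, hψψ] at hm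
  rw [← hSp, ← ha, ← hN, hχχ, hψψ] at hp1
  push_cast at hm hp1
  have hnnm : ∀ g ∈ (Finset.univ : Finset G), (0 : ℝ) ≤ (if p ∣ orderOf g then (0 : ℝ) else
      Complex.normSq ((χ : G → ℂ) g - ((-1 : ℤ) : ℂ) * (ψ : G → ℂ) g)) := by
    intro g _
    split_ifs
    · exact le_refl _
    · exact Complex.normSq_nonneg _
  have hnnp : ∀ g ∈ (Finset.univ : Finset G), (0 : ℝ) ≤ (if p ∣ orderOf g then (0 : ℝ) else
      Complex.normSq ((χ : G → ℂ) g - ((1 : ℤ) : ℂ) * (ψ : G → ℂ) g)) := by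
    intro g _
    split_ifs
    · exact le_refl _
    · exact Complex.normSq_nonneg _
  have hSmpos : 0 < Sm := by
    have h3 := Finset.single_le_sum hnnm (Finset.mem_univ (1 : G))
    rw [if_neg (by rw [orderOf_one]; exact hp.not_dvd_one), ← hSm] at h3
    refine lt_of_lt_of_le ?_ h3
    rw [Complex.normSq_pos]
    obtain ⟨hχ1, hχ0, -⟩ := irr_charDegree_spec χ
    obtain ⟨hψ1, hψ0, -⟩ := irr_charDegree_spec ψ
    rw [hχ1, hψ1]
    intro h0
    push_cast at h0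
    have h5 : ((charDegree (χ : G → ℂ) + charDegree (ψ : G → ℂ) : ℕ) : ℂ) = 0 := by
      push_cast
      linear_combination h0
    have h6 := Nat.cast_eq_zero.mp h5
    omega
  have hSpnn : 0 ≤ Sp := by rw [hSp]; exact Finset.sum_nonneg hnnp
  have hgtR : -((p : ℝ) ^ s) < (tildeN p χ ψ : ℝ) := by
    have h1 : 0 < (p : ℝ) ^ a * Sm := mul_pos hpaR hSmpos
    rw [hm] at h1
    by_contra hcon
    push_neg at hcon
    nlinarith [mul_nonneg hNpos.le (sub_nonneg.mpr hcon)]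
  have hleR : (tildeN p χ ψ : ℝ) ≤ (p : ℝ) ^ s := by
    have h1 : 0 ≤ (p : ℝ) ^ a * Sp := mul_nonneg hpaR.le hSpnn
    rw [hp1] at h1
    by_contra hcon
    push_neg at hcon
    nlinarith [mul_pos hNpos (sub_pos.mpr hcon)]
  have hgt : -((p : ℤ) ^ s) < tildeN p χ ψ := by exact_mod_cast hgtR
  have hle : tildeN p χ ψ ≤ (p : ℤ) ^ s := by exact_mod_cast hleR
  have hn_eq : tildeN p χ ψ = (p : ℤ) ^ s := by
    obtain ⟨c, hc⟩ := hdvd
    rw [hc] at hgt hle hne ⊢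
    have hc0 : -1 < c := by
      by_contra h
      push_neg at h
      nlinarith [mul_nonneg hq.le (by linarith : (0 : ℤ) ≤ -1 - c)]
    have hc1 : c ≤ 1 := by
      by_contra h
      push_neg at h
      nlinarith [mul_pos hq (by linarith : (0 : ℤ) < c - 1)]
    have hcne : c ≠ 0 := by
      rintro rfl
      exact hne (mul_zero _)
    have hc' : c = 1 := by omega
    rw [hc', mul_one]
  refine ⟨hht χ hχ, hn_eq, ?_⟩
  have hSp0 : Sp = 0 := by
    have hnR : (tildeN p χ ψ : ℝ) = (p : ℝ) ^ s := by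
      exact_mod_cast congrArg (Int.cast : ℤ → ℝ) hn_eq
    rw [hnR] at hp1
    have h1 : (p : ℝ) ^ a * Sp = 0 := by rw [hp1]; ring
    exact (mul_eq_zero.mp h1).resolve_left hpaR.ne'
  intro g hg
  rw [hSp] at hSp0
  have h3 := (Finset.sum_eq_zero_iff_of_nonneg hnnp).mp hSp0 g (Finset.mem_univ g)
  rw [if_neg hg] at h3
  have h4 := Complex.normSq_eq_zero.mp h3
  push_cast at h4
  linear_combination h4

end

end Cfsg.Agent.Helper22
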