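import Mathlib
import Cfsg.Agent.Helper5.BlkKul
import Cfsg.Agent.Helper5.BlkNorm
import Cfsg.Agent.Helper5.BlkOrth
import Cfsg.Agent.Helper5.BlkOrth2
import Cfsg.Agent.Helper22.GalIrr
import Cfsg.Agent.Helper22.BlkCover
import Cfsg.Agent.Helper24.CharComplete

/-!
helper22: the principal block and sums over `p`-regular elements; central products.

* `card_reg_not_dvd` : the number of `p`-regular elements is prime to `p`.
* `principal_iff_reg_sum` : `χ` lies in the principal block iff its sum over the `p`-regular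
  elements is nonzero.
* `reg_decomp`, `central_prod_reg_sum`, `central_prod_mul`, `central_prod_res` : central
  products `G = U V` with `U ∩ V` a `p`-group.
-/

set_option autoImplicit false

namespace Cfsg.Agent.Helper22

open Cfsg Cfsg.Agent.Helper24 Cfsg.Agent.Helper5

universe u

variable {G : Type u} [Group G] [Fintype G]

/-- the number of `p`-regular elements is prime to `p`. -/
theorem card_reg_not_dvd {p : ℕ} [Fact p.Prime] {M : Ideal AlgInt} (hM : IsPModular p M) :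
    ¬ p ∣ Nat.card {y : G // ¬ p ∣ orderOf y} := by
  classical
  haveI hMp : M.IsPrime := hM.2.1.isPrime
  have hp : p.Prime := Fact.out
  obtain ⟨triv, htriv⟩ : ∃ t : IrrCharacter G, (t : G → ℂ) = fun _ => 1 :=
    ⟨⟨_, Cfsg.Agent.Helper24.isIrrCharacter_one⟩, rfl⟩
  have hPB := principalBlock_eq_blockOf M triv htriv
  have hβloc : ∀ g' : G, MemLocalRing M (blockCoeff (principalBlock M G) g') := fun g' => by
    rw [hPB]
    exact blockCoeff_memLocalRing triv g'
  obtain ⟨F, hF⟩ : ∃ F : G → ℂ,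
      F = fun x => if (∃ k : ℕ, orderOf x = p ^ k) then 1 else 0 := ⟨_, rfl⟩
  have hF1 : ∀ x : G, (∃ k : ℕ, orderOf x = p ^ k) → F x = 1 := fun x h => by
    rw [hF]
    exact if_pos h
  have hF0 : ∀ x : G, ¬ (∃ k : ℕ, orderOf x = p ^ k) → F x = 0 := fun x h => by
    rw [hF]
    exact if_neg h
  obtain ⟨F', hF'⟩ : ∃ F' : G → ℂ, F' = fun y => if p ∣ orderOf y then 0 else 1 := ⟨_, rfl⟩
  have hF'1 : ∀ y : G, ¬ p ∣ orderOf y → F' y = 1 := fun y h => by
    rw [hF']
    exact if_neg h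
  have hF'0 : ∀ y : G, p ∣ orderOf y → F' y = 0 := fun y h => by
    rw [hF']
    exact if_pos h
  have hR : (Nat.card {y : G // ¬ p ∣ orderOf y} : ℂ) = ∑ y : G, F' y := by
    rw [Nat.card_eq_fintype_card, Fintype.card_subtype, Finset.card_filter]
    push_cast
    refine Finset.sum_congr rfl fun y _ => ?_
    by_cases hy : p ∣ orderOf y
    · rw [if_neg (not_not.mpr hy), hF'0 y hy]
    · rw [if_pos hy, hF'1 y hy]
  have h1reg : ¬ p ∣ orderOf (1 : G) := by
    rw [orderOf_one]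
    exact fun hd => hp.one_lt.ne' (Nat.dvd_one.mp hd)
  have hc1 := kul_congr hM F hF1 hF0 F' hF'1 hF'0 1 h1reg
  rw [inv_one] at hc1
  have hN1 : ∑ x : G, F x * F' (x⁻¹ * 1) = 1 := by
    rw [Finset.sum_eq_single (1 : G)]
    · rw [hF1 1 ⟨0, by rw [orderOf_one, pow_zero]⟩, inv_one, one_mul, one_mul, hF'1 1 h1reg]
    · intro x _ hx1
      by_cases hx : ∃ k : ℕ, orderOf x = p ^ k
      · obtain ⟨k, hk⟩ := hx
        have hk0 : k ≠ 0 := by
          rintro rfl
          rw [pow_zero] at hk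
          exact hx1 (orderOf_eq_one_iff.mp hk)
        have hxs : p ∣ orderOf (x⁻¹ * 1) := by
          rw [mul_one, orderOf_inv, hk]
          exact dvd_pow_self p hk0
        rw [hF'0 _ hxs, mul_zero]
      · rw [hF0 x hx, zero_mul]
    · intro h
      exact absurd (Finset.mem_univ _) h
  rw [hN1] at hc1
  obtain ⟨Rn, hRn⟩ : ∃ Rn : ℕ, Rn = Nat.card {y : G // ¬ p ∣ orderOf y} := ⟨_, rfl⟩
  rw [← hRn] at hR ⊢
  intro hd
  obtain ⟨q, hq⟩ := hd
  have h2 : MemLocalIdeal M ((Rn : ℂ)) := by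
    rw [hq]
    push_cast
    have h5 := memLocalIdeal_mul_left (natCast_memLocalRing (M := M) q)
      (prime_memLocalIdeal hM)
    rwa [mul_comm] at h5
  have h3 : MemLocalIdeal M ((∑ y : G, F' y) * blockCoeff (principalBlock M G) 1) := by
    rw [← hR, mul_comm]
    exact memLocalIdeal_mul_left (hβloc 1) h2
  have h4 := memLocalIdeal_add hMp hc1 h3
  rw [sub_add_cancel] at h4
  exact not_memLocalIdeal_one h4

/-- `χ` lies in the principal block iff its sum over the `p`-regular elements is nonzero. -/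
theorem principal_iff_reg_sum {p : ℕ} [Fact p.Prime] {M : Ideal AlgInt} (hM : IsPModular p M)
    (χ : IrrCharacter G) :
    χ ∈ principalBlock M G ↔
      ∑ x : G, (if ¬ p ∣ orderOf x then (χ : G → ℂ) x else 0) ≠ 0 := by
  classical
  haveI hMp : M.IsPrime := hM.2.1.isPrime
  have hp : p.Prime := Fact.out
  obtain ⟨t, ht⟩ : ∃ t : IrrCharacter G, (t : G → ℂ) = fun _ => 1 :=
    ⟨⟨_, Cfsg.Agent.Helper24.isIrrCharacter_one⟩, rfl⟩
  have htx : ∀ x : G, (t : G → ℂ) x = 1 := fun x => by rw [ht]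
  have hPB := principalBlock_eq_blockOf M t ht
  constructor
  · intro hχ hsum0
    have hsb : SameBlock M (t : G → ℂ) (χ : G → ℂ) := by
      rw [hPB] at hχ
      exact hχ
    obtain ⟨F', hF'⟩ : ∃ F' : G → ℂ, F' = fun y => if ¬ p ∣ orderOf y then 1 else 0 :=
      ⟨_, rfl⟩
    have hF'app : ∀ y, F' y = if ¬ p ∣ orderOf y then 1 else 0 := fun y => by rw [hF']
    have hcl : IsClassFunction G F' := by
      intro g h
      rw [hF'app, hF'app]
      have ho : orderOf (h * g * h⁻¹) = orderOf g := (MulAut.conj h).orderOf_eq g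
      rw [ho]
    have hloc : ∀ g, MemLocalRing M (F' g) := by
      intro g
      rw [hF'app]
      by_cases hg : p ∣ orderOf g
      · rw [if_neg (not_not.mpr hg)]
        exact (locRing M).zero_mem
      · rw [if_pos hg]
        exact (locRing M).one_mem
    have hcong := classFun_congr hcl hloc hsb
    have h2 : ∑ g : G, F' g * (χ : G → ℂ) g = 0 := by
      refine Eq.trans (Finset.sum_congr rfl fun g _ => ?_) hsum0
      rw [hF'app]
      by_cases hg : p ∣ orderOf g
      · rw [if_neg (not_not.mpr hg), if_neg (not_not.mpr hg), zero_mul]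
      · rw [if_pos hg, if_pos hg, one_mul]
    have h3 : ∑ g : G, F' g * (t : G → ℂ) g =
        (Nat.card {y : G // ¬ p ∣ orderOf y} : ℂ) := by
      rw [Nat.card_eq_fintype_card, Fintype.card_subtype, Finset.card_filter]
      push_cast
      refine Finset.sum_congr rfl fun g _ => ?_
      rw [htx, mul_one, hF'app]
    rw [h2, h3, mul_zero, sub_zero, htx, inv_one, one_mul] at hcong
    exact not_memLocalIdeal_natCast hM
      ((Nat.Prime.coprime_iff_not_dvd hp).mpr (card_reg_not_dvd hM)).symm hcong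
  · intro hne
    by_contra hχ
    have hns : ¬ SameBlock M (t : G → ℂ) (χ : G → ℂ) := by
      rw [hPB] at hχ
      exact hχ
    have h := block_reg_orth hM t χ hns
    rw [finsum_setOf_eq_sum'] at h
    apply hne
    have h5 : starRingEnd ℂ (∑ x : G, (if ¬ p ∣ orderOf x then (χ : G → ℂ) x else 0)) = 0 := by
      rw [map_sum]
      refine Eq.trans (Finset.sum_congr rfl fun x _ => ?_) h
      by_cases hx : p ∣ orderOf x
      · rw [if_neg (not_not.mpr hx), if_neg (not_not.mpr hx), map_zero]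
      · rw [if_pos hx, if_pos hx, htx, one_mul]
    exact (map_eq_zero (starRingEnd ℂ)).mp h5

omit [Fintype G] in
theorem reg_pow [Finite G] {p : ℕ} (hp : p.Prime) (x : G) (E : ℕ) (hE : orderOf x ≤ E) :
    ¬ p ∣ orderOf (x ^ (p ^ E)) := by
  obtain ⟨j, r, hr, hjr⟩ := Nat.exists_eq_pow_mul_and_not_dvd (orderOf_pos x).ne' p hp.ne_one
  have hj : j ≤ E := by
    have h1 : j < p ^ j := Nat.lt_pow_self hp.one_lt
    have h2 : p ^ j ≤ orderOf x := Nat.le_of_dvd (orderOf_pos x) (Dvd.intro r hjr.symm)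
    omega
  have h3 : (x ^ (p ^ E)) ^ r = 1 := by
    rw [← pow_mul]
    apply orderOf_dvd_iff_pow_eq_one.mp
    rw [hjr]
    exact mul_dvd_mul_right (pow_dvd_pow p hj) r
  intro hdvd
  exact hr (dvd_trans hdvd (orderOf_dvd_of_pow_eq_one h3))

omit [Fintype G] in
/-- a `p`-regular product of commuting elements is the product of `p`-regular powers. -/
theorem reg_decomp [Finite G] {p : ℕ} (hp : p.Prime) (u v : G) (huv : Commute u v)
    (hg : ¬ p ∣ orderOf (u * v)) :
    ∃ e : ℕ, ¬ p ∣ orderOf (u ^ e) ∧ ¬ p ∣ orderOf (v ^ e) ∧ u ^ e * v ^ e = u * v := by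
  obtain ⟨E, hE⟩ : ∃ E : ℕ, E = Nat.totient (orderOf (u * v)) * (orderOf u * orderOf v) :=
    ⟨_, rfl⟩
  have hφ : 0 < Nat.totient (orderOf (u * v)) := Nat.totient_pos.mpr (orderOf_pos _)
  have hu : orderOf u ≤ E := by
    rw [hE]
    calc orderOf u ≤ orderOf u * orderOf v := Nat.le_mul_of_pos_right _ (orderOf_pos v)
      _ ≤ _ := Nat.le_mul_of_pos_left _ hφ
  have hv : orderOf v ≤ E := by
    rw [hE]
    calc orderOf v ≤ orderOf u * orderOf v := Nat.le_mul_of_pos_left _ (orderOf_pos u)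
      _ ≤ _ := Nat.le_mul_of_pos_left _ hφ
  refine ⟨p ^ E, reg_pow hp u E hu, reg_pow hp v E hv, ?_⟩
  rw [← huv.mul_pow]
  have hcop : Nat.Coprime p (orderOf (u * v)) := (Nat.Prime.coprime_iff_not_dvd hp).mpr hg
  have h1 : p ^ Nat.totient (orderOf (u * v)) ≡ 1 [MOD orderOf (u * v)] :=
    Nat.ModEq.pow_totient hcop
  have h2 := h1.pow (orderOf u * orderOf v)
  rw [← pow_mul, one_pow, ← hE] at h2
  have h3 : (u * v) ^ (p ^ E) = (u * v) ^ 1 := pow_eq_pow_iff_modEq.mpr h2
  rw [h3, pow_one]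

/-- in a central product `G = U V` with `U ∩ V` a `p`-group, the `p`-regular elements are
exactly the products of `p`-regular elements of `U` and `V`, in a unique way. -/
theorem central_prod_reg_sum {p : ℕ} [Fact p.Prime] (U V : Subgroup G) [Fintype U] [Fintype V]
    (hcomm : ∀ u ∈ U, ∀ v ∈ V, u * v = v * u)
    (hprod : ∀ g : G, ∃ u ∈ U, ∃ v ∈ V, g = u * v)
    (hZ : IsPGroup p ↥(U ⊓ V)) (f : G → ℂ) :
    ∑ g : G, (if ¬ p ∣ orderOf g then f g else 0) =
      ∑ a : U × V, (if (¬ p ∣ orderOf (a.1 : G) ∧ ¬ p ∣ orderOf (a.2 : G)) then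
        f ((a.1 : G) * (a.2 : G)) else 0) := by
  classical
  have hp : p.Prime := Fact.out
  have key : ∀ z ∈ U ⊓ V, ∀ t : G, Commute t z → ¬ p ∣ orderOf t → ¬ p ∣ orderOf (t * z) →
      z = 1 := by
    intro z hz t htz ht htz'
    obtain ⟨k, hk⟩ := hZ ⟨z, hz⟩
    have hk' : z ^ (p ^ k) = 1 := by
      have h := congrArg Subtype.val hk
      simpa using h
    have hm : z ^ (orderOf t * orderOf (t * z)) = 1 := by
      have h1 : (t * z) ^ (orderOf t * orderOf (t * z)) = 1 := by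
        rw [mul_comm (orderOf t), pow_mul, pow_orderOf_eq_one, one_pow]
      rw [htz.mul_pow, pow_mul, pow_orderOf_eq_one, one_pow, one_mul] at h1
      exact h1
    have hcop : Nat.Coprime (orderOf t * orderOf (t * z)) (p ^ k) := by
      apply Nat.Coprime.pow_right
      exact Nat.Coprime.mul_left ((Nat.Prime.coprime_iff_not_dvd hp).mpr ht).symm
        ((Nat.Prime.coprime_iff_not_dvd hp).mpr htz').symm
    have h2 : orderOf z ∣ Nat.gcd (orderOf t * orderOf (t * z)) (p ^ k) :=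
      Nat.dvd_gcd (orderOf_dvd_of_pow_eq_one hm) (orderOf_dvd_of_pow_eq_one hk')
    rw [Nat.Coprime.gcd_eq_one hcop] at h2
    exact orderOf_eq_one_iff.mp (Nat.dvd_one.mp h2)
  rw [← Finset.sum_filter, ← Finset.sum_filter]
  symm
  refine Finset.sum_bij (fun a _ => (a.1 : G) * (a.2 : G)) ?_ ?_ ?_ ?_
  · intro a ha
    have ha' := Finset.mem_filter.mp ha
    refine Finset.mem_filter.mpr ⟨Finset.mem_univ _, fun hdvd => ?_⟩
    have hc : Commute (a.1 : G) (a.2 : G) := hcomm _ a.1.2 _ a.2.2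
    have h1 := dvd_trans hdvd hc.orderOf_mul_dvd_lcm
    have h2 := dvd_trans h1 (Nat.lcm_dvd_mul _ _)
    rcases (Nat.Prime.dvd_mul hp).mp h2 with h3 | h3
    · exact ha'.2.1 h3
    · exact ha'.2.2 h3
  · intro a ha b hb hab
    have ha' := Finset.mem_filter.mp ha
    have hb' := Finset.mem_filter.mp hb
    have hab' : (a.1 : G) * (a.2 : G) = (b.1 : G) * (b.2 : G) := hab
    have hz1 : (b.1 : G)⁻¹ * (a.1 : G) ∈ U := U.mul_mem (U.inv_mem b.1.2) a.1.2
    have hz2 : (b.1 : G)⁻¹ * (a.1 : G) = (b.2 : G) * (a.2 : G)⁻¹ := by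
      rw [inv_mul_eq_iff_eq_mul, ← mul_assoc, ← hab', mul_inv_cancel_right]
    have hz3 : (b.1 : G)⁻¹ * (a.1 : G) ∈ V := by
      rw [hz2]
      exact V.mul_mem b.2.2 (V.inv_mem a.2.2)
    have hzc : Commute (b.1 : G) ((b.1 : G)⁻¹ * (a.1 : G)) := hcomm _ b.1.2 _ hz3
    have hz : (b.1 : G)⁻¹ * (a.1 : G) = 1 := by
      apply key _ (Subgroup.mem_inf.mpr ⟨hz1, hz3⟩) (b.1 : G) hzc hb'.2.1
      rw [mul_inv_cancel_left]
      exact ha'.2.1
    have e1 : (a.1 : G) = (b.1 : G) := (inv_mul_eq_one.mp hz).symm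
    have e2 : (a.2 : G) = (b.2 : G) := by
      rw [e1] at hab'
      exact mul_left_cancel hab'
    exact Prod.ext (Subtype.ext e1) (Subtype.ext e2)
  · intro g hg
    have hg' := Finset.mem_filter.mp hg
    obtain ⟨u, hu, v, hv, huv⟩ := hprod g
    rw [huv] at hg'
    obtain ⟨e, he1, he2, he3⟩ := reg_decomp hp u v (hcomm u hu v hv) hg'.2
    refine ⟨(⟨u ^ e, U.pow_mem hu e⟩, ⟨v ^ e, V.pow_mem hv e⟩), ?_, he3.trans huv.symm⟩
    exact Finset.mem_filter.mpr ⟨Finset.mem_univ _, he1, he2⟩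
  · intro a ha
    rfl

/-- in a central product, an irreducible character is multiplicative across the factors. -/
theorem central_prod_mul (U V : Subgroup G)
    (hcomm : ∀ u ∈ U, ∀ v ∈ V, u * v = v * u)
    (hprod : ∀ g : G, ∃ u ∈ U, ∃ v ∈ V, g = u * v)
    (χ : IrrCharacter G) (u v : G) (hu : u ∈ U) (hv : v ∈ V) :
    (χ : G → ℂ) (u * v) * (χ : G → ℂ) 1 = (χ : G → ℂ) u * (χ : G → ℂ) v := by
  have h1 := sum_conj_mul χ u v
  have h2 : ∀ g : G, (χ : G → ℂ) (u * g * v * g⁻¹) = (χ : G → ℂ) (u * v) := by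
    intro g
    obtain ⟨a, ha, b, hb, rfl⟩ := hprod g
    have e1 : a * (b * v * b⁻¹) = (b * v * b⁻¹) * a :=
      hcomm a ha _ (V.mul_mem (V.mul_mem hb hv) (V.inv_mem hb))
    have e2 : u * b = b * u := hcomm u hu b hb
    have e3 : u * (a * b) * v * (a * b)⁻¹ = b * (u * v) * b⁻¹ := by
      calc u * (a * b) * v * (a * b)⁻¹ = u * (a * (b * v * b⁻¹)) * a⁻¹ := by group
        _ = u * ((b * v * b⁻¹) * a) * a⁻¹ := by rw [e1]
        _ = (u * b) * v * b⁻¹ := by group
        _ = (b * u) * v * b⁻¹ := by rw [e2]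
        _ = b * (u * v) * b⁻¹ := by group
    rw [e3, irr_conj]
  have h3 : ∑ g : G, (χ : G → ℂ) (u * g * v * g⁻¹) = (Nat.card G : ℂ) * (χ : G → ℂ) (u * v) := by
    rw [Finset.sum_congr rfl (fun g _ => h2 g), Finset.sum_const, Finset.card_univ,
      nsmul_eq_mul, Nat.card_eq_fintype_card]
  rw [h3] at h1
  have hG0 : (Nat.card G : ℂ) ≠ 0 := Nat.cast_ne_zero.mpr Nat.card_pos.ne'
  have h10 := Cfsg.Agent.Helper5.irr_one_ne_zero χ
  have h4 : (Nat.card G : ℂ) * ((χ : G → ℂ) (u * v) * (χ : G → ℂ) 1) =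
      (Nat.card G : ℂ) * ((χ : G → ℂ) u * (χ : G → ℂ) v) := by
    rw [← mul_assoc, h1, div_mul_cancel₀ _ h10, mul_assoc]
  exact mul_left_cancel₀ hG0 h4

/-- in a central product, the restriction of an irreducible character to a factor is a multiple
of one irreducible character. -/
theorem central_prod_res (U V : Subgroup G) [Fintype U]
    (hcomm : ∀ u ∈ U, ∀ v ∈ V, u * v = v * u)
    (hprod : ∀ g : G, ∃ u ∈ U, ∃ v ∈ V, g = u * v)
    (χ : IrrCharacter G) (ψ : IrrCharacter U)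
    (h : classInner (fun u : U => (χ : G → ℂ) u) (ψ : U → ℂ) ≠ 0) (x : U) :
    (χ : G → ℂ) x = classInner (fun u : U => (χ : G → ℂ) u) (ψ : U → ℂ) * (ψ : U → ℂ) x := by
  classical
  have hconjmem : ∀ (n : G), n ∈ U → ∀ g : G, g * n * g⁻¹ ∈ U := by
    intro n hn g
    obtain ⟨a, ha, b, hb, rfl⟩ := hprod g
    have e : a * b * n * (a * b)⁻¹ = a * n * a⁻¹ := by
      have e1 : b * n = n * b := (hcomm n hn b hb).symm
      calc a * b * n * (a * b)⁻¹ = a * (b * n) * b⁻¹ * a⁻¹ := by group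
        _ = a * (n * b) * b⁻¹ * a⁻¹ := by rw [e1]
        _ = a * n * a⁻¹ := by group
    rw [e]
    exact U.mul_mem (U.mul_mem ha hn) (U.inv_mem ha)
  haveI hN : U.Normal := ⟨hconjmem⟩
  have hcl : IsClassFunction U (fun u : U => (χ : G → ℂ) u) :=
    fun g k => irr_conj χ (g : G) (k : G)
  have hexp := congrFun (classFunction_eq_sum_irr (fun u : U => (χ : G → ℂ) u) hcl) x
  simp only [Finset.sum_apply, Pi.smul_apply, smul_eq_mul] at hexp
  refine hexp.trans ?_
  refine Finset.sum_eq_single ψ (fun θ _ hθ => ?_) (fun hψ => absurd (Finset.mem_univ _) hψ)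
  have h0 : classInner (fun u : U => (χ : G → ℂ) u) (θ : U → ℂ) = 0 := by
    by_contra hne
    obtain ⟨g, hg⟩ := exists_twist_of_constituent U (χ : G → ℂ) χ.2 ψ θ h hne
    apply hθ
    apply Subtype.ext
    rw [hg]
    funext n
    show (ψ : U → ℂ) ⟨g * n * g⁻¹, _⟩ = (ψ : U → ℂ) n
    obtain ⟨a, ha, b, hb, hab⟩ := hprod g
    have e : (⟨g * (n : G) * g⁻¹, hN.conj_mem n n.2 g⟩ : U) =
        (⟨a, ha⟩ : U) * n * (⟨a, ha⟩ : U)⁻¹ := by
      apply Subtype.ext
      show g * (n : G) * g⁻¹ = a * (n : G) * a⁻¹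
      have e1 : b * (n : G) = (n : G) * b := (hcomm _ n.2 b hb).symm
      rw [hab]
      calc a * b * (n : G) * (a * b)⁻¹ = a * (b * (n : G)) * b⁻¹ * a⁻¹ := by group
        _ = a * ((n : G) * b) * b⁻¹ * a⁻¹ := by rw [e1]
        _ = a * (n : G) * a⁻¹ := by group
    exact (congrArg (ψ : U → ℂ) e).trans (irr_conj ψ n ⟨a, ha⟩)
  rw [h0, zero_mul]

end Cfsg.Agent.Helper22
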