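import Mathlib
import Cfsg.Agent.Helper22.BlkPrinReg
import Cfsg.Agent.Helper22.GalIrr
import Cfsg.Agent.Helper22.GalChar2
import Cfsg.Agent.Helper22.IrrKer
import Cfsg.Agent.Helper24.CharPerm
import Cfsg.Agent.Helper5.BlkKer

/-!
helper22: the principal block under Galois conjugation and under the quotient by a normal
`p'`-subgroup.

* `galIrr`, `galIrr_bijective`, `principal_galIrr` : the principal block is Galois stable.
* `principal_norm_int` : `∑_{χ ∈ B₀} χ(x) χ(x⁻¹)` is a rational integer.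
* `principal_infl_iff`, `principal_exists_infl`, `principal_sum_quot` : the principal block of
  `G` is the inflation of the principal block of `G ⧸ K`, `K` a normal `p'`-subgroup.
-/

set_option autoImplicit false

namespace Cfsg.Agent.Helper22

open Cfsg Cfsg.Agent.Helper24 Cfsg.Agent.Helper5

universe u

variable {G : Type u} [Group G] [Fintype G]

/-- Galois conjugation on irreducible characters. -/
noncomputable def galIrr (u : (ZMod (Nat.card G))ˣ) (χ : IrrCharacter G) : IrrCharacter G :=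
  ⟨galConj (χ : G → ℂ) u, isIrrCharacter_galConj χ u⟩

theorem galIrr_apply (u : (ZMod (Nat.card G))ˣ) (χ : IrrCharacter G) (g : G) :
    (galIrr u χ : G → ℂ) g = (χ : G → ℂ) (g ^ (u : ZMod (Nat.card G)).val) := rfl

theorem galIrr_inv_left (u : (ZMod (Nat.card G))ˣ) (χ : IrrCharacter G) :
    galIrr u⁻¹ (galIrr u χ) = χ := by
  apply Subtype.ext
  funext g
  show (χ : G → ℂ) ((g ^ ((u⁻¹ : (ZMod (Nat.card G))ˣ) : ZMod (Nat.card G)).val) ^
    (u : ZMod (Nat.card G)).val) = (χ : G → ℂ) g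
  rw [pow_unit_mul, mul_inv_cancel, pow_unit_one]

theorem galIrr_bijective (u : (ZMod (Nat.card G))ˣ) :
    Function.Bijective (galIrr (G := G) u) := by
  refine Function.bijective_iff_has_inverse.mpr
    ⟨galIrr u⁻¹, fun χ => galIrr_inv_left u χ, fun χ => ?_⟩
  have h := galIrr_inv_left u⁻¹ χ
  rw [inv_inv] at h
  exact h

/-- the principal block is stable under Galois conjugation. -/
theorem principal_galIrr {p : ℕ} [Fact p.Prime] {M : Ideal AlgInt} (hM : IsPModular p M)
    (u : (ZMod (Nat.card G))ˣ) (χ : IrrCharacter G) :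
    galIrr u χ ∈ principalBlock M G ↔ χ ∈ principalBlock M G := by
  rw [principal_iff_reg_sum hM, principal_iff_reg_sum hM]
  have h := sum_pow_unit (fun g : G => if ¬ p ∣ orderOf g then (χ : G → ℂ) g else 0) u
  have e : ∑ x : G, (if ¬ p ∣ orderOf x then (galIrr u χ : G → ℂ) x else 0) =
      ∑ x : G, (if ¬ p ∣ orderOf x then (χ : G → ℂ) x else 0) := by
    refine Eq.trans (Finset.sum_congr rfl fun g _ => ?_) h
    have ho : orderOf (g ^ (u : ZMod (Nat.card G)).val) = orderOf g :=
      Nat.Coprime.orderOf_pow (Nat.Coprime.coprime_dvd_left (orderOf_dvd_natCard g)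
        (ZMod.val_coe_unit_coprime u).symm)
    show (if ¬ p ∣ orderOf g then (χ : G → ℂ) (g ^ (u : ZMod (Nat.card G)).val) else 0) =
      if ¬ p ∣ orderOf (g ^ (u : ZMod (Nat.card G)).val) then
        (χ : G → ℂ) (g ^ (u : ZMod (Nat.card G)).val) else 0
    rw [ho]
  rw [e]

/-- `∑_{χ ∈ B₀} χ(x) χ(x⁻¹)` is a rational integer. -/
theorem principal_norm_int {p : ℕ} [Fact p.Prime] {M : Ideal AlgInt} (hM : IsPModular p M)
    (x : G) [DecidablePred (· ∈ principalBlock M G)] :
    ∃ z : ℤ, ∑ χ : IrrCharacter G,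
      (if χ ∈ principalBlock M G then (χ : G → ℂ) x * (χ : G → ℂ) x⁻¹ else 0) = (z : ℂ) := by
  classical
  obtain ⟨F, hF⟩ : ∃ F : IrrCharacter G → (ZMod (Nat.card G))ˣ → ℂ,
      F = fun (χ : IrrCharacter G) (k : (ZMod (Nat.card G))ˣ) => if χ ∈ principalBlock M G then
        (χ : G → ℂ) (x ^ (k : ZMod (Nat.card G)).val) *
          (χ : G → ℂ) (x⁻¹ ^ (k : ZMod (Nat.card G)).val) else 0 := ⟨_, rfl⟩
  have hFapp : ∀ χ k, F χ k = if χ ∈ principalBlock M G then
        (χ : G → ℂ) (x ^ (k : ZMod (Nat.card G)).val) *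
          (χ : G → ℂ) (x⁻¹ ^ (k : ZMod (Nat.card G)).val) else 0 := fun χ k => by rw [hF]
  have hFfam : ∀ χ, IsCycFam (Nat.card G) (F χ) := by
    intro χ
    by_cases hχ : χ ∈ principalBlock M G
    · have h1 := (char_pow_fam (isCharacter_of_isIrrCharacter χ.2) x).mul
        (char_pow_fam (isCharacter_of_isIrrCharacter χ.2) x⁻¹)
      have e : F χ = fun k : (ZMod (Nat.card G))ˣ => (χ : G → ℂ) (x ^ (k : ZMod (Nat.card G)).val) *
          (χ : G → ℂ) (x⁻¹ ^ (k : ZMod (Nat.card G)).val) := by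
        funext k
        rw [hFapp, if_pos hχ]
      rw [e]
      exact h1
    · have h0 := isCycFam_int (Nat.card G) 0
      simp only [Int.cast_zero] at h0
      have e : F χ = fun _ => (0 : ℂ) := by
        funext k
        rw [hFapp, if_neg hχ]
      rw [e]
      exact h0
  have hsum : IsCycFam (Nat.card G) (fun k => ∑ χ : IrrCharacter G, F χ k) :=
    IsCycFam.sum Finset.univ (fun χ _ => hFfam χ)
  have h1 : ∑ χ : IrrCharacter G, F χ 1 = ∑ χ : IrrCharacter G,
      (if χ ∈ principalBlock M G then (χ : G → ℂ) x * (χ : G → ℂ) x⁻¹ else 0) := by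
    refine Finset.sum_congr rfl fun χ _ => ?_
    rw [hFapp, pow_unit_one, pow_unit_one]
  have hconst : ∀ k : (ZMod (Nat.card G))ˣ,
      (fun k => ∑ χ : IrrCharacter G, F χ k) k = (fun k => ∑ χ : IrrCharacter G, F χ k) 1 := by
    intro k
    show ∑ χ : IrrCharacter G, F χ k = ∑ χ : IrrCharacter G, F χ 1
    rw [h1]
    have h2 := (galIrr_bijective (G := G) k).sum_comp (fun χ : IrrCharacter G =>
      if χ ∈ principalBlock M G then (χ : G → ℂ) x * (χ : G → ℂ) x⁻¹ else 0)
    refine Eq.trans (Finset.sum_congr rfl fun χ _ => ?_) h2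
    show F χ k = if galIrr k χ ∈ principalBlock M G then
      (galIrr k χ : G → ℂ) x * (galIrr k χ : G → ℂ) x⁻¹ else 0
    rw [hFapp, galIrr_apply, galIrr_apply]
    by_cases hχ : χ ∈ principalBlock M G
    · rw [if_pos hχ, if_pos ((principal_galIrr hM k χ).mpr hχ)]
    · rw [if_neg hχ, if_neg (fun h => hχ ((principal_galIrr hM k χ).mp h))]
  obtain ⟨z, hz⟩ := hsum.int_of_const hconst
  exact ⟨z, h1.symm.trans hz⟩

/-- `p`-regularity modulo a normal `p'`-subgroup. -/
theorem dvd_orderOf_mk_iff {p : ℕ} (hp : p.Prime) (K : Subgroup G) [K.Normal]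
    (hK : ¬ p ∣ Nat.card K) (g : G) :
    p ∣ orderOf (QuotientGroup.mk g : G ⧸ K) ↔ p ∣ orderOf g := by
  constructor
  · intro h
    exact dvd_trans h (orderOf_map_dvd (QuotientGroup.mk' K) g)
  · intro h
    by_contra hn
    have h1 : g ^ orderOf (QuotientGroup.mk g : G ⧸ K) ∈ K := by
      rw [← QuotientGroup.eq_one_iff, QuotientGroup.mk_pow, pow_orderOf_eq_one]
    have h2 : (g ^ orderOf (QuotientGroup.mk g : G ⧸ K)) ^ Nat.card K = 1 := by
      have h3 : (⟨_, h1⟩ : K) ^ Nat.card K = 1 := pow_card_eq_one'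
      exact congrArg Subtype.val h3
    rw [← pow_mul] at h2
    have h4 := orderOf_dvd_of_pow_eq_one h2
    rcases (Nat.Prime.dvd_mul hp).mp (dvd_trans h h4) with h5 | h5
    · exact hn h5
    · exact hK h5

/-- inflation from the quotient by a normal `p'`-subgroup preserves the principal block. -/
theorem principal_infl_iff {p : ℕ} [Fact p.Prime] {M : Ideal AlgInt} (hM : IsPModular p M)
    (K : Subgroup G) [K.Normal] (hK : ¬ p ∣ Nat.card K) (ψ : IrrCharacter (G ⧸ K)) :
    inflIrr (QuotientGroup.mk' K) (QuotientGroup.mk'_surjective K) ψ ∈ principalBlock M G ↔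
      ψ ∈ principalBlock M (G ⧸ K) := by
  classical
  haveI : Fintype (G ⧸ K) := Fintype.ofFinite _
  have hp : p.Prime := Fact.out
  rw [principal_iff_reg_sum hM, principal_iff_reg_sum hM]
  have h1 := sum_comp_mk K (fun y : G ⧸ K => if ¬ p ∣ orderOf y then (ψ : G ⧸ K → ℂ) y else 0)
  have e : ∑ x : G, (if ¬ p ∣ orderOf x then
      (inflIrr (QuotientGroup.mk' K) (QuotientGroup.mk'_surjective K) ψ : G → ℂ) x else 0) =
      (Nat.card K : ℂ) * ∑ y : G ⧸ K, (if ¬ p ∣ orderOf y then (ψ : G ⧸ K → ℂ) y else 0) := by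
    refine Eq.trans (Finset.sum_congr rfl fun g _ => ?_) h1
    show (if ¬ p ∣ orderOf g then (ψ : G ⧸ K → ℂ) (QuotientGroup.mk g) else 0) =
      if ¬ p ∣ orderOf (QuotientGroup.mk g : G ⧸ K) then
        (ψ : G ⧸ K → ℂ) (QuotientGroup.mk g) else 0
    by_cases hg : p ∣ orderOf g
    · rw [if_neg (not_not.mpr hg),
        if_neg (not_not.mpr ((dvd_orderOf_mk_iff hp K hK g).mpr hg))]
    · rw [if_pos hg, if_pos (fun h => hg ((dvd_orderOf_mk_iff hp K hK g).mp h))]
  rw [e]
  have hK0 : (Nat.card K : ℂ) ≠ 0 := Nat.cast_ne_zero.mpr Nat.card_pos.ne'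
  constructor
  · intro h h0
    apply h
    rw [h0, mul_zero]
  · intro h h0
    rcases mul_eq_zero.mp h0 with h2 | h2
    · exact hK0 h2
    · exact h h2

/-- members of the principal block are inflated from the quotient by a normal `p'`-subgroup. -/
theorem principal_exists_infl {p : ℕ} [Fact p.Prime] {M : Ideal AlgInt} (hM : IsPModular p M)
    (K : Subgroup G) [K.Normal] (hK : ¬ p ∣ Nat.card K) (χ : IrrCharacter G)
    (hχ : χ ∈ principalBlock M G) :
    ∃ ψ : IrrCharacter (G ⧸ K),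
      inflIrr (QuotientGroup.mk' K) (QuotientGroup.mk'_surjective K) ψ = χ := by
  haveI hMp : M.IsPrime := hM.2.1.isPrime
  obtain ⟨t, ht⟩ : ∃ t : IrrCharacter G, (t : G → ℂ) = fun _ => 1 :=
    ⟨⟨_, Cfsg.Agent.Helper24.isIrrCharacter_one⟩, rfl⟩
  have hPB := principalBlock_eq_blockOf M t ht
  have hsb : SameBlock M (t : G → ℂ) (χ : G → ℂ) := by
    rw [hPB] at hχ
    exact hχ
  have hker := ker_of_sameBlock hM K hK t χ hsb (fun g _ => by rw [ht])
  obtain ⟨ψ, hψ⟩ := exists_irr_of_ker (QuotientGroup.mk' K) (QuotientGroup.mk'_surjective K) χ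
    (fun u hu => hker u ((QuotientGroup.eq_one_iff u).mp hu))
  exact ⟨ψ, Subtype.ext (funext fun g => (hψ g).symm)⟩

/-- sums over the principal block of `G` and of `G ⧸ K`, `K` a normal `p'`-subgroup. -/
theorem principal_sum_quot {p : ℕ} [Fact p.Prime] {M : Ideal AlgInt} (hM : IsPModular p M)
    (K : Subgroup G) [K.Normal] (hK : ¬ p ∣ Nat.card K)
    {A : Type*} [AddCommMonoid A] (F : (G → ℂ) → A)
    [DecidablePred (· ∈ principalBlock M G)] [DecidablePred (· ∈ principalBlock M (G ⧸ K))] :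
    ∑ χ : IrrCharacter G, (if χ ∈ principalBlock M G then F (χ : G → ℂ) else 0) =
      ∑ ψ : IrrCharacter (G ⧸ K), (if ψ ∈ principalBlock M (G ⧸ K) then
        F (fun g => (ψ : G ⧸ K → ℂ) (QuotientGroup.mk g)) else 0) := by
  classical
  have hinj := inflIrr_injective (QuotientGroup.mk' K) (QuotientGroup.mk'_surjective K)
  symm
  calc ∑ ψ : IrrCharacter (G ⧸ K), (if ψ ∈ principalBlock M (G ⧸ K) then
        F (fun g => (ψ : G ⧸ K → ℂ) (QuotientGroup.mk g)) else 0)
      = ∑ ψ : IrrCharacter (G ⧸ K), (fun χ : IrrCharacter G =>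
          if χ ∈ principalBlock M G then F (χ : G → ℂ) else 0)
          (inflIrr (QuotientGroup.mk' K) (QuotientGroup.mk'_surjective K) ψ) := by
        refine Finset.sum_congr rfl fun ψ _ => ?_
        by_cases hψ : ψ ∈ principalBlock M (G ⧸ K)
        · exact (if_pos hψ).trans (if_pos ((principal_infl_iff hM K hK ψ).mpr hψ)).symm
        · exact (if_neg hψ).trans
            (if_neg (fun h => hψ ((principal_infl_iff hM K hK ψ).mp h))).symm
    _ = ∑ χ ∈ Finset.univ.image
          (inflIrr (QuotientGroup.mk' K) (QuotientGroup.mk'_surjective K)),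
          (if χ ∈ principalBlock M G then F (χ : G → ℂ) else 0) :=
        (Finset.sum_image (f := fun χ : IrrCharacter G =>
          if χ ∈ principalBlock M G then F (χ : G → ℂ) else 0) hinj.injOn).symm
    _ = ∑ χ : IrrCharacter G, (if χ ∈ principalBlock M G then F (χ : G → ℂ) else 0) := by
        refine Finset.sum_subset (Finset.subset_univ _) fun χ _ hχ => ?_
        rw [if_neg]
        intro hχB
        obtain ⟨ψ, hψ⟩ := principal_exists_infl hM K hK χ hχB
        exact hχ (Finset.mem_image.mpr ⟨ψ, Finset.mem_univ _, hψ⟩)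

end Cfsg.Agent.Helper22
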