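import Cfsg.Agent.Helper22.SelfCent2
import Cfsg.Prelude.Def_Solvable

/-!
# Self-centralizing elements of prime order, part 3: the `p'`-core and the derived subgroup
-/

set_option autoImplicit false

namespace Cfsg.Agent.Helper22

open Pointwise
open scoped commutatorElement

section ppc

variable {G : Type*} [Group G]

theorem ppc_normal (p : ℕ) : (Cfsg.pPrimeCore p G).Normal :=
  Subgroup.sSup_normal _ (fun _ h => h.1)

theorem le_ppc {p : ℕ} (N : Subgroup G) (hn : N.Normal) (hN : (Nat.card N).Coprime p) :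
    N ≤ Cfsg.pPrimeCore p G := le_sSup ⟨hn, hN⟩

theorem card_sup_dvd_mul [Finite G] (K H : Subgroup G) [K.Normal] :
    Nat.card (K ⊔ H : Subgroup G) ∣ Nat.card K * Nat.card H := by
  have h1 : Nat.card (K ⊔ H : Subgroup G) = Nat.card K * K.relIndex (K ⊔ H) := by
    rw [← Subgroup.relIndex_bot_left, ← Subgroup.relIndex_bot_left,
      Subgroup.relIndex_mul_relIndex ⊥ K (K ⊔ H) bot_le le_sup_left]
  rw [h1, Subgroup.relIndex_sup_left]
  exact Nat.mul_dvd_mul_left _ (Subgroup.relIndex_dvd_card K H)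

theorem ppc_coprime [Finite G] (p : ℕ) : (Nat.card (Cfsg.pPrimeCore p G)).Coprime p := by
  classical
  let S : Set (Subgroup G) := {N | N.Normal ∧ (Nat.card N).Coprime p}
  have hbot : (⊥ : Subgroup G) ∈ S := ⟨Subgroup.normal_bot, by simp⟩
  have : Nonempty S := ⟨⟨⊥, hbot⟩⟩
  obtain ⟨N0, hN0⟩ := Finite.exists_max (fun N : S => Nat.card N.1)
  have hle : ∀ N ∈ S, N ≤ N0.1 := by
    intro N hN
    have hN0n : N0.1.Normal := N0.2.1
    have hNn : N.Normal := hN.1
    have hsup : (N0.1 ⊔ N) ∈ S := by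
      refine ⟨Subgroup.sup_normal _ _, ?_⟩
      exact Nat.Coprime.coprime_dvd_left (card_sup_dvd_mul N0.1 N)
        (Nat.Coprime.mul_left N0.2.2 hN.2)
    have h1 := hN0 ⟨_, hsup⟩
    have h2 : N0.1 = N0.1 ⊔ N := Subgroup.eq_of_le_of_card_ge le_sup_left h1
    rw [h2]
    exact le_sup_right
  have heq : Cfsg.pPrimeCore p G = N0.1 :=
    le_antisymm (sSup_le hle) (le_sSup N0.2)
  rw [heq]
  exact N0.2.2

theorem ppc_not_dvd [Finite G] {p : ℕ} (hp : p.Prime) : ¬ p ∣ Nat.card (Cfsg.pPrimeCore p G) := by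
  have h := ppc_coprime (G := G) p
  exact (Nat.Prime.coprime_iff_not_dvd hp).mp h.symm

theorem le_ppc' {p : ℕ} (hp : p.Prime) (N : Subgroup G) (hn : N.Normal) (hN : ¬ p ∣ Nat.card N) :
    N ≤ Cfsg.pPrimeCore p G :=
  le_ppc N hn ((Nat.Prime.coprime_iff_not_dvd hp).mpr hN).symm

theorem ppc_characteristic [Finite G] (p : ℕ) : (Cfsg.pPrimeCore p G).Characteristic := by
  rw [Subgroup.characteristic_iff_map_le]
  intro ϕ
  apply le_ppc
  · have := ppc_normal (G := G) p
    exact Subgroup.Normal.map this _ ϕ.surjective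
  · rw [Subgroup.card_map_of_injective ϕ.injective]
    exact ppc_coprime p

theorem ppc_map_subtype_le [Finite G] (p : ℕ) (D : Subgroup G) [D.Normal] :
    (Cfsg.pPrimeCore p ↥D).map D.subtype ≤ Cfsg.pPrimeCore p G := by
  have := ppc_characteristic (G := ↥D) p
  apply le_ppc
  · exact ConjAct.normal_of_characteristic_of_normal
  · rw [Subgroup.card_map_of_injective D.subtype_injective]
    exact ppc_coprime p

end ppc

section main

variable {G : Type*} [Group G] [Finite G] {p : ℕ} {x : G}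

theorem sc_dvd_card_of_mem (hx : orderOf x = p) (T : Subgroup G) (h : x ∈ T) : p ∣ Nat.card T := by
  have h1 := orderOf_dvd_natCard (⟨x, h⟩ : ↥T)
  rwa [Subgroup.orderOf_mk, hx] at h1

theorem sc_not_mem_of_not_dvd (hx : orderOf x = p) (T : Subgroup G) (h : ¬ p ∣ Nat.card T) :
    x ∉ T := fun hmem => h (sc_dvd_card_of_mem hx T hmem)

/-- decomposition `g = d * n` from the Frattini argument -/
theorem sc_exists_mul (hp : p.Prime) (hx : orderOf x = p)
    (hC : Subgroup.centralizer ({x} : Set G) = Subgroup.zpowers x)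
    (D : Subgroup G) [D.Normal] (h : Subgroup.zpowers x ≤ D) (g : G) :
    ∃ d ∈ D, ∃ n ∈ Subgroup.normalizer (Subgroup.zpowers x : Set G), g = d * n := by
  have h1 := sc_frattini hp hx hC D h
  have h2 : g ∈ (D ⊔ Subgroup.normalizer (Subgroup.zpowers x : Set G) : Subgroup G) := by
    rw [sup_comm, h1]; trivial
  rw [← SetLike.mem_coe, Subgroup.normal_mul] at h2
  obtain ⟨d, hd, n, hn, rfl⟩ := Set.mem_mul.mp h2
  exact ⟨d, hd, n, hn, rfl⟩

/-- a subgroup normalized by a normal subgroup `D ≥ ⟨x⟩` and meeting the class of `x`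
contains the commutator subgroup -/
theorem sc_commutator_le_of_normalized (hp : p.Prime) (hx : orderOf x = p)
    (hC : Subgroup.centralizer ({x} : Set G) = Subgroup.zpowers x)
    (D : Subgroup G) [D.Normal] (hxD : Subgroup.zpowers x ≤ D) (T : Subgroup G)
    (hT : ∀ d ∈ D, ∀ t ∈ T, d * t * d⁻¹ ∈ T) (g : G) (hg : g * x * g⁻¹ ∈ T) :
    commutator G ≤ T := by
  -- first `x ∈ T`
  have hxT : Subgroup.zpowers x ≤ T := by
    obtain ⟨d, hd, n, hn, rfl⟩ := sc_exists_mul hp hx hC D hxD g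
    have h1 : d⁻¹ * (d * n * x * (d * n)⁻¹) * d⁻¹⁻¹ ∈ T := hT d⁻¹ (D.inv_mem hd) _ hg
    have h2 : d⁻¹ * (d * n * x * (d * n)⁻¹) * d⁻¹⁻¹ = n * x * n⁻¹ := by group
    rw [h2] at h1
    have h3 : n * x * n⁻¹ ∈ Subgroup.zpowers x :=
      (Subgroup.mem_normalizer_iff.1 hn x).1 (Subgroup.mem_zpowers x)
    have h4 : n * x * n⁻¹ ≠ 1 := by
      have := sc_conj_ne_one hp hx n⁻¹
      simpa using this
    rw [← sc_zpowers_eq_of_mem hp hx h3 h4, Subgroup.zpowers_le]
    exact h1
  have hconj : ∀ g : G, g * x * g⁻¹ ∈ T := by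
    intro g
    obtain ⟨d, hd, n, hn, rfl⟩ := sc_exists_mul hp hx hC D hxD g
    have h3 : n * x * n⁻¹ ∈ Subgroup.zpowers x :=
      (Subgroup.mem_normalizer_iff.1 hn x).1 (Subgroup.mem_zpowers x)
    have h1 := hT d hd _ (hxT h3)
    have h2 : d * (n * x * n⁻¹) * d⁻¹ = d * n * x * (d * n)⁻¹ := by group
    rwa [h2] at h1
  have hle : Subgroup.normalClosure ({x} : Set G) ≤ T := by
    rw [Subgroup.normalClosure, Subgroup.closure_le]
    intro a ha
    rw [Group.mem_conjugatesOfSet_iff] at ha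
    obtain ⟨b, hb, hba⟩ := ha
    rw [Set.mem_singleton_iff] at hb
    subst hb
    obtain ⟨c, rfl⟩ := isConj_iff.1 hba
    exact hconj c
  refine le_trans ?_ hle
  apply sc_commutator_le hp hx hC
  exact sc_dvd_card_of_mem hx _ (Subgroup.subset_normalClosure (Set.mem_singleton x))

/-- a normal subgroup of the commutator subgroup of order divisible by `p` is everything -/
theorem sc_normal_sub_eq_top (hp : p.Prime) (hx : orderOf x = p)
    (hC : Subgroup.centralizer ({x} : Set G) = Subgroup.zpowers x)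
    (T : Subgroup ↥(commutator G)) [hTn : T.Normal] (hT : p ∣ Nat.card T) : T = ⊤ := by
  have := Fact.mk hp
  have hcard : Nat.card (T.map (commutator G).subtype) = Nat.card T :=
    Subgroup.card_map_of_injective (commutator G).subtype_injective
  have hdvdD : p ∣ Nat.card (commutator G) := dvd_trans hT (Subgroup.card_subgroup_dvd_card T)
  have hxD : Subgroup.zpowers x ≤ commutator G := sc_le_of_dvd_card hp hx hC _ hdvdD
  obtain ⟨y, hy⟩ := exists_prime_orderOf_dvd_card' (G := T) p hT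
  have hy' : orderOf ((y : ↥(commutator G)) : G) = p := by
    rw [Subgroup.orderOf_coe, Subgroup.orderOf_coe, hy]
  obtain ⟨g, hg⟩ := sc_exists_conj_mem hp hx hC _ hy'
  have hyT : ((y : ↥(commutator G)) : G) ∈ T.map (commutator G).subtype :=
    ⟨y, y.2, rfl⟩
  have hg' : g⁻¹ * x * g⁻¹⁻¹ ∈ T.map (commutator G).subtype := by
    rw [inv_inv]
    exact (Subgroup.zpowers_le.2 hyT) hg
  have hle : commutator G ≤ T.map (commutator G).subtype := by
    apply sc_commutator_le_of_normalized hp hx hC (commutator G) hxD _ _ g⁻¹ hg'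
    rintro d hd _ ⟨t, ht, rfl⟩
    exact ⟨⟨d, hd⟩ * t * ⟨d, hd⟩⁻¹, hTn.conj_mem t ht ⟨d, hd⟩, rfl⟩
  rw [eq_top_iff]
  intro a _
  obtain ⟨b, hb, hba⟩ := hle a.2
  have : b = a := Subtype.ext hba
  rwa [← this]

/-- a normal `p'`-subgroup of the commutator subgroup lies in the `p'`-core of `G` -/
theorem sc_normal_sub_le_ppc (hp : p.Prime)
    (T : Subgroup ↥(commutator G)) [hTn : T.Normal] (hT : ¬ p ∣ Nat.card T) :
    T ≤ (Cfsg.pPrimeCore p G).subgroupOf (commutator G) := by
  have h1 : T ≤ Cfsg.pPrimeCore p ↥(commutator G) := le_ppc' hp T hTn hT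
  intro a ha
  rw [Subgroup.mem_subgroupOf]
  exact ppc_map_subtype_le p (commutator G) ⟨a, h1 ha, rfl⟩

theorem sc_relIndex_eq_one_iff (hp : p.Prime) (hx : orderOf x = p)
    (hC : Subgroup.centralizer ({x} : Set G) = Subgroup.zpowers x) :
    (Subgroup.zpowers x).relIndex (Subgroup.normalizer (Subgroup.zpowers x : Set G)) = 1 ↔
      Nat.card {C : ConjClasses G // ∃ g ∈ C.carrier, orderOf g = p} = p - 1 := by
  have h := sc_class_count hp hx hC
  have hp1 : 0 < p - 1 := Nat.sub_pos_of_lt hp.one_lt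
  constructor
  · intro he
    rw [he, mul_one] at h
    exact h
  · intro ht
    rw [ht] at h
    exact Nat.eq_of_mul_eq_mul_left hp1 (by rw [h, mul_one])

theorem sc_class_count_le (hp : p.Prime) (hx : orderOf x = p)
    (hC : Subgroup.centralizer ({x} : Set G) = Subgroup.zpowers x) :
    Nat.card {C : ConjClasses G // ∃ g ∈ C.carrier, orderOf g = p} ≤ p - 1 := by
  have h := sc_class_count hp hx hC
  have hp1 : 0 < p - 1 := Nat.sub_pos_of_lt hp.one_lt
  rcases Nat.eq_zero_or_pos
    ((Subgroup.zpowers x).relIndex (Subgroup.normalizer (Subgroup.zpowers x : Set G))) with h0 | h0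
  · rw [h0, mul_zero] at h
    omega
  · calc _ ≤ _ * _ := Nat.le_mul_of_pos_right _ h0
      _ = p - 1 := h

/-- for a normal `p'`-subgroup `S`, the subgroup `S ⊔ ⟨x⟩` has derived subgroup inside `S` -/
theorem sc_comm_sup_le (S : Subgroup G) [S.Normal] :
    ⁅S ⊔ Subgroup.zpowers x, S ⊔ Subgroup.zpowers x⁆ ≤ S := by
  rw [Subgroup.commutator_le]
  intro a ha b hb
  obtain ⟨s1, hs1, z1, hz1, rfl⟩ := Subgroup.mem_sup_of_normal_left.1 ha
  obtain ⟨s2, hs2, z2, hz2, rfl⟩ := Subgroup.mem_sup_of_normal_left.1 hb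
  obtain ⟨i, rfl⟩ := Subgroup.mem_zpowers_iff.1 hz1
  obtain ⟨j, rfl⟩ := Subgroup.mem_zpowers_iff.1 hz2
  rw [← QuotientGroup.eq_one_iff (N := S)]
  have e1 : ((s1 : G) : G ⧸ S) = 1 := (QuotientGroup.eq_one_iff s1).2 hs1
  have e2 : ((s2 : G) : G ⧸ S) = 1 := (QuotientGroup.eq_one_iff s2).2 hs2
  simp only [commutatorElement_def, QuotientGroup.mk_mul, QuotientGroup.mk_inv, e1, e2, one_mul,
    QuotientGroup.mk_zpow]
  have hc : Commute ((x : G ⧸ S) ^ i) ((x : G ⧸ S) ^ j) :=
    (Commute.refl _).zpow_zpow i j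
  rw [hc.eq]
  group

/-- `S ⊔ ⟨x⟩` is normal when `S ⊔ N = ⊤` -/
theorem sc_sup_normal (S : Subgroup G) [hSn : S.Normal]
    (hSN : S ⊔ Subgroup.normalizer (Subgroup.zpowers x : Set G) = ⊤) :
    (S ⊔ Subgroup.zpowers x).Normal := by
  constructor
  intro m hm g
  have hg : g ∈ S ⊔ Subgroup.normalizer (Subgroup.zpowers x : Set G) := by rw [hSN]; trivial
  rw [← SetLike.mem_coe, Subgroup.normal_mul] at hg
  obtain ⟨s, hs, n, hn, rfl⟩ := Set.mem_mul.mp hg
  have h1 : n * m * n⁻¹ ∈ S ⊔ Subgroup.zpowers x := by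
    obtain ⟨s1, hs1, z1, hz1, rfl⟩ := Subgroup.mem_sup_of_normal_left.1 hm
    have h2 : n * (s1 * z1) * n⁻¹ = (n * s1 * n⁻¹) * (n * z1 * n⁻¹) := by group
    rw [h2]
    exact Subgroup.mul_mem _ (Subgroup.mem_sup_left (hSn.conj_mem s1 hs1 n))
      (Subgroup.mem_sup_right ((Subgroup.mem_normalizer_iff.1 hn z1).1 hz1))
  have h3 : s * n * m * (s * n)⁻¹ = s * (n * m * n⁻¹) * s⁻¹ := by group
  rw [h3]
  exact Subgroup.mul_mem _ (Subgroup.mul_mem _ (Subgroup.mem_sup_left hs) h1)
    (Subgroup.inv_mem _ (Subgroup.mem_sup_left hs))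

/-- a normal `p'`-subgroup `S` with `S ⊔ N = ⊤` has order `N.index` -/
theorem sc_card_of_sup_eq_top (hp : p.Prime) (hx : orderOf x = p)
    (hC : Subgroup.centralizer ({x} : Set G) = Subgroup.zpowers x)
    (S : Subgroup G) [hSn : S.Normal] (hS : ¬ p ∣ Nat.card S)
    (hSN : S ⊔ Subgroup.normalizer (Subgroup.zpowers x : Set G) = ⊤) :
    Nat.card S = (Subgroup.normalizer (Subgroup.zpowers x : Set G)).index := by
  have h1 := card_sup_of_inf_eq_bot S _ (sc_inf_normalizer hp hx hC S hS)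
  rw [hSN, Subgroup.card_top] at h1
  have h2 := (Subgroup.normalizer (Subgroup.zpowers x : Set G)).index_mul_card
  rw [h1] at h2
  exact (Nat.eq_of_mul_eq_mul_right Nat.card_pos h2).symm

/-- a normal `p'`-subgroup `S` of order `N.index` satisfies `S ⊔ N = ⊤` -/
theorem sc_sup_eq_top_of_card (hp : p.Prime) (hx : orderOf x = p)
    (hC : Subgroup.centralizer ({x} : Set G) = Subgroup.zpowers x)
    (S : Subgroup G) [hSn : S.Normal] (hS : ¬ p ∣ Nat.card S)
    (hcard : Nat.card S = (Subgroup.normalizer (Subgroup.zpowers x : Set G)).index) :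
    S ⊔ Subgroup.normalizer (Subgroup.zpowers x : Set G) = ⊤ := by
  apply Subgroup.eq_top_of_card_eq
  rw [card_sup_of_inf_eq_bot S _ (sc_inf_normalizer hp hx hC S hS), hcard]
  exact (Subgroup.normalizer (Subgroup.zpowers x : Set G)).index_mul_card

/-- if `e ≠ 1` and `G'' ≠ G'` then `|G''| = N.index` and `|G'| = p * N.index` -/
theorem sc_derived_card (hp : p.Prime) (hx : orderOf x = p)
    (hC : Subgroup.centralizer ({x} : Set G) = Subgroup.zpowers x)
    (he : (Subgroup.zpowers x).relIndex (Subgroup.normalizer (Subgroup.zpowers x : Set G)) ≠ 1)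
    (hne : derivedSeries G 2 ≠ derivedSeries G 1) :
    Nat.card (derivedSeries G 2) = (Subgroup.normalizer (Subgroup.zpowers x : Set G)).index ∧
    Nat.card (commutator G) = p * (Subgroup.normalizer (Subgroup.zpowers x : Set G)).index := by
  have hxD : Subgroup.zpowers x ≤ commutator G := (sc_case_ne_one hp hx hC he).1
  have hD1 : derivedSeries G 1 = commutator G := derivedSeries_one G
  have hD2 : derivedSeries G 2 = ⁅commutator G, commutator G⁆ := by
    rw [derivedSeries_succ, hD1]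
  have hD2n : (derivedSeries G 2).Normal := derivedSeries_normal G 2
  have hle : derivedSeries G 2 ≤ commutator G := by
    rw [← hD1]; exact derivedSeries_antitone G (by norm_num)
  have hD2p : ¬ p ∣ Nat.card (derivedSeries G 2) := by
    intro hdvd
    apply hne
    rw [hD1]
    exact le_antisymm hle (sc_commutator_le hp hx hC _ hdvd)
  -- `M = G'' ⊔ ⟨x⟩` is normal
  have hMle : derivedSeries G 2 ⊔ Subgroup.zpowers x ≤ commutator G := sup_le hle hxD
  have hMn : (derivedSeries G 2 ⊔ Subgroup.zpowers x).Normal := by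
    constructor
    intro m hm g
    obtain ⟨d, hd, n, hn, rfl⟩ := sc_exists_mul hp hx hC (commutator G) hxD g
    have h1 : n * m * n⁻¹ ∈ derivedSeries G 2 ⊔ Subgroup.zpowers x := by
      obtain ⟨s1, hs1, z1, hz1, rfl⟩ := Subgroup.mem_sup_of_normal_left.1 hm
      have h2 : n * (s1 * z1) * n⁻¹ = (n * s1 * n⁻¹) * (n * z1 * n⁻¹) := by group
      rw [h2]
      exact Subgroup.mul_mem _ (Subgroup.mem_sup_left (hD2n.conj_mem s1 hs1 n))
        (Subgroup.mem_sup_right ((Subgroup.mem_normalizer_iff.1 hn z1).1 hz1))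
    have h3 : d * n * m * (d * n)⁻¹ = ⁅d, n * m * n⁻¹⁆ * (n * m * n⁻¹) := by
      rw [commutatorElement_def]; group
    rw [h3]
    refine Subgroup.mul_mem _ (Subgroup.mem_sup_left ?_) h1
    rw [hD2]
    exact Subgroup.commutator_mem_commutator hd (hMle h1)
  have hMeq : derivedSeries G 2 ⊔ Subgroup.zpowers x = commutator G :=
    le_antisymm hMle (sc_commutator_le hp hx hC _
      (sc_dvd_card_of_mem hx _ (Subgroup.mem_sup_right (Subgroup.mem_zpowers x))))
  have hcardD : Nat.card (commutator G) = Nat.card (derivedSeries G 2) * p := by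
    rw [← hMeq, card_sup_of_inf_eq_bot _ _ (sc_inf_eq_bot hx _ hD2p hp), sc_card_zpowers hx]
  have hsup : derivedSeries G 2 ⊔ Subgroup.normalizer (Subgroup.zpowers x : Set G) = ⊤ := by
    rw [eq_top_iff, ← sc_frattini hp hx hC (commutator G) hxD, ← hMeq]
    refine sup_le le_sup_right (sup_le le_sup_left ?_)
    exact le_trans Subgroup.le_normalizer le_sup_right
  have hc2 := sc_card_of_sup_eq_top hp hx hC _ hD2p hsup
  refine ⟨hc2, ?_⟩
  rw [hcardD, hc2, mul_comm]

/-- if `e ≠ 1` and there is a normal subgroup of order `N.index` then `G'' ≠ G'` -/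
theorem sc_derived_ne (hp : p.Prime) (hx : orderOf x = p)
    (hC : Subgroup.centralizer ({x} : Set G) = Subgroup.zpowers x)
    (he : (Subgroup.zpowers x).relIndex (Subgroup.normalizer (Subgroup.zpowers x : Set G)) ≠ 1)
    (S : Subgroup G) [hSn : S.Normal] (hS : ¬ p ∣ Nat.card S)
    (hcard : Nat.card S = (Subgroup.normalizer (Subgroup.zpowers x : Set G)).index) :
    derivedSeries G 2 ≠ derivedSeries G 1 := by
  have hxD : Subgroup.zpowers x ≤ commutator G := (sc_case_ne_one hp hx hC he).1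
  have hD1 : derivedSeries G 1 = commutator G := derivedSeries_one G
  have hD2 : derivedSeries G 2 = ⁅commutator G, commutator G⁆ := by
    rw [derivedSeries_succ, hD1]
  have hsup := sc_sup_eq_top_of_card hp hx hC S hS hcard
  have hMn := sc_sup_normal S hsup
  have hDM : commutator G ≤ S ⊔ Subgroup.zpowers x :=
    sc_commutator_le hp hx hC _
      (sc_dvd_card_of_mem hx _ (Subgroup.mem_sup_right (Subgroup.mem_zpowers x)))
  have hD2S : derivedSeries G 2 ≤ S := by
    rw [hD2]
    exact le_trans (Subgroup.commutator_mono hDM hDM) (sc_comm_sup_le S)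
  intro heq
  rw [hD1] at heq
  have hx2 : x ∈ S := hD2S (heq ▸ hxD (Subgroup.mem_zpowers x))
  exact sc_not_mem_of_not_dvd hx S hS hx2

end main

end Cfsg.Agent.Helper22
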