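import Mathlib
import Cfsg.Agent.Helper22.BlkCover
import Cfsg.Agent.Helper5.BlkOp
import Cfsg.Agent.Helper5.BlkInd

/-!
# Blocks and normal `p`-subgroups (helper22)

Built on helper5's `exists_ker_in_block` / `centralChar_memLocalIdeal_of_ker`.

* `centralChar_memLocalIdeal_of_normal`: for a normal `p`-subgroup `P`, every central character
  takes a value in the local ideal at every element outside `C_G(P)`.
* `cliff_avg`: Clifford averaging over a normal subgroup `N`.
* `indCC_eq_centralChar`, `indCC_eq_zero_of_notMem`: the induced central character of a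
  constituent on a normal subgroup.
* `sameBlock_of_common`, `induced_of_cover`, `blockCoeff_eq_zero_of_normal`.
-/

set_option autoImplicit false

namespace Cfsg.Agent.Helper22

open Cfsg Cfsg.Agent.Helper24 Cfsg.Agent.Helper5

universe u

/-- for a normal `p`-subgroup `P`, central characters lie in the local ideal outside `C_G(P)`. -/
theorem centralChar_memLocalIdeal_of_normal {G : Type u} [Group G] [Fintype G] {p : ℕ}
    [Fact p.Prime] {M : Ideal AlgInt} (hM : IsPModular p M) (P : Subgroup G) [P.Normal]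
    (hP : IsPGroup p P) (χ : IrrCharacter G) (g : G)
    (hg : g ∉ Subgroup.centralizer (P : Set G)) :
    MemLocalIdeal M (centralChar (χ : G → ℂ) g) := by
  haveI hMp : M.IsPrime := hM.2.1.isPrime
  obtain ⟨χ', hχ'B, hχ'⟩ := exists_ker_in_block hM χ P hP
  have hg' : ¬ P ≤ Subgroup.centralizer ({g} : Set G) := by
    intro h
    apply hg
    rw [Subgroup.mem_centralizer_iff]
    intro u hu
    have h1 := h hu
    rw [Subgroup.mem_centralizer_iff] at h1
    exact (h1 g (Set.mem_singleton g)).symm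
  have h1 := centralChar_memLocalIdeal_of_ker hM P hP χ' hχ' g hg'
  have h2 : MemLocalIdeal M (centralChar (χ : G → ℂ) g - centralChar (χ' : G → ℂ) g) := hχ'B g
  have e : centralChar (χ : G → ℂ) g =
      (centralChar (χ : G → ℂ) g - centralChar (χ' : G → ℂ) g) + centralChar (χ' : G → ℂ) g := by
    ring
  rw [e]
  exact memLocalIdeal_add hMp h2 h1

section Cliff

variable {G : Type u} [Group G] [Fintype G] (N : Subgroup G) [hN : N.Normal] [Fintype N]

omit [Fintype G] [Fintype N] in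
theorem conjN_bijective (y : G) :
    Function.Bijective (fun n : N => (⟨y * n * y⁻¹, hN.conj_mem n n.2 y⟩ : N)) := by
  refine Function.bijective_iff_has_inverse.mpr
    ⟨fun n => ⟨y⁻¹ * n * y⁻¹⁻¹, hN.conj_mem n n.2 y⁻¹⟩, fun n => ?_, fun n => ?_⟩
  · apply Subtype.ext
    show y⁻¹ * (y * (n : G) * y⁻¹) * y⁻¹⁻¹ = n
    group
  · apply Subtype.ext
    show y * (y⁻¹ * (n : G) * y⁻¹⁻¹) * y⁻¹ = n
    group

/-- Clifford averaging: a `G`-stable function on a normal subgroup has the same normalised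
pairing with `χ` and with any irreducible constituent of its restriction. -/
theorem cliff_avg (F : N → ℂ)
    (hF : ∀ (x : G) (n : N), F ⟨x * n * x⁻¹, hN.conj_mem n n.2 x⟩ = F n)
    (χ : IrrCharacter G) (θ : IrrCharacter N)
    (hθ : classInner (fun n : N => (χ : G → ℂ) n) (θ : N → ℂ) ≠ 0) :
    ((χ : G → ℂ) 1)⁻¹ * ∑ n : N, F n * (χ : G → ℂ) n =
      ((θ : N → ℂ) 1)⁻¹ * ∑ n : N, F n * (θ : N → ℂ) n := by
  classical
  have hcl := clifford_restrict N hN (χ : G → ℂ) χ.2 (θ : N → ℂ) θ.2 hθ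
  obtain ⟨O, hOdef⟩ : ∃ O : Finset (N → ℂ),
      O = Finset.univ.image (fun g : G => twist N (θ : N → ℂ) g) := ⟨_, rfl⟩
  have hOmem : ∀ φ : N → ℂ, φ ∈ O ↔ ∃ g : G, φ = twist N (θ : N → ℂ) g := by
    intro φ
    rw [hOdef, Finset.mem_image]
    constructor
    · rintro ⟨g, -, rfl⟩
      exact ⟨g, rfl⟩
    · rintro ⟨g, rfl⟩
      exact ⟨g, Finset.mem_univ _, rfl⟩
  have hset : {ψ' : N → ℂ | ∃ g : G, ψ' = fun n : N =>
      (θ : N → ℂ) ⟨g * n * g⁻¹, hN.conj_mem n n.2 g⟩} = ↑O := by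
    ext φ
    rw [Finset.mem_coe, hOmem]
    rfl
  rw [hset, finsum_mem_coe_finset] at hcl
  obtain ⟨e, hedef⟩ : ∃ e : ℂ, e = classInner (fun n : N => (χ : G → ℂ) n) (θ : N → ℂ) :=
    ⟨_, rfl⟩
  rw [← hedef] at hcl
  have hχn : ∀ n : N, (χ : G → ℂ) n = e * ∑ φ ∈ O, φ n := by
    intro n
    have h2 := congrFun hcl n
    simp only [Pi.smul_apply, Finset.sum_apply, smul_eq_mul] at h2
    exact h2
  have h3 : ∀ φ ∈ O, φ (1 : N) = (θ : N → ℂ) 1 := by
    intro φ hφ
    obtain ⟨y, rfl⟩ := (hOmem φ).mp hφ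
    exact twist_one_apply N _ y
  have hχ1 : (χ : G → ℂ) 1 = e * ((O.card : ℂ) * (θ : N → ℂ) 1) := by
    have h2 := hχn 1
    rw [Finset.sum_congr rfl h3, Finset.sum_const, nsmul_eq_mul] at h2
    exact h2
  have hsum : ∀ φ ∈ O, ∑ n : N, F n * φ n = ∑ n : N, F n * (θ : N → ℂ) n := by
    intro φ hφ
    obtain ⟨y, rfl⟩ := (hOmem φ).mp hφ
    have e1 : ∀ n : N, F n * twist N (θ : N → ℂ) y n =
        (fun m : N => F m * (θ : N → ℂ) m) ⟨y * n * y⁻¹, hN.conj_mem n n.2 y⟩ := by
      intro n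
      show F n * _ = F _ * _
      rw [hF y n]
      rfl
    rw [Finset.sum_congr rfl fun n _ => e1 n]
    exact Fintype.sum_bijective _ (conjN_bijective N y) _ _ (fun _ => rfl)
  have e1 : ∑ n : N, F n * (χ : G → ℂ) n =
      e * ((O.card : ℂ) * ∑ n : N, F n * (θ : N → ℂ) n) := by
    have e2 : ∀ n : N, F n * (χ : G → ℂ) n = ∑ φ ∈ O, e * (F n * φ n) := by
      intro n
      rw [hχn n, Finset.mul_sum, Finset.mul_sum]
      exact Finset.sum_congr rfl fun φ _ => by ring
    rw [Finset.sum_congr rfl fun n _ => e2 n, Finset.sum_comm]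
    have e3 : ∀ φ ∈ O, ∑ n : N, e * (F n * φ n) = e * ∑ n : N, F n * (θ : N → ℂ) n := by
      intro φ hφ
      rw [← Finset.mul_sum, hsum φ hφ]
    rw [Finset.sum_congr rfl e3, Finset.sum_const, nsmul_eq_mul]
    ring
  have h1 := Cfsg.Agent.Helper5.irr_one_ne_zero χ
  rw [hχ1] at h1
  have he : e ≠ 0 := left_ne_zero_of_mul h1
  have hO : (O.card : ℂ) ≠ 0 := left_ne_zero_of_mul (right_ne_zero_of_mul h1)
  have hθ1 : (θ : N → ℂ) 1 ≠ 0 := right_ne_zero_of_mul (right_ne_zero_of_mul h1)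
  rw [e1, hχ1]
  field_simp

theorem specFun_conj_of_inv (d : IrrCharacter N → ℂ)
    (hd : ∀ (x : G) (ψ : IrrCharacter N), d (twIrr N x ψ) = d ψ) (x : G) (n : N) :
    specFun d ⟨x * n * x⁻¹, hN.conj_mem n n.2 x⟩ = specFun d n := by
  have h := specFun_twIrr N d x⁻¹ n
  have e : (fun ψ => d (twIrr N x⁻¹ ψ)) = d := funext fun ψ => hd x⁻¹ ψ
  rw [e] at h
  rw [h]
  congr 1
  apply Subtype.ext
  simp

theorem isClassFunction_ext_of_inv (d : IrrCharacter N → ℂ)
    (hd : ∀ (x : G) (ψ : IrrCharacter N), d (twIrr N x ψ) = d ψ) :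
    IsClassFunction G (extendByZero N (specFun d)) := by
  intro g x
  by_cases hg : g ∈ N
  · have hg' : x * g * x⁻¹ ∈ N := hN.conj_mem g hg x
    rw [extendByZero_apply_mem N _ hg', extendByZero_apply_mem N _ hg]
    exact specFun_conj_of_inv N d hd x ⟨g, hg⟩
  · have hg' : x * g * x⁻¹ ∉ N := fun hc => hg (by
      have h1 := hN.conj_mem _ hc x⁻¹
      simpa [mul_assoc] using h1)
    rw [extendByZero_apply_not_mem N _ hg', extendByZero_apply_not_mem N _ hg]

theorem sum_ext_of_inv (d : IrrCharacter N → ℂ)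
    (hd : ∀ (x : G) (ψ : IrrCharacter N), d (twIrr N x ψ) = d ψ)
    (χ : IrrCharacter G) (θ : IrrCharacter N)
    (hθ : classInner (fun n : N => (χ : G → ℂ) n) (θ : N → ℂ) ≠ 0) :
    ((χ : G → ℂ) 1)⁻¹ * ∑ g : G, extendByZero N (specFun d) g * (χ : G → ℂ) g = d θ := by
  rw [sum_extendByZero_mul,
    cliff_avg N (specFun d) (fun x n => specFun_conj_of_inv N d hd x n) χ θ hθ, spec_inversion]
  have hθ1 := Cfsg.Agent.Helper5.irr_one_ne_zero θ
  field_simp

theorem indCC_eq_zero_of_notMem (θ : IrrCharacter N) (g : G) (hg : g ∉ N) :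
    inducedCentralChar N (θ : N → ℂ) g = 0 := by
  classical
  rw [indCC_eq N θ g]
  have h0 : ∀ m : N, (if IsConj g (m : G) then (1:ℂ) else 0) * (θ : N → ℂ) m = 0 := by
    intro m
    have hnc : ¬ IsConj g (m : G) := by
      intro hc
      obtain ⟨t, ht⟩ := isConj_iff.mp hc
      apply hg
      have h1 := hN.conj_mem _ m.2 t⁻¹
      rw [← ht] at h1
      simpa [mul_assoc] using h1
    rw [if_neg hnc, zero_mul]
  rw [Finset.sum_congr rfl fun m _ => h0 m, Finset.sum_const_zero, mul_zero]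

theorem indCC_eq_centralChar (χ : IrrCharacter G) (θ : IrrCharacter N)
    (hθ : classInner (fun n : N => (χ : G → ℂ) n) (θ : N → ℂ) ≠ 0) (g : G) (hg : g ∈ N) :
    inducedCentralChar N (θ : N → ℂ) g = centralChar (χ : G → ℂ) g := by
  classical
  rw [indCC_eq N θ g]
  have hF : ∀ (x : G) (n : N),
      (fun m : N => if IsConj g (m : G) then (1:ℂ) else 0)
          ⟨x * n * x⁻¹, hN.conj_mem n n.2 x⟩ =
        (fun m : N => if IsConj g (m : G) then (1:ℂ) else 0) n := by
    intro x n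
    have hiff : IsConj g (x * (n : G) * x⁻¹) ↔ IsConj g (n : G) :=
      ⟨fun h => h.trans (isConj_iff.mpr ⟨x⁻¹, by group⟩),
        fun h => h.trans (isConj_iff.mpr ⟨x, rfl⟩)⟩
    show (if IsConj g (x * (n : G) * x⁻¹) then (1:ℂ) else 0) =
      if IsConj g (n : G) then (1:ℂ) else 0
    simp only [hiff]
  refine (cliff_avg N (fun m : N => if IsConj g (m : G) then (1:ℂ) else 0) hF χ θ hθ).symm.trans ?_
  have h1 : ∑ n : N, (if IsConj g (n : G) then (1:ℂ) else 0) * (χ : G → ℂ) n =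
      ∑ x : G, (if IsConj g x then (1:ℂ) else 0) * (χ : G → ℂ) x := by
    symm
    refine sum_eq_sum_subgroup N
      (fun x : G => (if IsConj g x then (1:ℂ) else 0) * (χ : G → ℂ) x) ?_
    intro x hx
    have hnc : ¬ IsConj g x := by
      intro hc
      obtain ⟨t, ht⟩ := isConj_iff.mp hc
      exact hx (ht ▸ hN.conj_mem g hg t)
    show (if IsConj g x then (1:ℂ) else 0) * (χ : G → ℂ) x = 0
    rw [if_neg hnc, zero_mul]
  have h2 : ∑ x : G, (if IsConj g x then (1:ℂ) else 0) * (χ : G → ℂ) x =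
      ((Subgroup.centralizer ({g} : Set G)).index : ℂ) * (χ : G → ℂ) g := by
    have h3 : ∀ x : G, (if IsConj g x then (1:ℂ) else 0) * (χ : G → ℂ) x =
        if IsConj g x then (χ : G → ℂ) g else 0 := by
      intro x
      by_cases hc : IsConj g x
      · rw [if_pos hc, if_pos hc, one_mul]
        obtain ⟨t, ht⟩ := isConj_iff.mp hc
        rw [← ht]
        exact irr_conj χ g t
      · rw [if_neg hc, if_neg hc, zero_mul]
    rw [Finset.sum_congr rfl fun x _ => h3 x, ← Finset.sum_filter, Finset.sum_const,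
      nsmul_eq_mul, card_filter_isConj]
  show ((χ : G → ℂ) 1)⁻¹ * ∑ n : N, (if IsConj g (n : G) then (1:ℂ) else 0) * (χ : G → ℂ) n = _
  rw [h1, h2]
  unfold centralChar
  ring

/-- characters over a common constituent of a normal subgroup outside of which all central
characters vanish modulo the local ideal lie in one block. -/
theorem sameBlock_of_common {M : Ideal AlgInt} [hMp : M.IsPrime]
    (hout : ∀ g : G, g ∉ N → ∀ χ : IrrCharacter G, MemLocalIdeal M (centralChar (χ : G → ℂ) g))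
    (χ χ' : IrrCharacter G) (θ : IrrCharacter N)
    (hθ : classInner (fun n : N => (χ : G → ℂ) n) (θ : N → ℂ) ≠ 0)
    (hθ' : classInner (fun n : N => (χ' : G → ℂ) n) (θ : N → ℂ) ≠ 0) :
    SameBlock M (χ : G → ℂ) (χ' : G → ℂ) := by
  intro g
  by_cases hg : g ∈ N
  · rw [← indCC_eq_centralChar N χ θ hθ g hg, ← indCC_eq_centralChar N χ' θ hθ' g hg, sub_self]
    exact memLocalIdeal_zero hMp.ne_top
  · exact memLocalIdeal_sub (hout g hg χ) (hout g hg χ')

/-- a block of `G` covering the block `b` of the normal subgroup `N` is induced by `b`, when all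
central characters vanish modulo the local ideal outside `N`. -/
theorem induced_of_cover {M : Ideal AlgInt} [hMp : M.IsPrime]
    (hout : ∀ g : G, g ∉ N → ∀ χ : IrrCharacter G, MemLocalIdeal M (centralChar (χ : G → ℂ) g))
    (b : Set (IrrCharacter N)) (hb : IsPBlock M b) (B : Set (IrrCharacter G))
    (hB : IsPBlock M B)
    (h : ∃ χ ∈ B, ∃ θ ∈ b, classInner (fun n : N => (χ : G → ℂ) n) (θ : N → ℂ) ≠ 0) :
    IsInducedBlock M N b B := by
  obtain ⟨χ, hχ, θ, hθb, hθ⟩ := h
  refine ⟨hb, hB, ?_⟩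
  obtain ⟨θ₀, rfl⟩ := hb
  obtain ⟨χ₀, rfl⟩ := hB
  intro ξ hξ χ' hχ' g
  have h1 : MemLocalIdeal M (inducedCentralChar N (ξ : N → ℂ) g -
      inducedCentralChar N (θ : N → ℂ) g) :=
    indCC_congr N (sameBlock_trans' (sameBlock_symm hξ) hθb) g
  have h2 : MemLocalIdeal M (inducedCentralChar N (θ : N → ℂ) g -
      centralChar (χ : G → ℂ) g) := by
    by_cases hg : g ∈ N
    · rw [indCC_eq_centralChar N χ θ hθ g hg, sub_self]
      exact memLocalIdeal_zero hMp.ne_top
    · rw [indCC_eq_zero_of_notMem N θ g hg, zero_sub]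
      exact memLocalIdeal_neg (hout g hg χ)
  have h3 : MemLocalIdeal M (centralChar (χ : G → ℂ) g - centralChar (χ' : G → ℂ) g) :=
    (sameBlock_trans' (sameBlock_symm hχ) hχ') g
  have e : inducedCentralChar N (ξ : N → ℂ) g - centralChar (χ' : G → ℂ) g =
      (inducedCentralChar N (ξ : N → ℂ) g - inducedCentralChar N (θ : N → ℂ) g) +
      ((inducedCentralChar N (θ : N → ℂ) g - centralChar (χ : G → ℂ) g) +
       (centralChar (χ : G → ℂ) g - centralChar (χ' : G → ℂ) g)) := by ring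
  rw [e]
  exact memLocalIdeal_add hMp h1 (memLocalIdeal_add hMp h2 h3)

end Cliff

/-- the idempotent of a block is supported on the centralizer of any normal `p`-subgroup. -/
theorem blockCoeff_eq_zero_of_normal {G : Type u} [Group G] [Fintype G] {p : ℕ} [Fact p.Prime]
    {M : Ideal AlgInt} (hM : IsPModular p M) (P : Subgroup G) [P.Normal] (hP : IsPGroup p P)
    (χ₀ : IrrCharacter G) (g : G) (hg : g ∉ Subgroup.centralizer (P : Set G)) :
    blockCoeff (blockOf M (χ₀ : G → ℂ)) g = 0 := by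
  classical
  haveI hMp : M.IsPrime := hM.2.1.isPrime
  obtain ⟨C, hCdef⟩ : ∃ C : Subgroup G, C = Subgroup.centralizer (P : Set G) := ⟨_, rfl⟩
  haveI hCn : C.Normal := by rw [hCdef]; infer_instance
  haveI : Fintype C := Fintype.ofFinite C
  rw [← hCdef] at hg
  obtain ⟨B, hBdef⟩ : ∃ B : Set (IrrCharacter G), B = blockOf M (χ₀ : G → ℂ) := ⟨_, rfl⟩
  rw [← hBdef]
  obtain ⟨c, hc⟩ : ∃ c : IrrCharacter G → ℂ, c = fun χ : IrrCharacter G => if χ ∈ B then (1:ℂ) else 0 := ⟨_, rfl⟩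
  obtain ⟨d, hd0⟩ : ∃ d : IrrCharacter C → ℂ, d = fun θ : IrrCharacter C =>
      if ∃ χ ∈ B, classInner (fun n : C => (χ : G → ℂ) n) (θ : C → ℂ) ≠ 0 then 1 else 0 :=
    ⟨_, rfl⟩
  have hd : ∀ (x : G) (ψ : IrrCharacter C), d (twIrr C x ψ) = d ψ := by
    intro x ψ
    have hiff : (∃ χ ∈ B, classInner (fun n : C => (χ : G → ℂ) n)
        (twIrr C x ψ : C → ℂ) ≠ 0) ↔
        ∃ χ ∈ B, classInner (fun n : C => (χ : G → ℂ) n) (ψ : C → ℂ) ≠ 0 := by
      have e : ∀ χ : IrrCharacter G,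
          classInner (fun n : C => (χ : G → ℂ) n) (twIrr C x ψ : C → ℂ) =
          classInner (fun n : C => (χ : G → ℂ) n) (ψ : C → ℂ) := fun χ =>
        classInner_res_twist C (χ : G → ℂ) (irr_isClassFunction χ) (ψ : C → ℂ) x
      constructor
      · rintro ⟨χ, hχ, h⟩
        exact ⟨χ, hχ, by rwa [e χ] at h⟩
      · rintro ⟨χ, hχ, h⟩
        exact ⟨χ, hχ, by rwa [e χ]⟩
    rw [hd0]
    show (if _ then (1:ℂ) else 0) = if _ then (1:ℂ) else 0
    simp only [hiff]
  have hout : ∀ g : G, g ∉ C → ∀ χ : IrrCharacter G,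
      MemLocalIdeal M (centralChar (χ : G → ℂ) g) := by
    intro g hg χ
    rw [hCdef] at hg
    exact centralChar_memLocalIdeal_of_normal hM P hP χ g hg
  have hcχ : ∀ χ : IrrCharacter G,
      ((χ : G → ℂ) 1)⁻¹ * ∑ g : G, extendByZero C (specFun d) g * (χ : G → ℂ) g = c χ := by
    intro χ
    obtain ⟨θ, hθ⟩ := exists_constituent_res C χ
    rw [sum_ext_of_inv C d hd χ θ hθ, hc, hd0]
    beta_reduce
    by_cases hχ : χ ∈ B
    · have hex : ∃ χ' ∈ B, classInner (fun n : C => (χ' : G → ℂ) n) (θ : C → ℂ) ≠ 0 :=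
        ⟨χ, hχ, hθ⟩
      rw [if_pos hχ, if_pos hex]
    · have hnex : ¬ ∃ χ' ∈ B, classInner (fun n : C => (χ' : G → ℂ) n) (θ : C → ℂ) ≠ 0 := by
        rintro ⟨χ', hχ', hθ'⟩
        apply hχ
        rw [hBdef] at hχ' ⊢
        exact sameBlock_trans' hχ' (sameBlock_of_common C hout χ' χ θ hθ' hθ)
      rw [if_neg hχ, if_neg hnex]
  rw [blockCoeff_eq_specFun B c (fun ψ hψ => by rw [hc]; exact if_pos hψ)
    (fun ψ hψ => by rw [hc]; exact if_neg hψ) g]
  obtain ⟨ι, hι⟩ := exists_class_reps G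
  have hcl : IsClassFunction G (extendByZero C (specFun d)) := isClassFunction_ext_of_inv C d hd
  obtain ⟨E, hE⟩ : ∃ E : G → ℂ, E = extendByZero C (specFun d) := ⟨_, rfl⟩
  rw [← hE] at hcl hcχ
  have hcv : ∀ χ : IrrCharacter G, c χ = ∑ r ∈ ι, E r * centralChar (χ : G → ℂ) r := by
    intro χ
    rw [← hcχ χ, classFun_value hcl ι hι χ]
  have e : specFun c g = ∑ r ∈ ι, E r *
      specFun (fun χ : IrrCharacter G => centralChar (χ : G → ℂ) r) g := by
    unfold specFun
    have e1 : ∀ χ : IrrCharacter G, c χ * ((χ : G → ℂ) 1 * starRingEnd ℂ ((χ : G → ℂ) g)) =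
        ∑ r ∈ ι, E r * (centralChar (χ : G → ℂ) r *
          ((χ : G → ℂ) 1 * starRingEnd ℂ ((χ : G → ℂ) g))) := by
      intro χ
      rw [hcv χ, Finset.sum_mul]
      exact Finset.sum_congr rfl fun r _ => by ring
    rw [Finset.sum_congr rfl fun χ _ => e1 χ, Finset.sum_comm, Finset.mul_sum]
    refine Finset.sum_congr rfl fun r _ => ?_
    rw [← Finset.mul_sum]
    ring
  rw [e]
  refine Finset.sum_eq_zero fun r _ => ?_
  by_cases hr : IsConj r g
  · have hrC : r ∉ C := by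
      intro h
      apply hg
      obtain ⟨t, ht⟩ := isConj_iff.mp hr
      rw [← ht]
      exact hCn.conj_mem r h t
    rw [hE, extendByZero_apply_not_mem C _ hrC, zero_mul]
  · rw [(specFun_central r g).2 hr, mul_zero]

end Cfsg.Agent.Helper22
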