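import Mathlib
import Cfsg.Agent.Helper22.BlkPrinGal
import Cfsg.Agent.Helper22.SelfCent3
import Cfsg.Agent.Helper23.PSolv
import Cfsg.Agent.Helper23.SolvPSolv
import Cfsg.Agent.S4487

/-!
helper22: the principal block of a finite solvable group is `Irr(G / O_{p'}(G))`.
-/

set_option autoImplicit false

namespace Cfsg.Agent.Helper22

open Cfsg Cfsg.Agent.Helper24 Cfsg.Agent.Helper5

universe u

/-- in a finite solvable group, the principal `p`-block consists of the irreducible characters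
with `O_{p'}(G)` in the kernel. -/
theorem solv_principal_iff {G : Type u} [Group G] [Fintype G] [Group.IsSolvable G] {p : ℕ}
    [Fact p.Prime] {M : Ideal AlgInt} (hM : IsPModular p M) (χ : IrrCharacter G) :
    χ ∈ principalBlock M G ↔ ∀ k ∈ Cfsg.pPrimeCore p G, (χ : G → ℂ) k = (χ : G → ℂ) 1 := by
  classical
  have hp : p.Prime := Fact.out
  haveI hKn : (Cfsg.pPrimeCore p G).Normal := ppc_normal p
  have hK : ¬ p ∣ Nat.card (Cfsg.pPrimeCore p G) := ppc_not_dvd hp
  constructor
  · intro hχ k hk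
    obtain ⟨ψ, hψ⟩ := principal_exists_infl hM (Cfsg.pPrimeCore p G) hK χ hχ
    have e1 : (QuotientGroup.mk' (Cfsg.pPrimeCore p G)) k = 1 :=
      (QuotientGroup.eq_one_iff k).mpr hk
    rw [← hψ, inflIrr_apply, inflIrr_apply, e1, map_one]
  · intro h
    obtain ⟨ψ, hψ⟩ := exists_irr_of_ker (QuotientGroup.mk' (Cfsg.pPrimeCore p G))
      (QuotientGroup.mk'_surjective _) χ (fun u hu => h u ((QuotientGroup.eq_one_iff u).mp hu))
    have hχeq : inflIrr (QuotientGroup.mk' (Cfsg.pPrimeCore p G))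
        (QuotientGroup.mk'_surjective _) ψ = χ := Subtype.ext (funext fun g => (hψ g).symm)
    rw [← hχeq, principal_infl_iff hM (Cfsg.pPrimeCore p G) hK ψ]
    haveI : Group.IsSolvable (G ⧸ Cfsg.pPrimeCore p G) := inferInstance
    have hcore : Cfsg.pPrimeCore p (G ⧸ Cfsg.pPrimeCore p G) = ⊥ :=
      Cfsg.Agent.Helper23.pPrimeCore_quotient_pPrimeCore p
    have hconstr := Cfsg.Agent.Helper23.hall_higman
      (Cfsg.Agent.Helper23.isPSolvable_of_isSolvable p (G ⧸ Cfsg.pPrimeCore p G)) hcore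
    exact Cfsg.Agent.S4487.result p M hM hcore hconstr (trivIrr _) ψ

/-- a nontrivial finite group has a nontrivial irreducible character. -/
theorem exists_irr_ne_one {Q : Type u} [Group Q] [Finite Q] (g : Q) (hg : g ≠ 1) :
    ∃ ψ : IrrCharacter Q, (ψ : Q → ℂ) ≠ fun _ => 1 := by
  classical
  by_contra hcon
  push Not at hcon
  have h0 := (sum_irr_mul_conj (1 : Q) g).2 (by rw [isConj_one_right]; exact hg)
  have h1 : ∀ χ : IrrCharacter Q, (χ : Q → ℂ) 1 * starRingEnd ℂ ((χ : Q → ℂ) g) = 1 := by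
    intro χ
    rw [hcon χ]
    simp
  rw [Finset.sum_congr rfl (fun χ _ => h1 χ), Finset.sum_const, Finset.card_univ, nsmul_eq_mul,
    mul_one] at h0
  have hpos : 0 < Fintype.card (IrrCharacter Q) := Fintype.card_pos_iff.mpr ⟨trivIrr Q⟩
  exact hpos.ne' (by exact_mod_cast h0)

end Cfsg.Agent.Helper22
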