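import Mathlib
import Cfsg.Agent.Helper22.BlkSolvPrin
import Cfsg.Agent.Helper22.BlkContrib
import Cfsg.Agent.Helper22.Brauer3
import Cfsg.Agent.Helper10.PCore
import Cfsg.Agent.S4713

/-!
helper22: the principal block of a finite `p`-solvable group is `Irr(G / O_{p'}(G))` (Fong);
heights in the principal block; abelian Sylow subgroups and height zero.
-/

set_option autoImplicit false

namespace Cfsg.Agent.Helper22

open Cfsg Cfsg.Agent.Helper24 Cfsg.Agent.Helper5

universe u

/-- Fong: in a finite `p`-solvable group, the principal `p`-block consists of the irreducible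
characters with `O_{p'}(G)` in the kernel. -/
theorem psolv_principal_iff {G : Type u} [Group G] [Fintype G] {p : ℕ}
    [Fact p.Prime] (hsolv : IsPSolvable p G) {M : Ideal AlgInt} (hM : IsPModular p M)
    (χ : IrrCharacter G) :
    χ ∈ principalBlock M G ↔ ∀ k ∈ Cfsg.pPrimeCore p G, (χ : G → ℂ) k = (χ : G → ℂ) 1 := by
  classical
  have hp : p.Prime := Fact.out
  haveI hKn : (Cfsg.pPrimeCore p G).Normal := ppc_normal p
  have hK : ¬ p ∣ Nat.card (Cfsg.pPrimeCore p G) := ppc_not_dvd hp
  constructor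
  · intro hχ k hk
    obtain ⟨ψ, hψ⟩ := principal_exists_infl hM (Cfsg.pPrimeCore p G) hK χ hχ
    have e1 : (QuotientGroup.mk' (Cfsg.pPrimeCore p G)) k = 1 :=
      (QuotientGroup.eq_one_iff k).mpr hk
    rw [← hψ, inflIrr_apply, inflIrr_apply, e1, map_one]
  · intro h
    obtain ⟨ψ, hψ⟩ := exists_irr_of_ker (QuotientGroup.mk' (Cfsg.pPrimeCore p G))
      (QuotientGroup.mk'_surjective _) χ (fun u hu => h u ((QuotientGroup.eq_one_iff u).mp hu))
    have hχeq : inflIrr (QuotientGroup.mk' (Cfsg.pPrimeCore p G))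
        (QuotientGroup.mk'_surjective _) ψ = χ := Subtype.ext (funext fun g => (hψ g).symm)
    rw [← hχeq, principal_infl_iff hM (Cfsg.pPrimeCore p G) hK ψ]
    have hcore : Cfsg.pPrimeCore p (G ⧸ Cfsg.pPrimeCore p G) = ⊥ :=
      Cfsg.Agent.Helper23.pPrimeCore_quotient_pPrimeCore p
    have hconstr := Cfsg.Agent.Helper23.hall_higman
      (Cfsg.Agent.Helper23.isPSolvable_quotient hsolv (Cfsg.pPrimeCore p G)) hcore
    exact Cfsg.Agent.S4487.result p M hM hcore hconstr (trivIrr _) ψ

/-- in the principal block, height zero means degree prime to `p`. -/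
theorem principal_height_zero_iff {G : Type u} [Group G] [Fintype G] {p : ℕ} [Fact p.Prime]
    {M : Ideal AlgInt} (hM : IsPModular p M) (χ : IrrCharacter G) :
    blockHeight p (principalBlock M G) (χ : G → ℂ) = 0 ↔ ¬ p ∣ charDegree (χ : G → ℂ) := by
  have hp : p.Prime := Fact.out
  haveI hMp : M.IsPrime := hM.2.1.isPrime
  have hinf : sInf ((fun ψ : IrrCharacter G => (charDegree (ψ : G → ℂ)).factorization p) ''
      principalBlock M G) = 0 := by
    have hmem : (0 : ℕ) ∈ ((fun ψ : IrrCharacter G =>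
        (charDegree (ψ : G → ℂ)).factorization p) '' principalBlock M G) := by
      refine ⟨trivIrr G, ?_, ?_⟩
      · show SameBlock M (fun _ : G => (1 : ℂ)) (fun _ : G => (1 : ℂ))
        exact sameBlock_refl _
      · show (charDegree (fun _ : G => (1 : ℂ))).factorization p = 0
        have h1 : charDegree (fun _ : G => (1 : ℂ)) = 1 := by
          unfold charDegree
          simp
        rw [h1]
        simp
    exact Nat.eq_zero_of_le_zero (Nat.sInf_le hmem)
  unfold blockHeight
  rw [hinf, Nat.sub_zero]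
  obtain ⟨-, h0, -⟩ := irr_charDegree_spec χ
  rw [Nat.factorization_eq_zero_iff]
  constructor
  · rintro (h | h | h)
    · exact absurd hp h
    · exact h
    · exact absurd h h0
  · intro h
    exact Or.inr (Or.inl h)

/-- in a finite `p`-solvable group, the Sylow `p`-subgroups are abelian iff every member of the
principal block has height zero. -/
theorem psolv_abelian_iff {G : Type u} [Group G] [Fintype G] {p : ℕ} [Fact p.Prime]
    {M : Ideal AlgInt} (hM : IsPModular p M) (hsolv : IsPSolvable p G) (P : Sylow p G) :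
    IsMulCommutative P ↔ ∀ χ ∈ principalBlock M G,
      blockHeight p (principalBlock M G) (χ : G → ℂ) = 0 := by
  classical
  have hp : p.Prime := Fact.out
  haveI hKn : (Cfsg.pPrimeCore p G).Normal := ppc_normal p
  have hK : ¬ p ∣ Nat.card (Cfsg.pPrimeCore p G) := ppc_not_dvd hp
  have hQsolv : IsPSolvable p (G ⧸ Cfsg.pPrimeCore p G) :=
    Cfsg.Agent.Helper23.isPSolvable_quotient hsolv _
  have hcore : Cfsg.pPrimeCore p (G ⧸ Cfsg.pPrimeCore p G) = ⊥ :=
    Cfsg.Agent.Helper23.pPrimeCore_quotient_pPrimeCore p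
  have hconstr := Cfsg.Agent.Helper23.hall_higman hQsolv hcore
  obtain ⟨Pbar, hPbar⟩ : ∃ Pbar : Sylow p (G ⧸ Cfsg.pPrimeCore p G),
      (Pbar : Subgroup (G ⧸ Cfsg.pPrimeCore p G)) =
        (P : Subgroup G).map (QuotientGroup.mk' (Cfsg.pPrimeCore p G)) :=
    ⟨P.mapSurjective (QuotientGroup.mk'_surjective _), rfl⟩
  have hR : (∀ χ ∈ principalBlock M G, blockHeight p (principalBlock M G) (χ : G → ℂ) = 0) ↔
      ∀ ψ : IrrCharacter (G ⧸ Cfsg.pPrimeCore p G),
        ¬ p ∣ charDegree (ψ : G ⧸ Cfsg.pPrimeCore p G → ℂ) := by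
    constructor
    · intro h ψ
      have h1 := h (inflIrr (QuotientGroup.mk' (Cfsg.pPrimeCore p G))
        (QuotientGroup.mk'_surjective _) ψ) (by
        rw [psolv_principal_iff hsolv hM]
        intro k hk
        have e1 : (QuotientGroup.mk' (Cfsg.pPrimeCore p G)) k = 1 :=
          (QuotientGroup.eq_one_iff k).mpr hk
        rw [inflIrr_apply, inflIrr_apply, e1, map_one])
      rw [principal_height_zero_iff hM] at h1
      have e2 : charDegree (inflIrr (QuotientGroup.mk' (Cfsg.pPrimeCore p G))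
          (QuotientGroup.mk'_surjective _) ψ : G → ℂ) =
          charDegree (ψ : G ⧸ Cfsg.pPrimeCore p G → ℂ) := by
        unfold charDegree
        rw [inflIrr_apply, map_one]
      rw [e2] at h1
      exact h1
    · intro h χ hχ
      rw [principal_height_zero_iff hM]
      obtain ⟨ψ, hψ⟩ := principal_exists_infl hM (Cfsg.pPrimeCore p G) hK χ hχ
      have e2 : charDegree (χ : G → ℂ) = charDegree (ψ : G ⧸ Cfsg.pPrimeCore p G → ℂ) := by
        rw [← hψ]
        unfold charDegree
        rw [inflIrr_apply, map_one]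
      rw [e2]
      exact h ψ
  have hL : IsMulCommutative P ↔
      ((Pbar : Subgroup (G ⧸ Cfsg.pPrimeCore p G)).Normal ∧ IsMulCommutative Pbar) := by
    constructor
    · intro hab
      have habar : ∀ a ∈ (Pbar : Subgroup (G ⧸ Cfsg.pPrimeCore p G)),
          ∀ b ∈ (Pbar : Subgroup (G ⧸ Cfsg.pPrimeCore p G)), a * b = b * a := by
        intro a ha b hb
        rw [hPbar] at ha hb
        obtain ⟨x, hx, rfl⟩ := ha
        obtain ⟨y, hy, rfl⟩ := hb
        rw [← map_mul, ← map_mul]
        congr 1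
        exact congrArg Subtype.val (hab.is_comm.comm (⟨x, hx⟩ : P) ⟨y, hy⟩)
      have hle : (Pbar : Subgroup (G ⧸ Cfsg.pPrimeCore p G)) ≤
          Cfsg.pCore p (G ⧸ Cfsg.pPrimeCore p G) := by
        intro a ha
        apply hconstr
        rw [Subgroup.mem_centralizer_iff]
        intro b hb
        exact habar b (Cfsg.Agent.Helper10.pCore_le_sylow Pbar hb) a ha
      have heq : (Pbar : Subgroup (G ⧸ Cfsg.pPrimeCore p G)) =
          Cfsg.pCore p (G ⧸ Cfsg.pPrimeCore p G) :=
        le_antisymm hle (Cfsg.Agent.Helper10.pCore_le_sylow Pbar)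
      refine ⟨?_, ?_⟩
      · rw [heq]
        exact Cfsg.Agent.Helper10.pCore_normal p _
      · exact ⟨⟨fun a b => Subtype.ext (habar a.1 a.2 b.1 b.2)⟩⟩
    · rintro ⟨-, habar⟩
      refine ⟨⟨fun a b => ?_⟩⟩
      apply Subtype.ext
      show (a : G) * (b : G) = (b : G) * (a : G)
      have hma : QuotientGroup.mk' (Cfsg.pPrimeCore p G) (a : G) ∈
          (Pbar : Subgroup (G ⧸ Cfsg.pPrimeCore p G)) := by
        rw [hPbar]
        exact Subgroup.mem_map_of_mem _ a.2
      have hmb : QuotientGroup.mk' (Cfsg.pPrimeCore p G) (b : G) ∈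
          (Pbar : Subgroup (G ⧸ Cfsg.pPrimeCore p G)) := by
        rw [hPbar]
        exact Subgroup.mem_map_of_mem _ b.2
      have hcomm : QuotientGroup.mk' (Cfsg.pPrimeCore p G) (a : G) *
          QuotientGroup.mk' (Cfsg.pPrimeCore p G) (b : G) =
          QuotientGroup.mk' (Cfsg.pPrimeCore p G) (b : G) *
          QuotientGroup.mk' (Cfsg.pPrimeCore p G) (a : G) :=
        congrArg Subtype.val (habar.is_comm.comm (⟨_, hma⟩ : Pbar) ⟨_, hmb⟩)
      have hc : (a : G) * (b : G) * ((b : G) * (a : G))⁻¹ ∈ Cfsg.pPrimeCore p G := by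
        rw [← QuotientGroup.eq_one_iff]
        have h3 : QuotientGroup.mk' (Cfsg.pPrimeCore p G)
            ((a : G) * (b : G) * ((b : G) * (a : G))⁻¹) = 1 := by
          rw [map_mul, map_inv, map_mul, map_mul, hcomm, mul_inv_cancel]
        exact h3
      have hcP : (a : G) * (b : G) * ((b : G) * (a : G))⁻¹ ∈ (P : Subgroup G) :=
        (P : Subgroup G).mul_mem ((P : Subgroup G).mul_mem a.2 b.2)
          ((P : Subgroup G).inv_mem ((P : Subgroup G).mul_mem b.2 a.2))
      have h1 : (a : G) * (b : G) * ((b : G) * (a : G))⁻¹ = 1 := by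
        obtain ⟨k, hk⟩ := P.isPGroup' ⟨_, hcP⟩
        have hk' : ((a : G) * (b : G) * ((b : G) * (a : G))⁻¹) ^ p ^ k = 1 := by
          have := congrArg Subtype.val hk
          simpa using this
        have hd1 : orderOf ((a : G) * (b : G) * ((b : G) * (a : G))⁻¹) ∣ p ^ k :=
          orderOf_dvd_of_pow_eq_one hk'
        have hd2 : orderOf ((a : G) * (b : G) * ((b : G) * (a : G))⁻¹) ∣
            Nat.card (Cfsg.pPrimeCore p G) := by
          have h5 := orderOf_dvd_natCard (⟨_, hc⟩ : Cfsg.pPrimeCore p G)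
          rwa [Subgroup.orderOf_mk] at h5
        have hcop : Nat.Coprime (p ^ k) (Nat.card (Cfsg.pPrimeCore p G)) :=
          Nat.Coprime.pow_left k ((Nat.Prime.coprime_iff_not_dvd hp).mpr hK)
        exact orderOf_eq_one_iff.mp (Nat.eq_one_of_dvd_coprimes hcop hd1 hd2)
      exact mul_inv_eq_one.mp h1
  rw [hR]
  exact hL.trans (Cfsg.Agent.S4713.result p hQsolv Pbar)

end Cfsg.Agent.Helper22
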