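import Mathlib
import Cfsg.Agent.Helper22.BlkNil
import Cfsg.Agent.Helper5.BlkQuot
import Cfsg.Agent.S0029

/-!
# Blocks of `G` and of `G ⧸ D'` for a normal `p`-subgroup `D` (helper22)

* `commutator_le_frattini_of_isPGroup`: `X' ≤ Φ(X)` for a finite `p`-group `X`.
* `centralizes_of_quot`: a `p`-regular element centralizing `D ⧸ D'` centralizes the normal
  `p`-subgroup `D` (Burnside, via `S0029`).
-/

set_option autoImplicit false

namespace Cfsg.Agent.Helper22

open Cfsg

theorem commutator_le_frattini_of_isPGroup {X : Type*} [Group X] [Finite X] {p : ℕ}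
    [Fact p.Prime] (hX : IsPGroup p X) : commutator X ≤ frattini X := by
  have hnil : Group.IsNilpotent X := hX.isNilpotent
  have hnorm : ∀ H : Subgroup X, IsCoatom H → H.Normal :=
    ((Group.isNilpotent_of_finite_tfae (G := X)).out 0 2).mp hnil
  rw [commutator_def, Subgroup.commutator_le]
  intro a _ b _
  simp only [frattini, Order.radical, Subgroup.mem_iInf]
  intro K hK
  haveI := hnorm K hK
  obtain ⟨y, hy⟩ : ∃ y : X, y ∉ K := by
    by_contra hcon
    push Not at hcon
    exact hK.1 (eq_top_iff.mpr fun y _ => hcon y)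
  have hMK : K < (Subgroup.zpowers (y : X ⧸ K)).comap (QuotientGroup.mk' K) := by
    refine lt_of_le_of_ne ?_ ?_
    · intro x hx
      have h1 : QuotientGroup.mk' K x = 1 := (QuotientGroup.eq_one_iff x).mpr hx
      rw [Subgroup.mem_comap, h1]
      exact one_mem _
    · intro heq
      apply hy
      rw [heq, Subgroup.mem_comap]
      exact Subgroup.mem_zpowers _
  have htop := hK.2 _ hMK
  have hpow : ∀ x : X, ∃ z : ℤ, (y : X ⧸ K) ^ z = (x : X ⧸ K) := by
    intro x
    have hx : x ∈ (Subgroup.zpowers (y : X ⧸ K)).comap (QuotientGroup.mk' K) := by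
      rw [htop]
      exact Subgroup.mem_top x
    rw [Subgroup.mem_comap] at hx
    exact Subgroup.mem_zpowers_iff.mp hx
  obtain ⟨i, hi⟩ := hpow a
  obtain ⟨j, hj⟩ := hpow b
  rw [← QuotientGroup.eq_one_iff (N := K), commutatorElement_def]
  simp only [QuotientGroup.mk_mul, QuotientGroup.mk_inv]
  rw [← hi, ← hj]
  have hc : Commute ((y : X ⧸ K) ^ i) ((y : X ⧸ K) ^ j) := (Commute.refl _).zpow_zpow i j
  rw [hc.eq, mul_inv_cancel_right, mul_inv_cancel]

theorem centralizes_of_quot {G : Type*} [Group G] [Finite G] {p : ℕ} [Fact p.Prime]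
    (D : Subgroup G) [hDn : D.Normal] (hD : IsPGroup p D) (g : G) (hreg : ¬ p ∣ orderOf g)
    (h : (QuotientGroup.mk g : G ⧸ ⁅D, D⁆) ∈ Subgroup.centralizer
      ((D.map (QuotientGroup.mk' ⁅D, D⁆) : Subgroup (G ⧸ ⁅D, D⁆)) : Set (G ⧸ ⁅D, D⁆))) :
    g ∈ Subgroup.centralizer (D : Set G) := by
  have hp : p.Prime := Fact.out
  have hA : Subgroup.zpowers g ≤ (Subgroup.centralizer
      ((D.map (QuotientGroup.mk' ⁅D, D⁆) : Subgroup (G ⧸ ⁅D, D⁆)) : Set (G ⧸ ⁅D, D⁆))).comap
        (QuotientGroup.mk' ⁅D, D⁆) := by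
    rw [Subgroup.zpowers_le, Subgroup.mem_comap]
    exact h
  have hAK : Subgroup.zpowers g ≤ Subgroup.normalizer (D : Set G) := by
    intro a _
    rw [Subgroup.mem_normalizer_iff]
    intro k
    refine ⟨fun hk => hDn.conj_mem k hk a, fun hk => ?_⟩
    have h1 := hDn.conj_mem _ hk a⁻¹
    simpa [mul_assoc] using h1
  have hcop : (Nat.card (Subgroup.zpowers g)).Coprime (Nat.card (frattini D)) := by
    rw [Nat.card_zpowers]
    have hfr : IsPGroup p (frattini D) := hD.to_subgroup _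
    obtain ⟨j, hj⟩ := IsPGroup.iff_card.mp hfr
    rw [hj]
    exact Nat.Coprime.pow_right j ((Nat.Prime.coprime_iff_not_dvd hp).mpr hreg).symm
  have hsub : ⁅D, D⁆ ≤ (frattini D).map D.subtype := by
    rw [← Subgroup.map_subtype_commutator]
    exact Subgroup.map_mono (commutator_le_frattini_of_isPGroup hD)
  have htriv : ∀ a ∈ Subgroup.zpowers g, ∀ k ∈ D,
      a * k * a⁻¹ * k⁻¹ ∈ (frattini D).map D.subtype := by
    intro a ha k hk
    apply hsub
    have h1 := hA ha
    rw [Subgroup.mem_comap, Subgroup.mem_centralizer_iff] at h1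
    have h2 := h1 (QuotientGroup.mk' ⁅D, D⁆ k) (Subgroup.mem_map_of_mem _ hk)
    have h3 : (QuotientGroup.mk k : G ⧸ ⁅D, D⁆) * QuotientGroup.mk a =
        QuotientGroup.mk a * QuotientGroup.mk k := h2
    rw [← QuotientGroup.eq_one_iff (N := ⁅D, D⁆)]
    simp only [QuotientGroup.mk_mul, QuotientGroup.mk_inv]
    rw [← h3, mul_inv_cancel_right, mul_inv_cancel]
  exact Cfsg.Agent.S0029.result (Subgroup.zpowers g) D hAK hcop htriv (Subgroup.mem_zpowers g)

end Cfsg.Agent.Helper22
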