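import Mathlib
import Cfsg.Agent.S4491
import Cfsg.Agent.S0081
import Cfsg.Agent.Helper10.NormalPComp
import Cfsg.Agent.Helper22.BlkPSolvPrin
import Cfsg.Agent.Helper22.BlkPrinGal
import Cfsg.Agent.Helper22.BlkQuot2
import Cfsg.Agent.Helper22.Brauer1
import Cfsg.Agent.Helper22.Brauer3
import Cfsg.Agent.Helper22.InvCount
import Cfsg.Agent.Helper5.BlkOrth2
import Cfsg.Agent.Helper5.BlkSec2
import Cfsg.Agent.Helper5.LinChar
import Cfsg.Agent.Helper23.HW5
import Cfsg.Agent.Helper6.PResidual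
import Cfsg.Agent.Helper24.CharInd
import Cfsg.Agent.Helper24.CharBasic

/-!
helper22: Isaacs–Smith type tools for the principal block and normal `p`-complements.

* `principal_sylow_weight` : for a linear character `φ` of a Sylow `p`-subgroup `P`,
  `∑_{χ ∈ B₀} χ(1) [χ_P, φ]` is prime to `p` (Brauer's dimension formula S4491 + weak block
  orthogonality).
* `lin_ext_of_mult` : a linear `χ` with `[χ_H, φ] ≠ 0` restricts to `φ`.
* `npc_of_hom_sep` : Tate (S0081): if every element of `P` outside `Φ(P)` is moved by a linear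
  character of `G`, then `G` has a normal `p`-complement.
* `sum_fixed_two_pow` : weighted fixed point count mod 2 for a self-map of `2`-power order.
* `coprime_of_pow_cond`, `pow_pow_two_eq_self` : the exponent `k` cubing `2`-elements and fixing
  elements of odd order is prime to `|G|` and `g ↦ g ^ k` has `2`-power order.
* `exists_sq_hom_of_not_mem_frattini` : in a `2`-group, elements outside the Frattini subgroup are
  moved by a linear character of order `2`.
-/

set_option autoImplicit false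

namespace Cfsg.Agent.Helper22

open Cfsg Cfsg.Agent.Helper24 Cfsg.Agent.Helper5

universe u

/-- for a linear character `φ` of a Sylow `p`-subgroup, the weighted number of constituents of
the induced character in the principal block is prime to `p`. -/
theorem principal_sylow_weight {G : Type u} [Group G] [Fintype G] {p : ℕ} [Fact p.Prime]
    {M : Ideal AlgInt} (hM : IsPModular p M) (P : Sylow p G) [Fintype ↥(P : Subgroup G)]
    [DecidablePred fun χ : IrrCharacter G => χ ∈ principalBlock M G]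
    (φ : ↥(P : Subgroup G) →* ℂˣ) (m : IrrCharacter G → ℕ)
    (hm : ∀ χ : IrrCharacter G, classInner (fun y : ↥(P : Subgroup G) => (χ : G → ℂ) y)
        (fun y : ↥(P : Subgroup G) => ((φ y : ℂˣ) : ℂ)) = m χ) :
    ¬ p ∣ ∑ χ : IrrCharacter G,
      if χ ∈ principalBlock M G then charDegree (χ : G → ℂ) * m χ else 0 := by
  classical
  have hp : p.Prime := Fact.out
  haveI hMp : M.IsPrime := hM.2.1.isPrime
  obtain ⟨t, ht⟩ : ∃ t : IrrCharacter G, (t : G → ℂ) = fun _ => 1 := ⟨trivIrr G, rfl⟩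
  have hPB : principalBlock M G = blockOf M (t : G → ℂ) := principalBlock_eq_blockOf M t ht
  have hmemB : ∀ χ : IrrCharacter G,
      χ ∈ principalBlock M G ↔ SameBlock M (t : G → ℂ) (χ : G → ℂ) := by
    intro χ; rw [hPB]; exact Iff.rfl
  have hdegspec : ∀ χ : IrrCharacter G, (χ : G → ℂ) 1 = (charDegree (χ : G → ℂ) : ℂ) :=
    fun χ => (irr_charDegree_spec χ).1
  have ht1 : t ∈ principalBlock M G := (hmemB t).mpr (sameBlock_refl _)
  have hd1 : charDegree (t : G → ℂ) = 1 := by
    rw [ht]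
    unfold charDegree
    simp
  have hs := Cfsg.Agent.S4491.result p M hM (principalBlock M G) ⟨t, hPB⟩
  have hinf : sInf ((fun ψ : IrrCharacter G => (charDegree (ψ : G → ℂ)).factorization p) ''
      principalBlock M G) = 0 := by
    have hmem : (0 : ℕ) ∈ ((fun ψ : IrrCharacter G =>
        (charDegree (ψ : G → ℂ)).factorization p) '' principalBlock M G) := by
      refine ⟨t, ht1, ?_⟩
      show (charDegree (t : G → ℂ)).factorization p = 0
      rw [hd1]
      simp
    exact Nat.eq_zero_of_le_zero (Nat.sInf_le hmem)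
  have hdef : blockDefect p (principalBlock M G) = (Nat.card G).factorization p := by
    unfold blockDefect
    rw [hinf, Nat.sub_zero]
  rw [hdef] at hs
  have hsum : (∑ᶠ χ ∈ principalBlock M G, charDegree (χ : G → ℂ) ^ 2) =
      ∑ χ : IrrCharacter G,
        if χ ∈ principalBlock M G then charDegree (χ : G → ℂ) ^ 2 else 0 := by
    rw [finsum_mem_eq_finite_toFinset_sum _ (Set.toFinite _), ← Finset.sum_filter]
    refine Finset.sum_congr ?_ (fun _ _ => rfl)
    ext x; simp
  rw [hsum] at hs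
  have hsfact : (∑ χ : IrrCharacter G,
        if χ ∈ principalBlock M G then charDegree (χ : G → ℂ) ^ 2 else 0).factorization p =
      (Nat.card G).factorization p := by rw [hs]; omega
  -- multiplicities
  have hφirr : IsIrrCharacter ↥(P : Subgroup G) (fun y => ((φ y : ℂˣ) : ℂ)) :=
    isIrrCharacter_of_hom φ
  have hPne : (Nat.card ↥(P : Subgroup G) : ℂ) ≠ 0 := Nat.cast_ne_zero.mpr Nat.card_pos.ne'
  have hsumχ : ∀ χ : IrrCharacter G,
      ∑ y : ↥(P : Subgroup G), starRingEnd ℂ ((χ : G → ℂ) y) * ((φ y : ℂˣ) : ℂ) =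
        (Nat.card ↥(P : Subgroup G) : ℂ) * (m χ : ℂ) := by
    intro χ
    have h1 := hm χ
    unfold classInner at h1
    have h2 : ∑ y : ↥(P : Subgroup G), (χ : G → ℂ) y * starRingEnd ℂ ((φ y : ℂˣ) : ℂ) =
        (Nat.card ↥(P : Subgroup G) : ℂ) * (m χ : ℂ) := by
      rw [← h1, ← mul_assoc, mul_inv_cancel₀ hPne, one_mul]
    have h3 := congrArg (starRingEnd ℂ) h2
    rw [map_sum] at h3
    simp only [map_mul, Complex.conj_conj, map_natCast] at h3
    exact h3
  have horth : ∀ y : ↥(P : Subgroup G), y ≠ 1 →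
      ∑ χ : IrrCharacter G, (if χ ∈ principalBlock M G then
        (χ : G → ℂ) 1 * starRingEnd ℂ ((χ : G → ℂ) y) else 0) = 0 := by
    intro y hy
    have hy1 : (y : G) ≠ 1 := fun h => hy (Subtype.ext h)
    have hord : p ∣ orderOf (y : G) := by
      obtain ⟨k, hk⟩ := (IsPGroup.iff_orderOf.mp P.isPGroup') y
      have hk' : orderOf (y : G) = p ^ k := by rw [Subgroup.orderOf_coe]; exact hk
      rw [hk']
      rcases Nat.eq_zero_or_pos k with h0 | h0
      · exfalso; rw [h0, pow_zero] at hk'; exact hy1 (orderOf_eq_one_iff.mp hk')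
      · exact dvd_pow_self p h0.ne'
    have h1 : ¬ p ∣ orderOf (1 : G) := by rw [orderOf_one, Nat.dvd_one]; exact hp.one_lt.ne'
    have h := weak_block_orth_sum hM t 1 (y : G) h1 hord
    rw [Finset.sum_filter] at h
    refine Eq.trans (Finset.sum_congr rfl fun χ _ => ?_) h
    by_cases hχ : χ ∈ principalBlock M G
    · rw [if_pos hχ, if_pos ((hmemB χ).mp hχ)]
    · rw [if_neg hχ, if_neg (fun h' => hχ ((hmemB χ).mpr h'))]
  have hkey : ∑ χ : IrrCharacter G, (if χ ∈ principalBlock M G then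
        ((charDegree (χ : G → ℂ) : ℂ)) * ((Nat.card ↥(P : Subgroup G) : ℂ) * (m χ : ℂ)) else 0) =
      ∑ χ : IrrCharacter G, (if χ ∈ principalBlock M G then
        ((charDegree (χ : G → ℂ) : ℂ)) ^ 2 else 0) := by
    have e1 : ∀ χ : IrrCharacter G, (if χ ∈ principalBlock M G then
        ((charDegree (χ : G → ℂ) : ℂ)) * ((Nat.card ↥(P : Subgroup G) : ℂ) * (m χ : ℂ)) else 0) =
        ∑ y : ↥(P : Subgroup G), ((φ y : ℂˣ) : ℂ) * (if χ ∈ principalBlock M G then
          (χ : G → ℂ) 1 * starRingEnd ℂ ((χ : G → ℂ) y) else 0) := by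
      intro χ
      by_cases hχ : χ ∈ principalBlock M G
      · simp only [if_pos hχ]
        rw [← hsumχ χ, ← hdegspec χ, Finset.mul_sum]
        refine Finset.sum_congr rfl fun y _ => ?_
        ring
      · simp only [if_neg hχ, mul_zero, Finset.sum_const_zero]
    rw [Finset.sum_congr rfl fun χ _ => e1 χ, Finset.sum_comm]
    have e2 : ∀ y : ↥(P : Subgroup G), ∑ χ : IrrCharacter G, ((φ y : ℂˣ) : ℂ) *
        (if χ ∈ principalBlock M G then (χ : G → ℂ) 1 * starRingEnd ℂ ((χ : G → ℂ) y) else 0) =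
        if y = 1 then ∑ χ : IrrCharacter G, (if χ ∈ principalBlock M G then
          ((charDegree (χ : G → ℂ) : ℂ)) ^ 2 else 0) else 0 := by
      intro y
      rw [← Finset.mul_sum]
      by_cases hy : y = 1
      · rw [if_pos hy, hy, map_one, Units.val_one, one_mul]
        refine Finset.sum_congr rfl fun χ _ => ?_
        by_cases hχ : χ ∈ principalBlock M G
        · rw [if_pos hχ, if_pos hχ]
          show (χ : G → ℂ) 1 * starRingEnd ℂ ((χ : G → ℂ) 1) = _
          rw [hdegspec χ, Complex.conj_natCast, sq]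
        · rw [if_neg hχ, if_neg hχ]
      · rw [if_neg hy, horth y hy, mul_zero]
    rw [Finset.sum_congr rfl fun y _ => e2 y, Finset.sum_ite_eq', if_pos (Finset.mem_univ _)]
  have hnat : Nat.card ↥(P : Subgroup G) * (∑ χ : IrrCharacter G,
        if χ ∈ principalBlock M G then charDegree (χ : G → ℂ) * m χ else 0) =
      ∑ χ : IrrCharacter G,
        if χ ∈ principalBlock M G then charDegree (χ : G → ℂ) ^ 2 else 0 := by
    have hc : ((Nat.card ↥(P : Subgroup G) * (∑ χ : IrrCharacter G,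
        if χ ∈ principalBlock M G then charDegree (χ : G → ℂ) * m χ else 0) : ℕ) : ℂ) =
      ((∑ χ : IrrCharacter G,
        if χ ∈ principalBlock M G then charDegree (χ : G → ℂ) ^ 2 else 0 : ℕ) : ℂ) := by
      rw [Nat.cast_mul, Nat.cast_sum, Nat.cast_sum]
      simp only [Nat.cast_ite, Nat.cast_mul, Nat.cast_pow, Nat.cast_zero]
      rw [Finset.mul_sum]
      refine Eq.trans (Finset.sum_congr rfl fun χ _ => ?_) hkey
      split_ifs <;> ring
    exact_mod_cast hc
  have hS0 : (∑ χ : IrrCharacter G,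
        if χ ∈ principalBlock M G then charDegree (χ : G → ℂ) ^ 2 else 0) ≠ 0 := by
    have h1 : (if t ∈ principalBlock M G then charDegree (t : G → ℂ) ^ 2 else 0) ≤
        ∑ χ : IrrCharacter G,
          if χ ∈ principalBlock M G then charDegree (χ : G → ℂ) ^ 2 else 0 :=
      Finset.single_le_sum (f := fun χ : IrrCharacter G =>
        if χ ∈ principalBlock M G then charDegree (χ : G → ℂ) ^ 2 else 0)
        (fun i _ => Nat.zero_le _) (Finset.mem_univ t)
    rw [if_pos ht1, hd1, one_pow] at h1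
    exact Nat.one_le_iff_ne_zero.mp h1
  have hcardP : Nat.card ↥(P : Subgroup G) = p ^ (Nat.card G).factorization p :=
    P.card_eq_multiplicity
  intro hdvd
  obtain ⟨T', hT'⟩ := hdvd
  have h1 : p ^ ((Nat.card G).factorization p + 1) ∣ (∑ χ : IrrCharacter G,
      if χ ∈ principalBlock M G then charDegree (χ : G → ℂ) ^ 2 else 0) := by
    rw [← hnat, hcardP, hT', pow_succ]
    exact ⟨T', by ring⟩
  have h2 := (hp.pow_dvd_iff_le_factorization hS0).mp h1
  rw [hsfact] at h2
  omega

/-- a linear character having the linear character `φ` of the subgroup `H` as a constituent of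
its restriction restricts to `φ`. -/
theorem lin_ext_of_mult {G : Type u} [Group G] (H : Subgroup G) [Fintype ↥H]
    (φ : ↥H →* ℂˣ) (χ : IrrCharacter G) (hχ1 : (χ : G → ℂ) 1 = 1)
    (hne : classInner (fun y : ↥H => (χ : G → ℂ) y) (fun y : ↥H => ((φ y : ℂˣ) : ℂ)) ≠ 0) :
    ∃ f : G →* ℂˣ, (∀ g : G, ((f g : ℂˣ) : ℂ) = (χ : G → ℂ) g) ∧ ∀ y : ↥H, f (y : G) = φ y := by
  classical
  obtain ⟨f, hf⟩ := linChar_exists_hom (isCharacter_of_isIrrCharacter χ.2) hχ1
  refine ⟨f, hf, fun y => ?_⟩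
  obtain ⟨θ₁, hθ₁⟩ : ∃ θ₁ : IrrCharacter ↥H, (θ₁ : ↥H → ℂ) = fun y : ↥H => (χ : G → ℂ) y :=
    ⟨⟨fun y => (((f.comp H.subtype) y : ℂˣ) : ℂ), isIrrCharacter_of_hom _⟩,
      funext fun y => hf (y : G)⟩
  obtain ⟨θ₂, hθ₂⟩ : ∃ θ₂ : IrrCharacter ↥H, (θ₂ : ↥H → ℂ) = fun y : ↥H => ((φ y : ℂˣ) : ℂ) :=
    ⟨⟨_, isIrrCharacter_of_hom φ⟩, rfl⟩
  have horthn := irr_orthonormal θ₁ θ₂
  have hne' : classInner (θ₁ : ↥H → ℂ) (θ₂ : ↥H → ℂ) ≠ 0 := by rw [hθ₁, hθ₂]; exact hne
  have heq : θ₁ = θ₂ := by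
    by_contra h
    rw [if_neg h] at horthn
    exact hne' horthn
  have h1 : (θ₁ : ↥H → ℂ) y = (θ₂ : ↥H → ℂ) y := by rw [heq]
  rw [hθ₁, hθ₂] at h1
  exact Units.ext ((hf (y : G)).trans h1)

/-- Tate's criterion in character form: if every element of the Sylow `p`-subgroup `P` outside
`Φ(P)` is moved by some linear character of `G`, then `G` has a normal `p`-complement. -/
theorem npc_of_hom_sep {G : Type u} [Group G] [Finite G] {p : ℕ} [Fact p.Prime] (P : Sylow p G)
    (h : ∀ (x : G) (hxP : x ∈ (P : Subgroup G)),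
      (⟨x, hxP⟩ : ↥(P : Subgroup G)) ∉ frattini ↥(P : Subgroup G) → ∃ f : G →* ℂˣ, f x ≠ 1) :
    HasNormalPComplement p G := by
  have hp : p.Prime := Fact.out
  haveI hRn : (pResidual p G).Normal := Cfsg.Agent.Helper6.pResidual_normal p G
  apply Cfsg.Agent.Helper10.hasNormalPComplement_of_coprime_pResidual
  have hfr : pResidual p G ⊓ (P : Subgroup G) ≤
      (frattini ↥(P : Subgroup G)).map (P : Subgroup G).subtype := by
    intro x hx
    have hxR : x ∈ pResidual p G := hx.1
    have hxP : x ∈ (P : Subgroup G) := hx.2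
    refine ⟨⟨x, hxP⟩, ?_, rfl⟩
    by_contra hnc
    have hnc' : (⟨x, hxP⟩ : ↥(P : Subgroup G)) ∉ frattini ↥(P : Subgroup G) :=
      fun hmem => hnc hmem
    obtain ⟨f, hf⟩ := h x hxP hnc'
    apply hf
    obtain ⟨m, hm⟩ : ∃ m : ℕ, m = Nat.card G / p ^ (Nat.card G).factorization p := ⟨_, rfl⟩
    have hker : pResidual p G ≤ ((powMonoidHom m : ℂˣ →* ℂˣ).comp f).ker := by
      show Subgroup.closure {g : G | Nat.Coprime (orderOf g) p} ≤ _
      rw [Subgroup.closure_le]
      intro g hg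
      have hg' : Nat.Coprime (orderOf g) p := hg
      have hdvd : orderOf g ∣ m := by
        have h1 : orderOf g ∣ p ^ (Nat.card G).factorization p * m := by
          rw [hm, Nat.ordProj_mul_ordCompl_eq_self]; exact orderOf_dvd_natCard g
        exact (Nat.Coprime.pow_right _ hg').dvd_of_dvd_mul_left h1
      show g ∈ ((powMonoidHom m : ℂˣ →* ℂˣ).comp f).ker
      rw [MonoidHom.mem_ker, MonoidHom.comp_apply, powMonoidHom_apply, ← map_pow]
      obtain ⟨c, hc⟩ := hdvd
      rw [hc, pow_mul, pow_orderOf_eq_one, one_pow, map_one]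
    have h2 : f x ^ m = 1 := by
      have h := hker hxR
      rwa [MonoidHom.mem_ker, MonoidHom.comp_apply, powMonoidHom_apply] at h
    have h3 : f x ^ (Nat.card ↥(P : Subgroup G)) = 1 := by
      rw [← map_pow]
      have h : x ^ Nat.card ↥(P : Subgroup G) = 1 := by
        have h' := pow_card_eq_one' (G := ↥(P : Subgroup G)) (x := ⟨x, hxP⟩)
        exact congrArg Subtype.val h'
      rw [h, map_one]
    have hcop : Nat.Coprime m (Nat.card ↥(P : Subgroup G)) := by
      obtain ⟨n, hn⟩ := IsPGroup.iff_card.mp P.isPGroup'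
      rw [hn, hm]
      exact (Nat.Coprime.pow_right n (Nat.coprime_ordCompl hp Nat.card_pos.ne').symm)
    have h5 : orderOf (f x) ∣ Nat.gcd m (Nat.card ↥(P : Subgroup G)) :=
      Nat.dvd_gcd (orderOf_dvd_of_pow_eq_one h2) (orderOf_dvd_of_pow_eq_one h3)
    rw [Nat.Coprime.gcd_eq_one hcop, Nat.dvd_one] at h5
    exact orderOf_eq_one_iff.mp h5
  have h1 := Cfsg.Agent.S0081.tate_core P (pResidual p G) hfr
  rw [Cfsg.Agent.Helper23.HW.pResidual_pResidual_top, Subgroup.card_top] at h1
  exact h1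

/-- weighted fixed point count modulo `2` for a self-map of `2`-power order. -/
theorem sum_fixed_two_pow {X : Type*} [Fintype X] [DecidableEq X] (j : ℕ) :
    ∀ (σ : X → X) (w : X → ZMod 2), σ^[2 ^ j] = id → (∀ x, w (σ x) = w x) →
      ∑ x, w x = ∑ x, if σ x = x then w x else 0 := by
  induction j with
  | zero =>
    intro σ w hσ hw
    have h1 : ∀ x, σ x = x := fun x => by
      have h := congrFun hσ x
      simpa using h
    exact Finset.sum_congr rfl fun x _ => by rw [if_pos (h1 x)]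
  | succ j ih =>
    intro σ w hσ hw
    have hτ : (σ ∘ σ)^[2 ^ j] = id := by
      have e : (σ ∘ σ) = σ^[2] := by
        first
          | rfl
          | (symm; rw [Function.iterate_succ, Function.iterate_one])
      rw [e, ← Function.iterate_mul, ← pow_succ']
      exact hσ
    have h1 := ih (σ ∘ σ) w hτ (fun x => by
      show w (σ (σ x)) = w x
      rw [hw, hw])
    rw [h1]
    have hsplit : ∀ x, (if (σ ∘ σ) x = x then w x else 0) =
        (if σ x = x then w x else 0) + (if (σ (σ x) = x ∧ σ x ≠ x) then w x else 0) := by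
      intro x
      show (if σ (σ x) = x then w x else 0) = _
      by_cases hx : σ x = x
      · have hxx : σ (σ x) = x := by rw [hx, hx]
        rw [if_pos hxx, if_pos hx, if_neg (fun h => h.2 hx), add_zero]
      · by_cases hxx : σ (σ x) = x
        · rw [if_pos hxx, if_neg hx, if_pos ⟨hxx, hx⟩, zero_add]
        · rw [if_neg hxx, if_neg hx, if_neg (fun h => hxx h.1), add_zero]
    rw [Finset.sum_congr rfl fun x _ => hsplit x, Finset.sum_add_distrib]
    have hzero : ∑ x : X, (if (σ (σ x) = x ∧ σ x ≠ x) then w x else 0) = 0 := by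
      rw [← Finset.sum_filter]
      refine Finset.sum_involution (fun a _ => σ a) ?_ ?_ ?_ ?_
      · intro a _
        rw [hw a]
        exact CharTwo.add_self_eq_zero (w a)
      · intro a ha _
        exact (Finset.mem_filter.mp ha).2.2
      · intro a ha
        have h := (Finset.mem_filter.mp ha).2
        refine Finset.mem_filter.mpr ⟨Finset.mem_univ _, ?_, ?_⟩
        · rw [h.1]
        · rw [h.1]; exact fun e => h.2 e.symm
      · intro a ha
        exact (Finset.mem_filter.mp ha).2.1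
    rw [hzero, add_zero]

theorem three_pow_two_pow (n : ℕ) : 3 ^ (2 ^ n) ≡ 1 [MOD 2 ^ n] := by
  have key : ∀ n : ℕ, 2 ^ n ∣ 3 ^ (2 ^ n) - 1 := by
    intro n
    induction n with
    | zero => simp
    | succ n ih =>
      obtain ⟨y, hy⟩ : ∃ y, 3 ^ (2 ^ n) = y + 1 :=
        ⟨3 ^ (2 ^ n) - 1, by have := Nat.one_le_pow (2 ^ n) 3 (by norm_num); omega⟩
      rw [hy, Nat.add_sub_cancel] at ih
      have e : 3 ^ (2 ^ (n + 1)) - 1 = (y + 2) * y := by
        rw [pow_succ, pow_mul, hy]
        have h : (y + 1) ^ 2 = (y + 2) * y + 1 := by ring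
        rw [h, Nat.add_sub_cancel]
      rw [e, pow_succ']
      refine Nat.mul_dvd_mul ?_ ih
      have hodd : Odd (y + 1) := by rw [← hy]; exact Odd.pow (by decide)
      have hev : Even y := by
        rcases Nat.even_or_odd y with h | h
        · exact h
        · exact absurd hodd (Nat.not_odd_iff_even.mpr (h.add_odd odd_one))
      exact (hev.add (by decide : Even 2)).two_dvd
  exact ((Nat.modEq_iff_dvd' (Nat.one_le_pow _ _ (by norm_num))).mpr (key n)).symm

/-- an exponent cubing the `2`-elements and fixing the elements of odd order is prime to the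
group order. -/
theorem coprime_of_pow_cond {G : Type u} [Group G] [Finite G] (k : ℕ)
    (hk₁ : ∀ g : G, (∃ j : ℕ, orderOf g = 2 ^ j) → g ^ k = g ^ 3)
    (hk₂ : ∀ g : G, Odd (orderOf g) → g ^ k = g) : k.Coprime (Nat.card G) := by
  by_contra hcon
  obtain ⟨q, hq, hqk, hqG⟩ := Nat.Prime.not_coprime_iff_dvd.mp hcon
  haveI : Fact q.Prime := ⟨hq⟩
  obtain ⟨g, hg⟩ := exists_prime_orderOf_dvd_card' q hqG
  have hgk : g ^ k = 1 := orderOf_dvd_iff_pow_eq_one.mp (by rw [hg]; exact hqk)
  rcases eq_or_ne q 2 with h2 | h2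
  · have h3 := hk₁ g ⟨1, by rw [hg, h2, pow_one]⟩
    rw [hgk] at h3
    have h4 : orderOf g ∣ 3 := orderOf_dvd_of_pow_eq_one h3.symm
    rw [hg, h2] at h4
    exact absurd h4 (by decide)
  · have h3 := hk₂ g (by rw [hg]; exact hq.odd_of_ne_two h2)
    rw [hgk] at h3
    have h4 : orderOf g = 1 := orderOf_eq_one_iff.mpr h3.symm
    rw [hg] at h4
    exact hq.one_lt.ne' h4

/-- for such an exponent `k`, the map `g ↦ g ^ k` has `2`-power order. -/
theorem pow_pow_two_eq_self {G : Type u} [Group G] [Finite G] (k : ℕ)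
    (hk₁ : ∀ g : G, (∃ j : ℕ, orderOf g = 2 ^ j) → g ^ k = g ^ 3)
    (hk₂ : ∀ g : G, Odd (orderOf g) → g ^ k = g) (g : G) :
    g ^ (k ^ (2 ^ Nat.card G)) = g := by
  have he0 : orderOf g ≠ 0 := (orderOf_pos g).ne'
  obtain ⟨b, c, hc, hbc⟩ := Nat.exists_eq_two_pow_mul_odd he0
  have hc0 : c ≠ 0 := fun h => by rw [h] at hc; exact absurd hc (by decide)
  have hb0 : (2 : ℕ) ^ b ≠ 0 := pow_ne_zero _ (by norm_num)
  have ho1 : orderOf (g ^ c) = 2 ^ b := by
    rw [orderOf_pow' g hc0, hbc, Nat.gcd_eq_right (Dvd.intro_left _ rfl),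
      Nat.mul_div_cancel _ (Nat.pos_of_ne_zero hc0)]
  have ho2 : orderOf (g ^ 2 ^ b) = c := by
    rw [orderOf_pow' g hb0, hbc, Nat.gcd_eq_right (Dvd.intro _ rfl),
      Nat.mul_div_cancel_left _ (Nat.pos_of_ne_zero hb0)]
  have h1 : k ≡ 3 [MOD 2 ^ b] := by
    have h := hk₁ (g ^ c) ⟨b, ho1⟩
    rw [pow_eq_pow_iff_modEq, ho1] at h
    exact h
  have h2 : k ≡ 1 [MOD c] := by
    have h := hk₂ (g ^ 2 ^ b) (by rw [ho2]; exact hc)
    have h' : (g ^ 2 ^ b) ^ k = (g ^ 2 ^ b) ^ 1 := by rw [pow_one]; exact h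
    rw [pow_eq_pow_iff_modEq, ho2] at h'
    exact h'
  have hbn : b ≤ Nat.card G := by
    have h3 : 2 ^ b ≤ Nat.card G := by
      have h4 : 2 ^ b ∣ orderOf g := ⟨c, hbc⟩
      exact Nat.le_of_dvd Nat.card_pos (h4.trans (orderOf_dvd_natCard g))
    have h5 : b < 2 ^ b := by
      first
        | exact Nat.lt_two_pow_self
        | exact Nat.lt_two_pow_self b
        | exact Nat.lt_two_pow b
    exact h5.le.trans h3
  have h3 : k ^ (2 ^ Nat.card G) ≡ 1 [MOD 2 ^ b] :=
    (h1.pow (2 ^ Nat.card G)).trans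
      ((three_pow_two_pow (Nat.card G)).of_dvd (pow_dvd_pow 2 hbn))
  have h4 : k ^ (2 ^ Nat.card G) ≡ 1 [MOD c] := by
    have h5 := h2.pow (2 ^ Nat.card G)
    rwa [one_pow] at h5
  have hcop : Nat.Coprime (2 ^ b) c := Nat.Coprime.pow_left b (Nat.coprime_two_left.mpr hc)
  have h5 : k ^ (2 ^ Nat.card G) ≡ 1 [MOD orderOf g] := by
    rw [hbc]
    exact (Nat.modEq_and_modEq_iff_modEq_mul hcop).mp ⟨h3, h4⟩
  have h6 : g ^ (k ^ (2 ^ Nat.card G)) = g ^ 1 := pow_eq_pow_iff_modEq.mpr h5
  rwa [pow_one] at h6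

/-- in a `2`-group, an element outside the Frattini subgroup is moved by a linear character of
order `2`. -/
theorem exists_sq_hom_of_not_mem_frattini {X : Type u} [Group X] [Finite X] (hX : IsPGroup 2 X)
    (x : X) (hx : x ∉ frattini X) : ∃ φ : X →* ℂˣ, (∀ y, φ y ^ 2 = 1) ∧ φ x ≠ 1 := by
  have hQsq := quot_frattini_sq hX
  letI inst : CommGroup (X ⧸ frattini X) :=
    { (inferInstance : Group (X ⧸ frattini X)) with mul_comm := comm_of_sq_eq_one hQsq }
  haveI : NeZero ((Monoid.exponent (X ⧸ frattini X) : ℕ) : ℂ) :=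
    ⟨Nat.cast_ne_zero.mpr Monoid.exponent_ne_zero_of_finite⟩
  have hne : (QuotientGroup.mk' (frattini X) x : X ⧸ frattini X) ≠ 1 :=
    fun h1 => hx ((QuotientGroup.eq_one_iff x).mp h1)
  obtain ⟨μ, hμ⟩ := CommGroup.exists_apply_ne_one_of_hasEnoughRootsOfUnity (X ⧸ frattini X) ℂ hne
  refine ⟨μ.comp (QuotientGroup.mk' (frattini X)), fun y => ?_, hμ⟩
  have h1 : μ (QuotientGroup.mk' (frattini X) y) ^ 2 =
      μ ((QuotientGroup.mk' (frattini X) y) ^ 2) := (map_pow μ _ 2).symm
  have h2 : μ ((QuotientGroup.mk' (frattini X) y) ^ 2) = μ 1 := congrArg μ (hQsq _)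
  exact h1.trans (h2.trans (map_one μ))

end Cfsg.Agent.Helper22
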