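import Mathlib
import Cfsg.Agent.Helper22.BlkPrinReg
import Cfsg.Agent.Helper24.CharRegular
import Cfsg.Agent.Helper24.CharInd

/-!
helper22: the principal block and subgroups.

* `principal_lies_under` : for any subgroup `H`, every member of the principal block of `H` lies
  under a member of the principal block of `G`.
* `principal_covers_principal` : for `H` normal, the constituents of the restriction to `H` of a
  member of the principal block of `G` lie in the principal block of `H`.
* `sq_sum_ineq` : a counting inequality.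
-/

set_option autoImplicit false

namespace Cfsg.Agent.Helper22

open Cfsg Cfsg.Agent.Helper24 Cfsg.Agent.Helper5

universe u

variable {G : Type u} [Group G] [Fintype G]

theorem sum_subgroup_ite (H : Subgroup G) [Fintype H] [DecidablePred (· ∈ H)] (φ : G → ℂ) :
    ∑ g : G, (if g ∈ H then φ g else 0) = ∑ h : H, φ h := by
  rw [← Finset.sum_filter]
  exact Finset.sum_subtype (F := ‹Fintype ↥H›) (Finset.univ.filter (fun x : G => x ∈ H))
    (p := fun x => x ∈ H)
    (fun x => by rw [Finset.mem_filter]; exact ⟨fun h => h.2, fun h => ⟨Finset.mem_univ _, h⟩⟩) φ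

theorem classInner_res_expand (H : Subgroup G) [Fintype H] {F : G → ℂ}
    (hF : IsClassFunction G F) (θ : H → ℂ) :
    classInner (fun h : H => F h) θ = ∑ χ : IrrCharacter G,
      classInner F (χ : G → ℂ) * classInner (fun h : H => (χ : G → ℂ) h) θ := by
  have hexp := classFunction_eq_sum_irr F hF
  have h1 : (fun h : H => F h) = ∑ χ : IrrCharacter G,
      classInner F (χ : G → ℂ) • (fun h : H => (χ : G → ℂ) h) := by
    funext h
    have h2 := congrFun hexp (h : G)
    simp only [Finset.sum_apply, Pi.smul_apply, smul_eq_mul] at h2 ⊢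
    exact h2
  rw [h1, classInner_sum_left]
  exact Finset.sum_congr rfl fun χ _ => classInner_smul_left _ _ _

theorem classInner_reg_ne_zero_iff {p : ℕ} [Fact p.Prime] {M : Ideal AlgInt}
    (hM : IsPModular p M) (F : G → ℂ) (hF : ∀ g, F g = if ¬ p ∣ orderOf g then 1 else 0)
    (χ : IrrCharacter G) :
    classInner F (χ : G → ℂ) ≠ 0 ↔ χ ∈ principalBlock M G := by
  classical
  have hG0 : ((Nat.card G : ℂ))⁻¹ ≠ 0 := inv_ne_zero (Nat.cast_ne_zero.mpr Nat.card_pos.ne')
  have e : classInner F (χ : G → ℂ) = (Nat.card G : ℂ)⁻¹ *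
      starRingEnd ℂ (∑ x : G, if ¬ p ∣ orderOf x then (χ : G → ℂ) x else 0) := by
    rw [classInner_def', map_sum]
    congr 1
    refine Finset.sum_congr rfl fun g _ => ?_
    rw [hF]
    by_cases hg : p ∣ orderOf g
    · rw [if_neg (not_not.mpr hg), if_neg (not_not.mpr hg), zero_mul, map_zero]
    · rw [if_pos hg, if_pos hg, one_mul]
  rw [e, principal_iff_reg_sum hM χ]
  constructor
  · intro h h0
    apply h
    rw [h0, map_zero, mul_zero]
  · intro h h0
    rcases mul_eq_zero.mp h0 with h1 | h1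
    · exact hG0 h1
    · exact h ((map_eq_zero (starRingEnd ℂ)).mp h1)

/-- every member of the principal block of a subgroup lies under a member of the principal
block of the group. -/
theorem principal_lies_under {p : ℕ} [Fact p.Prime] {M : Ideal AlgInt} (hM : IsPModular p M)
    (H : Subgroup G) [Fintype H] (θ : IrrCharacter H) (hθ : θ ∈ principalBlock M H) :
    ∃ χ : IrrCharacter G, χ ∈ principalBlock M G ∧
      classInner (fun h : H => (χ : G → ℂ) h) (θ : H → ℂ) ≠ 0 := by
  classical
  obtain ⟨F, hF⟩ : ∃ F : G → ℂ, F = fun g => if ¬ p ∣ orderOf g then 1 else 0 := ⟨_, rfl⟩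
  have hFapp : ∀ g, F g = if ¬ p ∣ orderOf g then 1 else 0 := fun g => by rw [hF]
  have hcl : IsClassFunction G F := by
    intro g h
    have ho : orderOf (h * g * h⁻¹) = orderOf g := (MulAut.conj h).orderOf_eq g
    rw [hFapp, hFapp, ho]
  have h1 := classInner_res_expand H hcl (θ : H → ℂ)
  have hFH : ∀ h : H, (fun h : H => F h) h = if ¬ p ∣ orderOf h then 1 else 0 := by
    intro h
    show F (h : G) = _
    rw [hFapp, Subgroup.orderOf_coe]
  have h2 : classInner (fun h : H => F h) (θ : H → ℂ) ≠ 0 :=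
    (classInner_reg_ne_zero_iff hM (fun h : H => F h) hFH θ).mpr hθ
  have h3 : (∑ χ : IrrCharacter G, classInner F (χ : G → ℂ) *
      classInner (fun h : H => (χ : G → ℂ) h) (θ : H → ℂ)) ≠ 0 := fun h0 => h2 (h1.trans h0)
  obtain ⟨χ, -, hχ⟩ := Finset.exists_ne_zero_of_sum_ne_zero h3
  exact ⟨χ, (classInner_reg_ne_zero_iff hM F hFapp χ).mp (left_ne_zero_of_mul hχ),
    right_ne_zero_of_mul hχ⟩

/-- the principal block of `G` covers only the principal block of a normal subgroup. -/
theorem principal_covers_principal {p : ℕ} [Fact p.Prime] {M : Ideal AlgInt}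
    (hM : IsPModular p M) (H : Subgroup G) [hN : H.Normal] [Fintype H] (χ : IrrCharacter G)
    (hχ : χ ∈ principalBlock M G) (θ : IrrCharacter H)
    (hθ : classInner (fun h : H => (χ : G → ℂ) h) (θ : H → ℂ) ≠ 0) :
    θ ∈ principalBlock M H := by
  classical
  haveI hMp : M.IsPrime := hM.2.1.isPrime
  have hp : p.Prime := Fact.out
  obtain ⟨t, ht⟩ : ∃ t : IrrCharacter G, (t : G → ℂ) = fun _ => 1 :=
    ⟨⟨_, Cfsg.Agent.Helper24.isIrrCharacter_one⟩, rfl⟩
  have htx : ∀ x : G, (t : G → ℂ) x = 1 := fun x => by rw [ht]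
  have hPB := principalBlock_eq_blockOf M t ht
  have hsb : SameBlock M (t : G → ℂ) (χ : G → ℂ) := by
    rw [hPB] at hχ
    exact hχ
  obtain ⟨F, hF⟩ : ∃ F : G → ℂ,
      F = fun g => if g ∈ H then (if ¬ p ∣ orderOf g then 1 else 0) else 0 := ⟨_, rfl⟩
  have hFapp : ∀ g, F g = if g ∈ H then (if ¬ p ∣ orderOf g then 1 else 0) else 0 :=
    fun g => by rw [hF]
  have hcl : IsClassFunction G F := by
    intro g h
    rw [hFapp, hFapp]
    have ho : orderOf (h * g * h⁻¹) = orderOf g := (MulAut.conj h).orderOf_eq g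
    have hiff : h * g * h⁻¹ ∈ H ↔ g ∈ H := by
      constructor
      · intro hm
        have h1 := hN.conj_mem _ hm h⁻¹
        have e : h⁻¹ * (h * g * h⁻¹) * h⁻¹⁻¹ = g := by group
        rwa [e] at h1
      · intro hm
        exact hN.conj_mem g hm h
    rw [ho]
    by_cases hg : g ∈ H
    · rw [if_pos hg, if_pos (hiff.mpr hg)]
    · rw [if_neg hg, if_neg (fun hm => hg (hiff.mp hm))]
  have hloc : ∀ g, MemLocalRing M (F g) := by
    intro g
    rw [hFapp]
    by_cases hg : g ∈ H
    · rw [if_pos hg]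
      by_cases hg' : p ∣ orderOf g
      · rw [if_neg (not_not.mpr hg')]
        exact (locRing M).zero_mem
      · rw [if_pos hg']
        exact (locRing M).one_mem
    · rw [if_neg hg]
      exact (locRing M).zero_mem
  have hcong := classFun_congr hcl hloc hsb
  have hsumt : ∑ g : G, F g * (t : G → ℂ) g = (Nat.card {y : H // ¬ p ∣ orderOf y} : ℂ) := by
    have h1 : ∑ g : G, F g * (t : G → ℂ) g =
        ∑ g : G, (if g ∈ H then (if ¬ p ∣ orderOf g then (1 : ℂ) else 0) else 0) :=
      Finset.sum_congr rfl fun g _ => by rw [htx, mul_one, hFapp]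
    rw [h1, sum_subgroup_ite H (fun g => if ¬ p ∣ orderOf g then (1 : ℂ) else 0),
      Nat.card_eq_fintype_card, Fintype.card_subtype, Finset.card_filter]
    push_cast
    refine Finset.sum_congr rfl fun h _ => ?_
    show (if ¬ p ∣ orderOf (h : G) then (1 : ℂ) else 0) = _
    rw [Subgroup.orderOf_coe]
  have hsumχ : ∑ g : G, F g * (χ : G → ℂ) g =
      ∑ h : H, (if ¬ p ∣ orderOf h then (χ : G → ℂ) h else 0) := by
    have h1 : ∑ g : G, F g * (χ : G → ℂ) g =
        ∑ g : G, (if g ∈ H then (if ¬ p ∣ orderOf g then (χ : G → ℂ) g else 0) else 0) := by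
      refine Finset.sum_congr rfl fun g _ => ?_
      rw [hFapp]
      by_cases hg : g ∈ H
      · rw [if_pos hg, if_pos hg]
        by_cases hg' : p ∣ orderOf g
        · rw [if_neg (not_not.mpr hg'), if_neg (not_not.mpr hg'), zero_mul]
        · rw [if_pos hg', if_pos hg', one_mul]
      · rw [if_neg hg, if_neg hg, zero_mul]
    rw [h1, sum_subgroup_ite H (fun g => if ¬ p ∣ orderOf g then (χ : G → ℂ) g else 0)]
    refine Finset.sum_congr rfl fun h _ => ?_
    show (if ¬ p ∣ orderOf (h : G) then (χ : G → ℂ) h else 0) = _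
    rw [Subgroup.orderOf_coe]
  have hS : ∑ h : H, (if ¬ p ∣ orderOf h then (χ : G → ℂ) h else 0) ≠ 0 := by
    intro h0
    rw [hsumt, hsumχ, h0, mul_zero, sub_zero, htx, inv_one, one_mul] at hcong
    exact not_memLocalIdeal_natCast hM
      ((Nat.Prime.coprime_iff_not_dvd hp).mpr (card_reg_not_dvd (G := H) hM)).symm hcong
  have hclH : IsClassFunction H (fun u : H => (χ : G → ℂ) u) :=
    fun g k => irr_conj χ (g : G) (k : G)
  have hexp : ∀ h : H, (χ : G → ℂ) h = ∑ θ' : IrrCharacter H,
      classInner (fun u : H => (χ : G → ℂ) u) (θ' : H → ℂ) * (θ' : H → ℂ) h := by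
    intro h
    have h2 := congrFun (classFunction_eq_sum_irr (fun u : H => (χ : G → ℂ) u) hclH) h
    simp only [Finset.sum_apply, Pi.smul_apply, smul_eq_mul] at h2
    exact h2
  have hconst : ∀ θ' : IrrCharacter H,
      classInner (fun u : H => (χ : G → ℂ) u) (θ' : H → ℂ) ≠ 0 →
      ∑ h : H, (if ¬ p ∣ orderOf h then (θ' : H → ℂ) h else 0) =
        ∑ h : H, (if ¬ p ∣ orderOf h then (θ : H → ℂ) h else 0) := by
    intro θ' hθ'
    obtain ⟨g, hg⟩ := exists_twist_of_constituent H (χ : G → ℂ) χ.2 θ θ' hθ hθ'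
    rw [hg]
    have h1 := Equiv.sum_comp (MulAut.conjNormal g : H ≃* H).toEquiv
      (fun h : H => if ¬ p ∣ orderOf h then (θ : H → ℂ) h else 0)
    refine Eq.trans (Finset.sum_congr rfl fun h _ => ?_) h1
    have ho : orderOf ((MulAut.conjNormal g : H ≃* H) h) = orderOf h :=
      (MulAut.conjNormal g : H ≃* H).orderOf_eq h
    show (if ¬ p ∣ orderOf h then (θ : H → ℂ) ((MulAut.conjNormal g : H ≃* H) h) else 0) =
      if ¬ p ∣ orderOf ((MulAut.conjNormal g : H ≃* H) h) then
        (θ : H → ℂ) ((MulAut.conjNormal g : H ≃* H) h) else 0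
    rw [ho]
  rw [principal_iff_reg_sum hM θ]
  intro h0
  apply hS
  have h3 : ∑ h : H, (if ¬ p ∣ orderOf h then (χ : G → ℂ) h else 0) =
      ∑ θ' : IrrCharacter H, classInner (fun u : H => (χ : G → ℂ) u) (θ' : H → ℂ) *
        ∑ h : H, (if ¬ p ∣ orderOf h then (θ' : H → ℂ) h else 0) := by
    have h4 : ∀ h : H, (if ¬ p ∣ orderOf h then (χ : G → ℂ) h else 0) =
        ∑ θ' : IrrCharacter H, classInner (fun u : H => (χ : G → ℂ) u) (θ' : H → ℂ) *
          (if ¬ p ∣ orderOf h then (θ' : H → ℂ) h else 0) := by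
      intro h
      by_cases hh : p ∣ orderOf h
      · rw [if_neg (not_not.mpr hh)]
        symm
        refine Finset.sum_eq_zero fun θ' _ => ?_
        rw [if_neg (not_not.mpr hh), mul_zero]
      · rw [if_pos hh, hexp h]
        refine Finset.sum_congr rfl fun θ' _ => ?_
        rw [if_pos hh]
    rw [Finset.sum_congr rfl (fun h _ => h4 h), Finset.sum_comm]
    refine Finset.sum_congr rfl fun θ' _ => ?_
    rw [Finset.mul_sum]
  rw [h3]
  refine Finset.sum_eq_zero fun θ' _ => ?_
  by_cases hθ' : classInner (fun u : H => (χ : G → ℂ) u) (θ' : H → ℂ) = 0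
  · rw [hθ', zero_mul]
  · rw [hconst θ' hθ', h0, mul_zero]

/-- a counting inequality for two families of degrees linked by multiplicities. -/
theorem sq_sum_ineq {α β : Type*} [Fintype α] [Fintype β] (A : Set α) (B : Set β)
    [DecidablePred (· ∈ A)] [DecidablePred (· ∈ B)]
    (a : α → ℕ) (b : β → ℕ) (m : α → β → ℕ) (n : ℕ)
    (hA : ∀ x, a x = ∑ y, m x y * b y)
    (hB : ∀ y, ∑ x, m x y * a x = n * b y)
    (hc : ∀ y ∈ B, ∃ x ∈ A, m x y ≠ 0)
    (hd : ∀ x ∈ A, ∀ y, m x y ≠ 0 → y ∈ B) :
    (∑ y, if y ∈ B then b y ^ 2 else 0) ≤ (∑ x, if x ∈ A then a x ^ 2 else 0) ∧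
      (∑ x, if x ∈ A then a x ^ 2 else 0) ≤ n * ∑ y, if y ∈ B then b y ^ 2 else 0 := by
  classical
  rw [← Finset.sum_filter, ← Finset.sum_filter]
  have hT1 : ∀ x ∈ Finset.univ.filter (fun x => x ∈ A),
      a x ^ 2 = ∑ y ∈ Finset.univ.filter (fun y => y ∈ B), a x * (m x y * b y) := by
    intro x hx
    have hxA : x ∈ A := (Finset.mem_filter.mp hx).2
    calc a x ^ 2 = a x * ∑ y, m x y * b y := by rw [pow_two, ← hA x]
      _ = ∑ y, a x * (m x y * b y) := Finset.mul_sum _ _ _
      _ = ∑ y ∈ Finset.univ.filter (fun y => y ∈ B), a x * (m x y * b y) := by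
        symm
        refine Finset.sum_subset (Finset.filter_subset _ _) fun y _ hy => ?_
        have hm0 : m x y = 0 := by
          by_contra h
          exact hy (Finset.mem_filter.mpr ⟨Finset.mem_univ _, hd x hxA y h⟩)
        rw [hm0, zero_mul, mul_zero]
  have hT : ∑ x ∈ Finset.univ.filter (fun x => x ∈ A), a x ^ 2 =
      ∑ y ∈ Finset.univ.filter (fun y => y ∈ B),
        ∑ x ∈ Finset.univ.filter (fun x => x ∈ A), a x * (m x y * b y) := by
    rw [Finset.sum_congr rfl hT1, Finset.sum_comm]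
  rw [hT]
  constructor
  · refine Finset.sum_le_sum fun y hy => ?_
    have hyB : y ∈ B := (Finset.mem_filter.mp hy).2
    obtain ⟨x₀, hx₀, hm⟩ := hc y hyB
    have hx₀' : x₀ ∈ Finset.univ.filter (fun x => x ∈ A) :=
      Finset.mem_filter.mpr ⟨Finset.mem_univ _, hx₀⟩
    have h1 : b y ≤ m x₀ y * b y := Nat.le_mul_of_pos_left _ (Nat.pos_of_ne_zero hm)
    have h2 : m x₀ y * b y ≤ a x₀ := by
      rw [hA x₀]
      exact Finset.single_le_sum (f := fun y' => m x₀ y' * b y')
        (fun _ _ => Nat.zero_le _) (Finset.mem_univ y)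
    have h3 : b y ^ 2 ≤ a x₀ * (m x₀ y * b y) := by
      rw [pow_two]
      exact Nat.mul_le_mul (h1.trans h2) h1
    exact h3.trans (Finset.single_le_sum (f := fun x => a x * (m x y * b y))
      (fun _ _ => Nat.zero_le _) hx₀')
  · rw [Finset.mul_sum]
    refine Finset.sum_le_sum fun y _ => ?_
    calc ∑ x ∈ Finset.univ.filter (fun x => x ∈ A), a x * (m x y * b y)
        ≤ ∑ x, a x * (m x y * b y) :=
          Finset.sum_le_sum_of_subset (Finset.filter_subset _ _)
      _ = (∑ x, m x y * a x) * b y := by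
          rw [Finset.sum_mul]
          exact Finset.sum_congr rfl fun x _ => by ring
      _ = n * b y ^ 2 := by rw [hB y]; ring

end Cfsg.Agent.Helper22
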