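import Mathlib
import Cfsg.Agent.Helper22.BlkCentral
import Cfsg.Agent.Helper22.BlkRank
import Cfsg.Agent.Helper22.BlkIndPart
import Cfsg.Agent.Helper22.BlkHtZero2
import Cfsg.Agent.Helper5.BlkRank
import Cfsg.Agent.Helper5.BlkSMT
import Cfsg.Agent.Helper5.BlkSMT2
import Cfsg.Agent.Helper5.BlkBO
import Cfsg.Agent.Helper5.BlkOrth2
import Cfsg.Agent.Helper24.CharComplete

/-!
# Subsections: norms of the columns of generalized decomposition numbers (helper22)

* `reg_pair_expand`, `reg_pair_strip`: in `∑_s (P_b f₁)^{reg}(s) (P_b f₂)(s⁻¹)` the second block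
  projection may be dropped.
* `regPart_blockPart_kernel`: kernel form of the `p`-regular part of a block part.
* `sum_irr_pair_count`: second orthogonality in counting form.
* `conj_psection`, `count_conj_section`: conjugacy inside a `p`-section.
* `subsection_trace`: `∑_χ ∑_{s p-regular} (P_e χ(u·))(s) χ(u⁻¹ s⁻¹) = |C_G(u)| l(e)`.
-/

set_option autoImplicit false

namespace Cfsg.Agent.Helper22

open Cfsg Cfsg.Agent.Helper5 Cfsg.Agent.Helper24

universe u

open Classical in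
theorem reg_pair_expand {G : Type u} [Group G] [Fintype G] (p : ℕ) (b : Set (IrrCharacter G))
    (f₁ F : G → ℂ) :
    ∑ s : G, pRegularPart p (blockPart b f₁) s * F s⁻¹ =
      ∑ ψ : IrrCharacter G, if ψ ∈ b then
        classInner f₁ (ψ : G → ℂ) * ((ψ : G → ℂ) 1 * tildeC p F ψ) else 0 := by
  have hR : ∀ ψ : IrrCharacter G, (ψ : G → ℂ) 1 * tildeC p F ψ =
      ∑ g : G, (if p ∣ orderOf g then (0 : ℂ) else F g⁻¹) * (ψ : G → ℂ) g := by
    intro ψ
    unfold tildeC
    rw [mul_inv_cancel_left₀ (Cfsg.Agent.Helper5.irr_one_ne_zero ψ)]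
  have hL : ∀ s : G, pRegularPart p (blockPart b f₁) s * F s⁻¹ =
      ∑ ψ : IrrCharacter G, if ψ ∈ b then classInner f₁ (ψ : G → ℂ) *
        ((if p ∣ orderOf s then (0 : ℂ) else F s⁻¹) * (ψ : G → ℂ) s) else 0 := by
    intro s
    by_cases hs : p ∣ orderOf s
    · rw [pRegularPart_of_sing p _ hs, zero_mul]
      symm
      refine Finset.sum_eq_zero fun ψ _ => ?_
      rw [if_pos hs, zero_mul, mul_zero, ite_self]
    · rw [pRegularPart_of_reg p _ hs, blockPart_eq, finsum_mem_eq_sum_ite, Finset.sum_mul]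
      refine Finset.sum_congr rfl fun ψ _ => ?_
      rw [if_neg hs]
      split_ifs
      · ring
      · rw [zero_mul]
  rw [Finset.sum_congr rfl fun s _ => hL s, Finset.sum_comm]
  refine Finset.sum_congr rfl fun ψ _ => ?_
  by_cases hψ : ψ ∈ b
  · simp only [if_pos hψ]
    rw [hR ψ, Finset.mul_sum]
  · simp only [if_neg hψ, Finset.sum_const_zero]

theorem reg_pair_strip {G : Type u} [Group G] [Fintype G] {p : ℕ} [Fact p.Prime]
    {M : Ideal AlgInt} (hM : IsPModular p M) (ξ₀ : IrrCharacter G) (f₁ f₂ : G → ℂ)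
    (hf₂ : IsClassFunction G f₂) :
    ∑ s : G, pRegularPart p (blockPart (blockOf M (ξ₀ : G → ℂ)) f₁) s *
        blockPart (blockOf M (ξ₀ : G → ℂ)) f₂ s⁻¹ =
    ∑ s : G, pRegularPart p (blockPart (blockOf M (ξ₀ : G → ℂ)) f₁) s * f₂ s⁻¹ := by
  classical
  haveI hMp : M.IsPrime := hM.2.1.isPrime
  rw [reg_pair_expand p (blockOf M (ξ₀ : G → ℂ)) f₁ (blockPart (blockOf M (ξ₀ : G → ℂ)) f₂),
    reg_pair_expand p (blockOf M (ξ₀ : G → ℂ)) f₁ f₂]
  refine Finset.sum_congr rfl fun ψ _ => ?_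
  by_cases hψ : ψ ∈ blockOf M (ξ₀ : G → ℂ)
  · rw [if_pos hψ, if_pos hψ]
    have e : blockOf M (ξ₀ : G → ℂ) = blockOf M (ψ : G → ℂ) := blockOf_eq_of_sameBlock hψ
    rw [e, tildeC_blockPart hM f₂ hf₂ ψ]
  · rw [if_neg hψ, if_neg hψ]

open Classical in
theorem regPart_blockPart_kernel {G : Type u} [Group G] [Fintype G] (p : ℕ)
    (b : Set (IrrCharacter G)) (ϑ : G → ℂ) (s : G) :
    pRegularPart p (blockPart b ϑ) s = (Nat.card G : ℂ)⁻¹ * ∑ c : G, ϑ c *
      (if p ∣ orderOf s then (0 : ℂ) else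
        ∑ ψ : IrrCharacter G,
          if ψ ∈ b then (ψ : G → ℂ) s * starRingEnd ℂ ((ψ : G → ℂ) c) else 0) := by
  by_cases hs : p ∣ orderOf s
  · rw [pRegularPart_of_sing p _ hs]
    simp only [if_pos hs, mul_zero, Finset.sum_const_zero]
  · rw [pRegularPart_of_reg p _ hs, blockPart_eq, finsum_mem_eq_sum_ite]
    simp only [if_neg hs]
    rw [Finset.mul_sum]
    have h1 : ∀ c ∈ (Finset.univ : Finset G), (Nat.card G : ℂ)⁻¹ * (ϑ c *
        ∑ ψ : IrrCharacter G,
          if ψ ∈ b then (ψ : G → ℂ) s * starRingEnd ℂ ((ψ : G → ℂ) c) else 0) =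
        ∑ ψ : IrrCharacter G, if ψ ∈ b then
          (Nat.card G : ℂ)⁻¹ * (ϑ c * starRingEnd ℂ ((ψ : G → ℂ) c)) * (ψ : G → ℂ) s else 0 := by
      intro c _
      rw [Finset.mul_sum, Finset.mul_sum]
      refine Finset.sum_congr rfl fun ψ _ => ?_
      split_ifs
      · ring
      · rw [mul_zero, mul_zero]
    rw [Finset.sum_congr rfl h1, Finset.sum_comm]
    refine Finset.sum_congr rfl fun ψ _ => ?_
    by_cases hψ : ψ ∈ b
    · simp only [if_pos hψ]
      rw [classInner_def', Finset.mul_sum, Finset.sum_mul]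
    · simp only [if_neg hψ, Finset.sum_const_zero]

open Classical in
theorem sum_irr_pair_count {G : Type u} [Group G] [Fintype G] (g h : G) :
    ∑ χ : IrrCharacter G, (χ : G → ℂ) g * (χ : G → ℂ) h⁻¹ =
      ∑ x : G, if x * g * x⁻¹ = h then (1 : ℂ) else 0 := by
  have h1 := sum_irr_mul_conj_eq_card g h
  rw [Finset.natCast_card_filter] at h1
  rw [← h1]
  refine Finset.sum_congr rfl fun χ _ => ?_
  rw [irr_inv]

theorem conj_psection {G : Type u} [Group G] {p : ℕ} (hp : p.Prime) {u c s x : G}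
    (hu : ∃ k : ℕ, orderOf u = p ^ k) (hcu : c * u = u * c) (hsu : s * u = u * s)
    (hc : ¬ p ∣ orderOf c) (hs : ¬ p ∣ orderOf s) (hx : x * (u * c) * x⁻¹ = u * s) :
    x * u = u * x ∧ x * c * x⁻¹ = s := by
  have h1 : IsPPart p (u * c) u := ⟨c, rfl, hcu.symm, hu, hc⟩
  have h2 : IsPPart p (u * s) u := ⟨s, rfl, hsu.symm, hu, hs⟩
  have h3 := isPPart_conj x h1
  rw [hx] at h3
  have h4 : x * u * x⁻¹ = u := isPPart_unique hp h3 h2
  have h5 : x * u = u * x := by
    calc x * u = x * u * x⁻¹ * x := by group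
      _ = u * x := by rw [h4]
  refine ⟨h5, ?_⟩
  have h6 : x * (u * c) * x⁻¹ = (x * u * x⁻¹) * (x * c * x⁻¹) := by group
  rw [h6, h4] at hx
  exact mul_left_cancel hx

open Classical in
theorem count_conj_section {G : Type u} [Group G] [Fintype G] {p : ℕ} (hp : p.Prime) (u : G)
    (hu : ∃ k : ℕ, orderOf u = p ^ k) (H : Subgroup G) [Fintype H]
    (hH : ∀ g : G, g ∈ H ↔ g * u = u * g) (c s : H) (hc : ¬ p ∣ orderOf c)
    (hs : ¬ p ∣ orderOf s) :
    ∑ x : G, (if x * (u * (c : G)) * x⁻¹ = u * (s : G) then (1 : ℂ) else 0) =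
      ∑ h : H, if h * c * h⁻¹ = s then (1 : ℂ) else 0 := by
  have hcG : ¬ p ∣ orderOf (c : G) := by rw [Subgroup.orderOf_coe]; exact hc
  have hsG : ¬ p ∣ orderOf (s : G) := by rw [Subgroup.orderOf_coe]; exact hs
  have hcu : (c : G) * u = u * (c : G) := (hH c).mp c.2
  have hsu : (s : G) * u = u * (s : G) := (hH s).mp s.2
  have h1 : ∑ x : G, (if x * (u * (c : G)) * x⁻¹ = u * (s : G) then (1 : ℂ) else 0) =
      ∑ x ∈ Finset.univ.filter (fun x : G => x ∈ H),
        (if x * (u * (c : G)) * x⁻¹ = u * (s : G) then (1 : ℂ) else 0) := by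
    symm
    refine Finset.sum_subset (Finset.filter_subset _ _) ?_
    intro x _ hx
    rw [Finset.mem_filter] at hx
    rw [if_neg]
    intro hxe
    exact hx ⟨Finset.mem_univ _, (hH x).mpr (conj_psection hp hu hcu hsu hcG hsG hxe).1⟩
  rw [h1]
  refine (Finset.sum_subtype (F := ‹Fintype ↥H›) (Finset.univ.filter (fun x : G => x ∈ H))
    (p := fun x => x ∈ H)
    (fun x => by rw [Finset.mem_filter]; exact ⟨fun h => h.2, fun h => ⟨Finset.mem_univ _, h⟩⟩)
    _).trans ?_
  refine Finset.sum_congr rfl fun h _ => ?_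
  have hiff : (h : G) * (u * (c : G)) * (h : G)⁻¹ = u * (s : G) ↔ h * c * h⁻¹ = s := by
    constructor
    · intro hx
      have h2 := (conj_psection hp hu hcu hsu hcG hsG hx).2
      exact Subtype.ext (by
        rw [Subgroup.coe_mul, Subgroup.coe_mul, Subgroup.coe_inv]; exact h2)
    · intro hx
      have h2 := congrArg Subtype.val hx
      rw [Subgroup.coe_mul, Subgroup.coe_mul, Subgroup.coe_inv] at h2
      have hhu : (h : G) * u = u * (h : G) := (hH h).mp h.2
      calc (h : G) * (u * (c : G)) * (h : G)⁻¹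
          = (h : G) * u * ((c : G) * (h : G)⁻¹) := by group
        _ = u * (h : G) * ((c : G) * (h : G)⁻¹) := by rw [hhu]
        _ = u * ((h : G) * (c : G) * (h : G)⁻¹) := by group
        _ = u * (s : G) := by rw [h2]
  exact if_congr hiff rfl rfl

theorem shift_isClassFunction {G : Type u} [Group G] [Fintype G] (H : Subgroup G) (v : G)
    (hv : ∀ h : H, (h : G) * v = v * (h : G)) (χ : IrrCharacter G) :
    IsClassFunction H (fun c : H => (χ : G → ℂ) (v * c)) := by
  intro c h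
  show (χ : G → ℂ) (v * ((h * c * h⁻¹ : H) : G)) = (χ : G → ℂ) (v * (c : G))
  have e : v * ((h * c * h⁻¹ : H) : G) = (h : G) * (v * (c : G)) * (h : G)⁻¹ := by
    rw [Subgroup.coe_mul, Subgroup.coe_mul, Subgroup.coe_inv]
    calc v * ((h : G) * (c : G) * (h : G)⁻¹) = v * (h : G) * ((c : G) * (h : G)⁻¹) := by group
      _ = (h : G) * v * ((c : G) * (h : G)⁻¹) := by rw [hv h]
      _ = (h : G) * (v * (c : G)) * (h : G)⁻¹ := by group
  rw [e, irr_conj]

/-- the norm of the subsection column: `∑_χ ∑_{s p-regular} (P_e χ(u·))(s) χ(u⁻¹ s⁻¹) = |H| l(e)`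
for `H = C_G(u)` and a block `e` of `H`. -/
theorem subsection_trace {G : Type u} [Group G] [Fintype G] {p : ℕ} [Fact p.Prime]
    {M : Ideal AlgInt} (hM : IsPModular p M) (u : G) (hu : ∃ k : ℕ, orderOf u = p ^ k)
    (H : Subgroup G) [Fintype H] (hH : ∀ g : G, g ∈ H ↔ g * u = u * g)
    (ξ₀ : IrrCharacter H) :
    ∑ χ : IrrCharacter G, ∑ s : H,
      pRegularPart p (blockPart (blockOf M (ξ₀ : H → ℂ))
        (fun c : H => (χ : G → ℂ) (u * c))) s * (χ : G → ℂ) (u⁻¹ * ((s⁻¹ : H) : G)) =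
    (Nat.card H : ℂ) * (blockRank p (blockOf M (ξ₀ : H → ℂ)) : ℂ) := by
  classical
  haveI hMp : M.IsPrime := hM.2.1.isPrime
  have hp : p.Prime := Fact.out
  obtain ⟨b, hb⟩ : ∃ b : Set (IrrCharacter H), b = blockOf M (ξ₀ : H → ℂ) := ⟨_, rfl⟩
  rw [← hb]
  have hH0 : (Nat.card H : ℂ) ≠ 0 := Nat.cast_ne_zero.mpr Nat.card_pos.ne'
  obtain ⟨W, hW⟩ : ∃ W : H → H → ℂ, W = fun s c => if p ∣ orderOf s then (0 : ℂ) else
      ∑ ψ : IrrCharacter H,
        if ψ ∈ b then (ψ : H → ℂ) s * starRingEnd ℂ ((ψ : H → ℂ) c) else 0 := ⟨_, rfl⟩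
  have hWapp : ∀ s c : H, W s c = if p ∣ orderOf s then (0 : ℂ) else
      ∑ ψ : IrrCharacter H,
        if ψ ∈ b then (ψ : H → ℂ) s * starRingEnd ℂ ((ψ : H → ℂ) c) else 0 :=
    fun s c => by rw [hW]
  have h1 : ∀ (χ : IrrCharacter G) (s : H),
      pRegularPart p (blockPart b (fun c : H => (χ : G → ℂ) (u * c))) s *
        (χ : G → ℂ) (u⁻¹ * ((s⁻¹ : H) : G)) =
      ∑ c : H, (Nat.card H : ℂ)⁻¹ * (W s c *
        ((χ : G → ℂ) (u * (c : G)) * (χ : G → ℂ) (u * (s : G))⁻¹)) := by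
    intro χ s
    rw [regPart_blockPart_kernel, Finset.mul_sum, Finset.sum_mul]
    refine Finset.sum_congr rfl fun c _ => ?_
    rw [← hWapp s c]
    have e : u⁻¹ * ((s⁻¹ : H) : G) = (u * (s : G))⁻¹ := by
      have hsu : (s : G) * u = u * (s : G) := (hH s).mp s.2
      rw [Subgroup.coe_inv, ← hsu, mul_inv_rev]
    rw [e]
    beta_reduce
    ring
  have h2 : ∀ c s : H, ∑ χ : IrrCharacter G,
      (χ : G → ℂ) (u * (c : G)) * (χ : G → ℂ) (u * (s : G))⁻¹ =
      ∑ x : G, if x * (u * (c : G)) * x⁻¹ = u * (s : G) then (1 : ℂ) else 0 :=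
    fun c s => sum_irr_pair_count _ _
  have h3 : ∀ s c : H, W s c *
      (∑ x : G, if x * (u * (c : G)) * x⁻¹ = u * (s : G) then (1 : ℂ) else 0) =
      W s c * ∑ h : H, if h * c * h⁻¹ = s then (1 : ℂ) else 0 := by
    intro s c
    by_cases hs : p ∣ orderOf s
    · rw [hWapp, if_pos hs, zero_mul, zero_mul]
    · by_cases hc : p ∣ orderOf c
      · have hz : W s c = 0 := by
          rw [hWapp, if_neg hs]
          have hw := weak_block_orth hM ξ₀ s c hs hc
          rw [finsum_mem_eq_sum_ite] at hw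
          rw [hb]
          exact hw
        rw [hz, zero_mul, zero_mul]
      · rw [count_conj_section hp u hu H hH c s hc hs]
  calc ∑ χ : IrrCharacter G, ∑ s : H,
        pRegularPart p (blockPart b (fun c : H => (χ : G → ℂ) (u * c))) s *
          (χ : G → ℂ) (u⁻¹ * ((s⁻¹ : H) : G))
      = ∑ χ : IrrCharacter G, ∑ s : H, ∑ c : H, (Nat.card H : ℂ)⁻¹ * (W s c *
          ((χ : G → ℂ) (u * (c : G)) * (χ : G → ℂ) (u * (s : G))⁻¹)) :=
        Finset.sum_congr rfl fun χ _ => Finset.sum_congr rfl fun s _ => h1 χ s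
    _ = ∑ s : H, ∑ c : H, (Nat.card H : ℂ)⁻¹ * (W s c *
          ∑ χ : IrrCharacter G, (χ : G → ℂ) (u * (c : G)) * (χ : G → ℂ) (u * (s : G))⁻¹) := by
        rw [Finset.sum_comm]
        refine Finset.sum_congr rfl fun s _ => ?_
        rw [Finset.sum_comm]
        refine Finset.sum_congr rfl fun c _ => ?_
        rw [Finset.mul_sum, Finset.mul_sum]
    _ = ∑ s : H, ∑ c : H, (Nat.card H : ℂ)⁻¹ * (W s c *
          ∑ h : H, if h * c * h⁻¹ = s then (1 : ℂ) else 0) :=
        Finset.sum_congr rfl fun s _ => Finset.sum_congr rfl fun c _ => by rw [h2, h3]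
    _ = ∑ c : H, ∑ h : H, (Nat.card H : ℂ)⁻¹ * W c c := by
        rw [Finset.sum_comm]
        refine Finset.sum_congr rfl fun c _ => ?_
        have e1 : ∀ s : H, (Nat.card H : ℂ)⁻¹ * (W s c *
            ∑ h : H, if h * c * h⁻¹ = s then (1 : ℂ) else 0) =
            ∑ h : H, if h * c * h⁻¹ = s then (Nat.card H : ℂ)⁻¹ * W s c else 0 := by
          intro s
          rw [Finset.mul_sum, Finset.mul_sum]
          refine Finset.sum_congr rfl fun h _ => ?_
          split_ifs
          · rw [mul_one]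
          · rw [mul_zero, mul_zero]
        rw [Finset.sum_congr rfl fun s _ => e1 s, Finset.sum_comm]
        refine Finset.sum_congr rfl fun h _ => ?_
        rw [Finset.sum_ite_eq, if_pos (Finset.mem_univ _)]
        congr 1
        rw [hWapp, hWapp]
        have ho : orderOf (h * c * h⁻¹) = orderOf c := orderOf_conj_h5 h c
        rw [ho]
        by_cases hc : p ∣ orderOf c
        · rw [if_pos hc, if_pos hc]
        · rw [if_neg hc, if_neg hc]
          refine Finset.sum_congr rfl fun ψ _ => ?_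
          rw [irr_conj]
    _ = ∑ c : H, W c c := by
        refine Finset.sum_congr rfl fun c _ => ?_
        rw [Finset.sum_const, Finset.card_univ, nsmul_eq_mul, ← Nat.card_eq_fintype_card,
          ← mul_assoc, mul_inv_cancel₀ hH0, one_mul]
    _ = ∑ c : H, ∑ᶠ ψ ∈ b, pRegularPart p (ψ : H → ℂ) c * (ψ : H → ℂ) c⁻¹ := by
        refine Finset.sum_congr rfl fun c _ => ?_
        rw [hWapp, finsum_mem_eq_sum_ite]
        by_cases hc : p ∣ orderOf c
        · rw [if_pos hc]
          symm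
          refine Finset.sum_eq_zero fun ψ _ => ?_
          rw [pRegularPart_of_sing p _ hc, zero_mul, ite_self]
        · rw [if_neg hc]
          refine Finset.sum_congr rfl fun ψ _ => ?_
          rw [pRegularPart_of_reg p _ hc, irr_inv]
    _ = (Nat.card H : ℂ) * (blockRank p b : ℂ) := by
        rw [hb]
        exact (blockRank_trace hM ξ₀).symm

end Cfsg.Agent.Helper22
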