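import Mathlib
import Cfsg.Agent.Helper22.BlkSubsec

/-!
# Counting the characters of a block by subsections (helper22)

* `psection_sum`: a class function summed over `G`, split along the `p`-sections.
* `sum_irr_eq_sum_blocks`: a sum over the irreducible characters, split along the blocks.
* `subsection_count`: `∑_{s ∈ C_G(x) p-regular} ∑_{χ ∈ B} χ(xs) χ((xs)⁻¹) = |C_G(x)| ∑_{b^G = B} l(b)`.
-/

set_option autoImplicit false

namespace Cfsg.Agent.Helper22

open Cfsg Cfsg.Agent.Helper5 Cfsg.Agent.Helper24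

universe u

theorem natCard_set_cast {α : Type*} [Fintype α] (B : Set α) [DecidablePred (· ∈ B)] :
    (Nat.card B : ℂ) = ∑ x : α, if x ∈ B then (1 : ℂ) else 0 := by
  have h : Nat.card B = (Finset.univ.filter (fun x : α => x ∈ B)).card := by
    rw [Nat.card_coe_set_eq, Set.ncard_eq_toFinset_card _ (Set.toFinite _)]
    refine congrArg Finset.card ?_
    ext x
    simp
  rw [h, Finset.natCast_card_filter]

theorem finsum_setOf_eq_sum_nat {α : Type*} [Fintype α] (P : α → Prop) [DecidablePred P]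
    (f : α → ℕ) : ∑ᶠ x ∈ {x : α | P x}, f x = ∑ x : α, if P x then f x else 0 := by
  rw [finsum_mem_eq_finite_toFinset_sum _ (Set.toFinite _), ← Finset.sum_filter]
  refine Finset.sum_congr ?_ (fun _ _ => rfl)
  ext x; simp

theorem sum_irr_mul_inv {G : Type u} [Group G] [Fintype G] (χ : IrrCharacter G) :
    ∑ g : G, (χ : G → ℂ) g * (χ : G → ℂ) g⁻¹ = (Nat.card G : ℂ) := by
  have hG0 : (Nat.card G : ℂ) ≠ 0 := Nat.cast_ne_zero.mpr Nat.card_pos.ne'
  have h1 := irr_orthonormal χ χ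
  rw [if_pos rfl, classInner_def'] at h1
  have h2 : ∑ g : G, (χ : G → ℂ) g * (χ : G → ℂ) g⁻¹ =
      ∑ g : G, (χ : G → ℂ) g * starRingEnd ℂ ((χ : G → ℂ) g) :=
    Finset.sum_congr rfl fun g _ => by rw [irr_inv]
  rw [h2]
  have h3 : (Nat.card G : ℂ) * ((Nat.card G : ℂ)⁻¹ *
      ∑ g : G, (χ : G → ℂ) g * starRingEnd ℂ ((χ : G → ℂ) g)) = (Nat.card G : ℂ) * 1 := by
    rw [h1]
  rw [← mul_assoc, mul_inv_cancel₀ hG0, one_mul, mul_one] at h3
  exact h3

open Classical in
/-- a class function summed over `G`, split along the `p`-sections of a set `X` of representatives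
of the classes of `p`-elements -/
theorem psection_sum {G : Type u} [Group G] [Fintype G] {p : ℕ} (hp : p.Prime) (X : Finset G)
    (hX : ∀ x ∈ X, ∃ k : ℕ, orderOf x = p ^ k)
    (hXrep : ∀ g : G, (∃ k : ℕ, orderOf g = p ^ k) → ∃! x, x ∈ X ∧ IsConj g x)
    (Φ : G → ℂ) (hΦ : ∀ g t : G, Φ (t * g * t⁻¹) = Φ g) :
    ∑ g : G, Φ g = ∑ x ∈ X, (Nat.card G : ℂ) *
      (Nat.card (Subgroup.centralizer ({x} : Set G)) : ℂ)⁻¹ *
      ∑ c : G, (if (c * x = x * c ∧ ¬ p ∣ orderOf c) then Φ (x * c) else 0) := by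
  obtain ⟨π, hπ⟩ : ∃ π : G → G, ∀ g, IsPPart p g (π g) :=
    ⟨fun g => (exists_isPPart hp g).choose, fun g => (exists_isPPart hp g).choose_spec⟩
  have hπp : ∀ g, ∃ k : ℕ, orderOf (π g) = p ^ k := fun g => by
    obtain ⟨y, -, -, hk, -⟩ := hπ g
    exact hk
  have h1 : ∀ g : G, Φ g = ∑ x ∈ X, if IsConj (π g) x then Φ g else 0 := by
    intro g
    obtain ⟨x₀, ⟨hx₀X, hx₀c⟩, huniq⟩ := hXrep (π g) (hπp g)
    rw [Finset.sum_eq_single x₀, if_pos hx₀c]
    · intro x hxX hne
      rw [if_neg]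
      intro hc
      exact hne (huniq x ⟨hxX, hc⟩)
    · intro h
      exact absurd hx₀X h
  rw [Finset.sum_congr rfl fun g _ => h1 g, Finset.sum_comm]
  refine Finset.sum_congr rfl fun x hxX => ?_
  have hx := hX x hxX
  have hC0 : (Nat.card (Subgroup.centralizer ({x} : Set G)) : ℂ) ≠ 0 := Nat.cast_ne_zero.mpr Nat.card_pos.ne'
  obtain ⟨S, hS⟩ : ∃ S : ℂ, S = ∑ c : G,
      (if (c * x = x * c ∧ ¬ p ∣ orderOf c) then Φ (x * c) else 0) := ⟨_, rfl⟩
  rw [← hS]
  have hA : ∀ t : G, S = ∑ g : G, (if IsPPart p g (t * x * t⁻¹) then Φ g else 0) := by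
    intro t
    rw [hS]
    refine Fintype.sum_equiv ⟨fun c => t * (x * c) * t⁻¹, fun g => x⁻¹ * (t⁻¹ * g * t),
      fun c => by show x⁻¹ * (t⁻¹ * (t * (x * c) * t⁻¹) * t) = c; group,
      fun g => by show t * (x * (x⁻¹ * (t⁻¹ * g * t))) * t⁻¹ = g; group⟩ _ _ fun c => ?_
    show (if (c * x = x * c ∧ ¬ p ∣ orderOf c) then Φ (x * c) else 0) =
      (if IsPPart p (t * (x * c) * t⁻¹) (t * x * t⁻¹) then Φ (t * (x * c) * t⁻¹) else 0)
    rw [hΦ]
    refine if_congr ?_ rfl rfl
    constructor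
    · rintro ⟨hcx, hc⟩
      exact isPPart_conj t ⟨c, rfl, hcx.symm, hx, hc⟩
    · intro h
      have h2 := isPPart_conj t⁻¹ h
      have e1 : t⁻¹ * (t * (x * c) * t⁻¹) * t⁻¹⁻¹ = x * c := by group
      have e2 : t⁻¹ * (t * x * t⁻¹) * t⁻¹⁻¹ = x := by group
      rw [e1, e2] at h2
      obtain ⟨y, hxy, hcomm, -, hy⟩ := h2
      have hyc : y = c := mul_left_cancel hxy
      rw [hyc] at hcomm hy
      exact ⟨hcomm.eq.symm, hy⟩
  have hB : ∀ g : G, ∑ t : G, (if IsPPart p g (t * x * t⁻¹) then Φ g else 0) =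
      if IsConj (π g) x then (Nat.card (Subgroup.centralizer ({x} : Set G)) : ℂ) * Φ g else 0 := by
    intro g
    have e : ∀ t : G, (if IsPPart p g (t * x * t⁻¹) then Φ g else 0) =
        (if t * x * t⁻¹ = π g then Φ g else 0) := by
      intro t
      refine if_congr ⟨fun h => isPPart_unique hp h (hπ g), fun h => ?_⟩ rfl rfl
      rw [h]; exact hπ g
    rw [Finset.sum_congr rfl fun t _ => e t, ← Finset.sum_filter, Finset.sum_const, nsmul_eq_mul]
    by_cases hc : IsConj (π g) x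
    · rw [if_pos hc, card_filter_conj_eq hc.symm]
    · rw [if_neg hc, card_filter_conj_eq_zero (fun h => hc h.symm), Nat.cast_zero, zero_mul]
  have hT : (Nat.card G : ℂ) * S = (Nat.card (Subgroup.centralizer ({x} : Set G)) : ℂ) *
      ∑ g : G, (if IsConj (π g) x then Φ g else 0) := by
    have h3 : (Nat.card G : ℂ) * S = ∑ t : G, S := by
      rw [Finset.sum_const, Finset.card_univ, nsmul_eq_mul, ← Nat.card_eq_fintype_card]
    rw [h3, Finset.sum_congr rfl fun t _ => hA t, Finset.sum_comm,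
      Finset.sum_congr rfl fun g _ => hB g, Finset.mul_sum]
    refine Finset.sum_congr rfl fun g _ => ?_
    split_ifs
    · rfl
    · rw [mul_zero]
  have h4 : (Nat.card G : ℂ) * (Nat.card (Subgroup.centralizer ({x} : Set G)) : ℂ)⁻¹ * S =
      (Nat.card (Subgroup.centralizer ({x} : Set G)) : ℂ)⁻¹ * ((Nat.card G : ℂ) * S) := by ring
  rw [h4, hT, ← mul_assoc, inv_mul_cancel₀ hC0, one_mul]

open Classical in
theorem sum_centralizer_reg {G : Type u} [Group G] [Fintype G] (p : ℕ) (x : G) (H : Subgroup G)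
    [Fintype H] (hH : ∀ g : G, g ∈ H ↔ g * x = x * g) (F : G → ℂ) :
    ∑ c : G, (if (c * x = x * c ∧ ¬ p ∣ orderOf c) then F c else 0) =
      ∑ s : H, (if p ∣ orderOf s then (0 : ℂ) else F (s : G)) := by
  have h1 : ∑ c : G, (if (c * x = x * c ∧ ¬ p ∣ orderOf c) then F c else 0) =
      ∑ c ∈ Finset.univ.filter (fun c : G => c ∈ H),
        (if p ∣ orderOf c then (0 : ℂ) else F c) := by
    rw [Finset.sum_filter]
    refine Finset.sum_congr rfl fun c _ => ?_
    by_cases hc : c ∈ H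
    · rw [if_pos hc]
      by_cases hs : p ∣ orderOf c
      · rw [if_pos hs, if_neg (fun h => h.2 hs)]
      · rw [if_neg hs, if_pos ⟨(hH c).mp hc, hs⟩]
    · rw [if_neg hc, if_neg (fun h => hc ((hH c).mpr h.1))]
  rw [h1]
  refine (Finset.sum_subtype (F := ‹Fintype ↥H›) (Finset.univ.filter (fun c : G => c ∈ H))
    (p := fun c => c ∈ H)
    (fun c => by rw [Finset.mem_filter]; exact ⟨fun h => h.2, fun h => ⟨Finset.mem_univ _, h⟩⟩)
    _).trans ?_
  refine Finset.sum_congr rfl fun s _ => ?_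
  rw [Subgroup.orderOf_coe]

open Classical in
/-- a sum over the irreducible characters, split along the blocks -/
theorem sum_irr_eq_sum_blocks {G : Type u} [Group G] [Fintype G] {p : ℕ}
    {M : Ideal AlgInt} (hM : IsPModular p M) (F : IrrCharacter G → ℂ) :
    ∑ ψ : IrrCharacter G, F ψ = ∑ e : Set (IrrCharacter G),
      if IsPBlock M e then (∑ ψ : IrrCharacter G, if ψ ∈ e then F ψ else 0) else 0 := by
  haveI hMp : M.IsPrime := hM.2.1.isPrime
  have h1 : ∀ e : Set (IrrCharacter G),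
      (if IsPBlock M e then (∑ ψ : IrrCharacter G, if ψ ∈ e then F ψ else 0) else 0) =
      ∑ ψ : IrrCharacter G, if (IsPBlock M e ∧ ψ ∈ e) then F ψ else 0 := by
    intro e
    by_cases he : IsPBlock M e
    · rw [if_pos he]
      refine Finset.sum_congr rfl fun ψ _ => ?_
      by_cases hψ : ψ ∈ e
      · rw [if_pos hψ, if_pos ⟨he, hψ⟩]
      · rw [if_neg hψ, if_neg (fun h => hψ h.2)]
    · rw [if_neg he]
      symm
      refine Finset.sum_eq_zero fun ψ _ => ?_
      rw [if_neg (fun h => he h.1)]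
  rw [Finset.sum_congr rfl fun e _ => h1 e, Finset.sum_comm]
  refine Finset.sum_congr rfl fun ψ _ => ?_
  symm
  rw [Finset.sum_eq_single (blockOf M (ψ : G → ℂ))]
  · rw [if_pos ⟨⟨ψ, rfl⟩, sameBlock_refl _⟩]
  · intro e _ hne
    rw [if_neg]
    rintro ⟨⟨ξ, rfl⟩, hψ⟩
    exact hne (blockOf_eq_of_sameBlock hψ)
  · intro h
    exact absurd (Finset.mem_univ _) h

open Classical in
/-- the contribution of the `p`-section of `x` to `|G| k(B)` -/
theorem subsection_count {G : Type u} [Group G] [Fintype G] {p : ℕ} [Fact p.Prime]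
    {M : Ideal AlgInt} (hM : IsPModular p M) (χ₀ : IrrCharacter G) (x : G)
    (hx : ∃ k : ℕ, orderOf x = p ^ k) :
    ∑ c : G, (if (c * x = x * c ∧ ¬ p ∣ orderOf c) then
        ∑ χ : IrrCharacter G, (if χ ∈ blockOf M (χ₀ : G → ℂ) then
          (χ : G → ℂ) (x * c) * (χ : G → ℂ) (x * c)⁻¹ else 0) else 0) =
      (Nat.card (Subgroup.centralizer ({x} : Set G)) : ℂ) *
        ((∑ᶠ b ∈ {b : Set (IrrCharacter (Subgroup.centralizer ({x} : Set G))) |
          IsInducedBlock M (Subgroup.centralizer ({x} : Set G)) b (blockOf M (χ₀ : G → ℂ))}, blockRank p b : ℕ) : ℂ) := by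
  haveI hMp : M.IsPrime := hM.2.1.isPrime
  have hp : p.Prime := Fact.out
  haveI : Fintype ↥(Subgroup.centralizer ({x} : Set G)) := Fintype.ofFinite _
  have hH : ∀ g : G, g ∈ (Subgroup.centralizer ({x} : Set G)) ↔ g * x = x * g := fun g => Subgroup.mem_centralizer_singleton_iff
  have hcomm : ∀ h : ↥(Subgroup.centralizer ({x} : Set G)), (h : G) * x = x * (h : G) := fun h => (hH h).mp h.2
  have hxC : x ∈ (Subgroup.centralizer ({x} : Set G)) := (hH x).mpr rfl
  have hsmt : ∀ ξ₀ : IrrCharacter ↥(Subgroup.centralizer ({x} : Set G)),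
      IsInducedBlock M (Subgroup.centralizer ({x} : Set G)) (blockOf M (ξ₀ : ↥(Subgroup.centralizer ({x} : Set G)) → ℂ)) (blockOf M (χ₀ : G → ℂ)) →
      ∀ χ : IrrCharacter G, χ ∉ blockOf M (χ₀ : G → ℂ) → ∀ s : ↥(Subgroup.centralizer ({x} : Set G)), ¬ p ∣ orderOf s →
      blockPart (blockOf M (ξ₀ : ↥(Subgroup.centralizer ({x} : Set G)) → ℂ)) (fun c : ↥(Subgroup.centralizer ({x} : Set G)) => (χ : G → ℂ) (x * c)) s = 0 := by
    intro ξ₀ hind χ hχ s hs
    rw [blockPart_eq_sum _ _ (shift_isClassFunction (Subgroup.centralizer ({x} : Set G)) x hcomm χ) s]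
    have hsG : ¬ p ∣ orderOf (s : G) := by rw [Subgroup.orderOf_coe]; exact hs
    have hsu : (s : G) * x = x * (s : G) := hcomm s
    have hC : ∀ z : G, IsPPart p (((⟨x, hxC⟩ : ↥(Subgroup.centralizer ({x} : Set G))) * s : ↥(Subgroup.centralizer ({x} : Set G))) : G) z →
        Subgroup.centralizer ({z} : Set G) ≤ (Subgroup.centralizer ({x} : Set G)) := by
      intro z hz
      have h1 : IsPPart p (x * (s : G)) x := ⟨(s : G), rfl, hsu.symm, hx, hsG⟩
      have hz' : IsPPart p (x * (s : G)) z := hz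
      have hzu : z = x := isPPart_unique hp hz' h1
      subst hzu
      exact le_refl _
    have hkey := second_main_key hM (Subgroup.centralizer ({x} : Set G)) ξ₀ χ₀ hind ((⟨x, hxC⟩ : ↥(Subgroup.centralizer ({x} : Set G))) * s) hC χ hχ
    refine Eq.trans (Finset.sum_congr rfl fun k _ => ?_) hkey
    have e : x * ((k * s : ↥(Subgroup.centralizer ({x} : Set G))) : G) = (k : G) * (((⟨x, hxC⟩ : ↥(Subgroup.centralizer ({x} : Set G))) * s : ↥(Subgroup.centralizer ({x} : Set G))) : G) := by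
      show x * ((k : G) * (s : G)) = (k : G) * (x * (s : G))
      rw [← mul_assoc, ← mul_assoc, hcomm k]
    show blockCoeff _ k * (χ : G → ℂ) (x * ((k * s : ↥(Subgroup.centralizer ({x} : Set G))) : G)) = _
    rw [e]
  have hdecomp : ∀ (χ : IrrCharacter G) (s : ↥(Subgroup.centralizer ({x} : Set G))), (χ : G → ℂ) (x * (s : G)) =
      ∑ e : Set (IrrCharacter ↥(Subgroup.centralizer ({x} : Set G))), if IsPBlock M e then
        blockPart e (fun c : ↥(Subgroup.centralizer ({x} : Set G)) => (χ : G → ℂ) (x * c)) s else 0 := by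
    intro χ s
    have h1 := congrFun (classFunction_eq_sum_irr _ (shift_isClassFunction (Subgroup.centralizer ({x} : Set G)) x hcomm χ)) s
    rw [Finset.sum_apply] at h1
    have h2 : (χ : G → ℂ) (x * (s : G)) = ∑ ψ : IrrCharacter ↥(Subgroup.centralizer ({x} : Set G)),
        classInner (fun c : ↥(Subgroup.centralizer ({x} : Set G)) => (χ : G → ℂ) (x * c)) (ψ : ↥(Subgroup.centralizer ({x} : Set G)) → ℂ) * (ψ : ↥(Subgroup.centralizer ({x} : Set G)) → ℂ) s := h1
    rw [h2, sum_irr_eq_sum_blocks hM]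
    refine Finset.sum_congr rfl fun e _ => ?_
    by_cases he : IsPBlock M e
    · rw [if_pos he, if_pos he, blockPart_eq, finsum_mem_eq_sum_ite]
    · rw [if_neg he, if_neg he]
  have hdecomp' : ∀ (χ : IrrCharacter G), χ ∈ blockOf M (χ₀ : G → ℂ) → ∀ s : ↥(Subgroup.centralizer ({x} : Set G)),
      ¬ p ∣ orderOf s → (χ : G → ℂ) (x * (s : G)) =
      ∑ e : Set (IrrCharacter ↥(Subgroup.centralizer ({x} : Set G))), if IsInducedBlock M (Subgroup.centralizer ({x} : Set G)) e (blockOf M (χ₀ : G → ℂ)) then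
        blockPart e (fun c : ↥(Subgroup.centralizer ({x} : Set G)) => (χ : G → ℂ) (x * c)) s else 0 := by
    intro χ hχ s hs
    rw [hdecomp χ s]
    refine Finset.sum_congr rfl fun e _ => ?_
    by_cases hI : IsInducedBlock M (Subgroup.centralizer ({x} : Set G)) e (blockOf M (χ₀ : G → ℂ))
    · rw [if_pos hI, if_pos hI.1]
    · rw [if_neg hI]
      by_cases he : IsPBlock M e
      · rw [if_pos he]
        obtain ⟨ξ₀, rfl⟩ := he
        exact smt_char hM x hx χ₀ χ hχ ξ₀ hI s hs
      · rw [if_neg he]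
  have hterm : ∀ (χ : IrrCharacter G), χ ∈ blockOf M (χ₀ : G → ℂ) → ∀ s : ↥(Subgroup.centralizer ({x} : Set G)),
      (if p ∣ orderOf s then (0 : ℂ) else (χ : G → ℂ) (x * (s : G)) * (χ : G → ℂ) (x * (s : G))⁻¹) =
      ∑ e : Set (IrrCharacter ↥(Subgroup.centralizer ({x} : Set G))), if IsInducedBlock M (Subgroup.centralizer ({x} : Set G)) e (blockOf M (χ₀ : G → ℂ)) then
        pRegularPart p (blockPart e (fun c : ↥(Subgroup.centralizer ({x} : Set G)) => (χ : G → ℂ) (x * c))) s * (χ : G → ℂ) (x⁻¹ * ((s⁻¹ : ↥(Subgroup.centralizer ({x} : Set G))) : G)) else 0 := by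
    intro χ hχ s
    have einv : x⁻¹ * ((s⁻¹ : ↥(Subgroup.centralizer ({x} : Set G))) : G) = (x * (s : G))⁻¹ := by
      rw [Subgroup.coe_inv, ← hcomm s, mul_inv_rev]
    by_cases hs : p ∣ orderOf s
    · rw [if_pos hs]
      symm
      refine Finset.sum_eq_zero fun e _ => ?_
      rw [pRegularPart_of_sing p _ hs, zero_mul, ite_self]
    · rw [if_neg hs, hdecomp' χ hχ s hs, Finset.sum_mul]
      refine Finset.sum_congr rfl fun e _ => ?_
      by_cases hI : IsInducedBlock M (Subgroup.centralizer ({x} : Set G)) e (blockOf M (χ₀ : G → ℂ))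
      · rw [if_pos hI, if_pos hI, pRegularPart_of_reg p _ hs, einv]
      · rw [if_neg hI, if_neg hI, zero_mul]
  have hblock : ∀ e : Set (IrrCharacter ↥(Subgroup.centralizer ({x} : Set G))),
      IsInducedBlock M (Subgroup.centralizer ({x} : Set G)) e (blockOf M (χ₀ : G → ℂ)) →
      ∑ χ : IrrCharacter G, (if χ ∈ blockOf M (χ₀ : G → ℂ) then ∑ s : ↥(Subgroup.centralizer ({x} : Set G)), pRegularPart p (blockPart e (fun c : ↥(Subgroup.centralizer ({x} : Set G)) => (χ : G → ℂ) (x * c))) s * (χ : G → ℂ) (x⁻¹ * ((s⁻¹ : ↥(Subgroup.centralizer ({x} : Set G))) : G)) else 0) =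
        (Nat.card ↥(Subgroup.centralizer ({x} : Set G)) : ℂ) * (blockRank p e : ℂ) := by
    intro e hI
    obtain ⟨ξ₀, rfl⟩ := hI.1
    rw [← subsection_trace hM x hx (Subgroup.centralizer ({x} : Set G)) hH ξ₀]
    refine Finset.sum_congr rfl fun χ _ => ?_
    by_cases hχ : χ ∈ blockOf M (χ₀ : G → ℂ)
    · rw [if_pos hχ]
    · rw [if_neg hχ]
      symm
      refine Finset.sum_eq_zero fun s _ => ?_
      by_cases hs : p ∣ orderOf s
      · rw [pRegularPart_of_sing p _ hs, zero_mul]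
      · rw [pRegularPart_of_reg p _ hs, hsmt ξ₀ hI χ hχ s hs, zero_mul]
  calc ∑ c : G, (if (c * x = x * c ∧ ¬ p ∣ orderOf c) then
        ∑ χ : IrrCharacter G, (if χ ∈ blockOf M (χ₀ : G → ℂ) then
          (χ : G → ℂ) (x * c) * (χ : G → ℂ) (x * c)⁻¹ else 0) else 0)
      = ∑ s : ↥(Subgroup.centralizer ({x} : Set G)), (if p ∣ orderOf s then (0 : ℂ) else
          ∑ χ : IrrCharacter G, (if χ ∈ blockOf M (χ₀ : G → ℂ) then
            (χ : G → ℂ) (x * (s : G)) * (χ : G → ℂ) (x * (s : G))⁻¹ else 0)) :=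
        sum_centralizer_reg p x (Subgroup.centralizer ({x} : Set G)) hH (fun g => ∑ χ : IrrCharacter G,
          if χ ∈ blockOf M (χ₀ : G → ℂ) then (χ : G → ℂ) (x * g) * (χ : G → ℂ) (x * g)⁻¹ else 0)
    _ = ∑ s : ↥(Subgroup.centralizer ({x} : Set G)), ∑ χ : IrrCharacter G, (if χ ∈ blockOf M (χ₀ : G → ℂ) then
          ∑ e : Set (IrrCharacter ↥(Subgroup.centralizer ({x} : Set G))),
            (if IsInducedBlock M (Subgroup.centralizer ({x} : Set G)) e (blockOf M (χ₀ : G → ℂ)) then pRegularPart p (blockPart e (fun c : ↥(Subgroup.centralizer ({x} : Set G)) => (χ : G → ℂ) (x * c))) s * (χ : G → ℂ) (x⁻¹ * ((s⁻¹ : ↥(Subgroup.centralizer ({x} : Set G))) : G)) else 0) else 0) := by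
        refine Finset.sum_congr rfl fun s _ => ?_
        have e1 : (if p ∣ orderOf s then (0 : ℂ) else
            ∑ χ : IrrCharacter G, (if χ ∈ blockOf M (χ₀ : G → ℂ) then
              (χ : G → ℂ) (x * (s : G)) * (χ : G → ℂ) (x * (s : G))⁻¹ else 0)) =
            ∑ χ : IrrCharacter G, (if χ ∈ blockOf M (χ₀ : G → ℂ) then
              (if p ∣ orderOf s then (0 : ℂ) else
                (χ : G → ℂ) (x * (s : G)) * (χ : G → ℂ) (x * (s : G))⁻¹) else 0) := by
          by_cases hs : p ∣ orderOf s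
          · simp only [if_pos hs, ite_self, Finset.sum_const_zero]
          · simp only [if_neg hs]
        rw [e1]
        refine Finset.sum_congr rfl fun χ _ => ?_
        by_cases hχ : χ ∈ blockOf M (χ₀ : G → ℂ)
        · rw [if_pos hχ, if_pos hχ, hterm χ hχ s]
        · rw [if_neg hχ, if_neg hχ]
    _ = ∑ χ : IrrCharacter G, (if χ ∈ blockOf M (χ₀ : G → ℂ) then
          ∑ e : Set (IrrCharacter ↥(Subgroup.centralizer ({x} : Set G))),
            (if IsInducedBlock M (Subgroup.centralizer ({x} : Set G)) e (blockOf M (χ₀ : G → ℂ)) then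
              ∑ s : ↥(Subgroup.centralizer ({x} : Set G)), pRegularPart p (blockPart e (fun c : ↥(Subgroup.centralizer ({x} : Set G)) => (χ : G → ℂ) (x * c))) s * (χ : G → ℂ) (x⁻¹ * ((s⁻¹ : ↥(Subgroup.centralizer ({x} : Set G))) : G)) else 0) else 0) := by
        rw [Finset.sum_comm]
        refine Finset.sum_congr rfl fun χ _ => ?_
        by_cases hχ : χ ∈ blockOf M (χ₀ : G → ℂ)
        · simp only [if_pos hχ]
          rw [Finset.sum_comm]
          refine Finset.sum_congr rfl fun e _ => ?_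
          by_cases he : IsInducedBlock M (Subgroup.centralizer ({x} : Set G)) e (blockOf M (χ₀ : G → ℂ))
          · simp only [if_pos he]
          · simp only [if_neg he, Finset.sum_const_zero]
        · simp only [if_neg hχ, Finset.sum_const_zero]
    _ = ∑ e : Set (IrrCharacter ↥(Subgroup.centralizer ({x} : Set G))),
          (if IsInducedBlock M (Subgroup.centralizer ({x} : Set G)) e (blockOf M (χ₀ : G → ℂ)) then
            ∑ χ : IrrCharacter G, (if χ ∈ blockOf M (χ₀ : G → ℂ) then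
              ∑ s : ↥(Subgroup.centralizer ({x} : Set G)), pRegularPart p (blockPart e (fun c : ↥(Subgroup.centralizer ({x} : Set G)) => (χ : G → ℂ) (x * c))) s * (χ : G → ℂ) (x⁻¹ * ((s⁻¹ : ↥(Subgroup.centralizer ({x} : Set G))) : G)) else 0) else 0) := by
        have e2 : ∀ χ : IrrCharacter G, (if χ ∈ blockOf M (χ₀ : G → ℂ) then
            ∑ e : Set (IrrCharacter ↥(Subgroup.centralizer ({x} : Set G))),
              (if IsInducedBlock M (Subgroup.centralizer ({x} : Set G)) e (blockOf M (χ₀ : G → ℂ)) then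
                ∑ s : ↥(Subgroup.centralizer ({x} : Set G)), pRegularPart p (blockPart e (fun c : ↥(Subgroup.centralizer ({x} : Set G)) => (χ : G → ℂ) (x * c))) s * (χ : G → ℂ) (x⁻¹ * ((s⁻¹ : ↥(Subgroup.centralizer ({x} : Set G))) : G)) else 0) else 0) =
            ∑ e : Set (IrrCharacter ↥(Subgroup.centralizer ({x} : Set G))),
              (if IsInducedBlock M (Subgroup.centralizer ({x} : Set G)) e (blockOf M (χ₀ : G → ℂ)) then
                (if χ ∈ blockOf M (χ₀ : G → ℂ) then ∑ s : ↥(Subgroup.centralizer ({x} : Set G)), pRegularPart p (blockPart e (fun c : ↥(Subgroup.centralizer ({x} : Set G)) => (χ : G → ℂ) (x * c))) s * (χ : G → ℂ) (x⁻¹ * ((s⁻¹ : ↥(Subgroup.centralizer ({x} : Set G))) : G)) else 0) else 0) := by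
          intro χ
          by_cases hχ : χ ∈ blockOf M (χ₀ : G → ℂ)
          · simp only [if_pos hχ]
          · simp only [if_neg hχ, ite_self, Finset.sum_const_zero]
        rw [Finset.sum_congr rfl fun χ _ => e2 χ, Finset.sum_comm]
        refine Finset.sum_congr rfl fun e _ => ?_
        by_cases he : IsInducedBlock M (Subgroup.centralizer ({x} : Set G)) e (blockOf M (χ₀ : G → ℂ))
        · simp only [if_pos he]
        · simp only [if_neg he, Finset.sum_const_zero]
    _ = ∑ e : Set (IrrCharacter ↥(Subgroup.centralizer ({x} : Set G))),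
          (if IsInducedBlock M (Subgroup.centralizer ({x} : Set G)) e (blockOf M (χ₀ : G → ℂ)) then
            (Nat.card ↥(Subgroup.centralizer ({x} : Set G)) : ℂ) * (blockRank p e : ℂ) else 0) := by
        refine Finset.sum_congr rfl fun e _ => ?_
        by_cases he : IsInducedBlock M (Subgroup.centralizer ({x} : Set G)) e (blockOf M (χ₀ : G → ℂ))
        · rw [if_pos he, if_pos he, hblock e he]
        · rw [if_neg he, if_neg he]
    _ = (Nat.card (Subgroup.centralizer ({x} : Set G)) : ℂ) *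
        ((∑ᶠ b ∈ {b : Set (IrrCharacter (Subgroup.centralizer ({x} : Set G))) |
          IsInducedBlock M (Subgroup.centralizer ({x} : Set G)) b (blockOf M (χ₀ : G → ℂ))}, blockRank p b : ℕ) : ℂ) := by
        rw [finsum_setOf_eq_sum_nat (fun b : Set (IrrCharacter ↥(Subgroup.centralizer ({x} : Set G))) =>
          IsInducedBlock M (Subgroup.centralizer ({x} : Set G)) b (blockOf M (χ₀ : G → ℂ))) (fun b => blockRank p b),
          Nat.cast_sum, Finset.mul_sum]
        refine Finset.sum_congr rfl fun e _ => ?_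
        by_cases he : IsInducedBlock M (Subgroup.centralizer ({x} : Set G)) e (blockOf M (χ₀ : G → ℂ))
        · rw [if_pos he, if_pos he]
        · rw [if_neg he, if_neg he, Nat.cast_zero, mul_zero]

end Cfsg.Agent.Helper22
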