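import Mathlib

/-!
# Piece [F] of S1011: `PSL₂` of two finite fields of the same cardinality are isomorphic
-/

set_option autoImplicit false

namespace Cfsg.Agent.Helper22.O504F

open Matrix

theorem center_map_equiv {A B : Type*} [Group A] [Group B] (e : A ≃* B) :
    (Subgroup.center A).map (e : A →* B) = Subgroup.center B := by
  ext y
  constructor
  · rintro ⟨x, hx, rfl⟩
    rw [SetLike.mem_coe, Subgroup.mem_center_iff] at hx
    rw [Subgroup.mem_center_iff]
    intro z
    obtain ⟨w, rfl⟩ := e.surjective z
    show e w * e x = e x * e w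
    rw [← map_mul, ← map_mul, hx w]
  · intro hy
    rw [Subgroup.mem_center_iff] at hy
    refine ⟨e.symm y, ?_, e.apply_symm_apply y⟩
    rw [SetLike.mem_coe, Subgroup.mem_center_iff]
    intro z
    apply e.injective
    rw [map_mul, map_mul, e.apply_symm_apply]
    exact hy (e z)

theorem psl_congr {F F' : Type*} [Field F] [Fintype F] [Field F'] [Fintype F']
    (hcard : Fintype.card F = Fintype.card F') :
    Nonempty (Matrix.ProjectiveSpecialLinearGroup (Fin 2) F ≃*
      Matrix.ProjectiveSpecialLinearGroup (Fin 2) F') := by
  obtain ⟨e⟩ : Nonempty (F ≃+* F') := ⟨FiniteField.ringEquivOfCardEq hcard⟩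
  obtain ⟨E⟩ : Nonempty (SpecialLinearGroup (Fin 2) F ≃* SpecialLinearGroup (Fin 2) F') :=
    ⟨{ toFun := SpecialLinearGroup.map e.toRingHom
       invFun := SpecialLinearGroup.map e.symm.toRingHom
       left_inv := fun g => by
         apply Subtype.ext
         ext i j
         show e.symm (e ((g : Matrix (Fin 2) (Fin 2) F) i j)) = (g : Matrix (Fin 2) (Fin 2) F) i j
         exact e.symm_apply_apply _
       right_inv := fun g => by
         apply Subtype.ext
         ext i j
         show e (e.symm ((g : Matrix (Fin 2) (Fin 2) F') i j)) =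
           (g : Matrix (Fin 2) (Fin 2) F') i j
         exact e.apply_symm_apply _
       map_mul' := fun a b => map_mul _ a b }⟩
  exact ⟨QuotientGroup.congr (Subgroup.center (SpecialLinearGroup (Fin 2) F))
    (Subgroup.center (SpecialLinearGroup (Fin 2) F')) E (center_map_equiv E)⟩

end Cfsg.Agent.Helper22.O504F
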