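import Mathlib
import Cfsg.Prelude.Def_Classical
import Cfsg.Agent.S0246

/-!
helper22: pieces P7 + P8 of helper10's plan for S2469.

* `center_sq` : central elements of `Sp_{2n}(F)` square to `1`.
* `psp_order` : an element of odd order of `Sp` keeps its order in `PSp`.
* `lift_rs` : an element of order `r * s` (odd primes) of `PSp` gives commuting nontrivial
  elements of `Sp` of exponents `r` and `s`.
-/

set_option autoImplicit false

namespace Cfsg.Agent.Helper22.PSpRS

open Cfsg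

theorem center_sq {F : Type*} [Field F] (n : ℕ) (z : ↥(Matrix.symplecticGroup (Fin n) F))
    (hz : z ∈ Subgroup.center (Matrix.symplecticGroup (Fin n) F)) : z ^ 2 = 1 := by
  rcases Nat.eq_zero_or_pos n with rfl | hn
  · apply Subtype.ext
    exact Subsingleton.elim _ _
  · rcases Cfsg.Agent.S0246.center_sub n hn z hz with h | h
    · rw [h, one_pow]
    · rw [h, sq]
      apply Subtype.ext
      show (-1 : Matrix (Fin n ⊕ Fin n) (Fin n ⊕ Fin n) F) * (-1) = 1
      simp

theorem psp_order {F : Type*} [Field F] (n : ℕ) (x : ↥(Matrix.symplecticGroup (Fin n) F)) (hx : Odd (orderOf x)) : orderOf ((QuotientGroup.mk x : Cfsg.PSp n F)) = orderOf x := by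
  apply Nat.dvd_antisymm
  · exact orderOf_dvd_of_pow_eq_one ((QuotientGroup.mk_pow _ x _).symm.trans
      ((QuotientGroup.eq_one_iff _).mpr (by rw [pow_orderOf_eq_one]; exact Subgroup.one_mem _)))
  · have h1 : (QuotientGroup.mk x : Cfsg.PSp n F) ^
        orderOf (QuotientGroup.mk x : Cfsg.PSp n F) = 1 := pow_orderOf_eq_one _
    have h2 : x ^ orderOf (QuotientGroup.mk x : Cfsg.PSp n F) ∈
        Subgroup.center (Matrix.symplecticGroup (Fin n) F) :=
      (QuotientGroup.eq_one_iff _).mp ((QuotientGroup.mk_pow _ x _).trans h1)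
    have h3 := center_sq n _ h2
    rw [← pow_mul] at h3
    have h4 : orderOf x ∣ orderOf (QuotientGroup.mk x : Cfsg.PSp n F) * 2 :=
      orderOf_dvd_of_pow_eq_one h3
    exact Nat.Coprime.dvd_of_dvd_mul_right (Nat.coprime_two_left.mpr hx).symm h4

theorem lift_rs {F : Type*} [Field F] (n r s : ℕ) (hr : r.Prime) (hs : s.Prime) (hr2 : r ≠ 2) (hs2 : s ≠ 2) (hrs : r ≠ s) (g : Cfsg.PSp n F) (hg : orderOf g = r * s) : ∃ X Y : ↥(Matrix.symplecticGroup (Fin n) F), X ^ r = 1 ∧ X ≠ 1 ∧ Y ^ s = 1 ∧ Y ≠ 1 ∧ X * Y = Y * X := by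
  obtain ⟨x, rfl⟩ := QuotientGroup.mk_surjective g
  have h1 : (QuotientGroup.mk x : Cfsg.PSp n F) ^ (r * s) = 1 := by
    rw [← hg]; exact pow_orderOf_eq_one _
  have h2 : x ^ (r * s) ∈ Subgroup.center (Matrix.symplecticGroup (Fin n) F) :=
    (QuotientGroup.eq_one_iff _).mp ((QuotientGroup.mk_pow _ x (r * s)).trans h1)
  have h3 : x ^ (r * s * 2) = 1 := by rw [pow_mul]; exact center_sq n _ h2
  have hne : ∀ j : ℕ, x ^ j = 1 → r * s ∣ j := by
    intro j hj
    rw [← hg]
    exact orderOf_dvd_of_pow_eq_one ((QuotientGroup.mk_pow _ x j).symm.trans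
      ((QuotientGroup.eq_one_iff _).mpr (by rw [hj]; exact Subgroup.one_mem _)))
  refine ⟨x ^ (2 * s), x ^ (2 * r), ?_, ?_, ?_, ?_, pow_mul_comm x _ _⟩
  · rw [← pow_mul, show 2 * s * r = r * s * 2 by ring]; exact h3
  · intro h
    have h4 := hne _ h
    have h5 : r ∣ 2 := Nat.dvd_of_mul_dvd_mul_right hs.pos h4
    exact hr2 ((Nat.prime_dvd_prime_iff_eq hr Nat.prime_two).mp h5)
  · rw [← pow_mul, show 2 * r * s = r * s * 2 by ring]; exact h3
  · intro h
    have h4 := hne _ h
    have h5 : s ∣ 2 :=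
      Nat.dvd_of_mul_dvd_mul_right hr.pos (by rwa [mul_comm r s] at h4)
    exact hs2 ((Nat.prime_dvd_prime_iff_eq hs Nat.prime_two).mp h5)

end Cfsg.Agent.Helper22.PSpRS
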