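import Mathlib
import Cfsg.Prelude.Def_Solvable

/-!
# Groups with a self-centralizing element of prime order

Shared library (helper22) for the statements S4495, S4496, S4497, S4509.
Setting: `G` finite, `p` prime, `x : G` with `orderOf x = p` and `C_G(x) = ⟨x⟩`.
-/

set_option autoImplicit false

namespace Cfsg.Agent.Helper22

open Pointwise
open scoped commutatorElement

variable {G : Type*} [Group G] [Finite G] {p : ℕ} {x : G}

theorem sc_card_zpowers (hx : orderOf x = p) : Nat.card (Subgroup.zpowers x) = p := by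
  rw [Nat.card_zpowers, hx]

theorem sc_isPGroup (hx : orderOf x = p) : IsPGroup p (Subgroup.zpowers x) :=
  IsPGroup.of_card (n := 1) (by rw [sc_card_zpowers hx, pow_one])

theorem sc_ne_one (hp : p.Prime) (hx : orderOf x = p) : x ≠ 1 := by
  rintro rfl
  rw [orderOf_one] at hx
  exact hp.one_lt.ne hx

theorem sc_pow_eq_one (hx : orderOf x = p) : x ^ p = 1 := by
  rw [← hx]; exact pow_orderOf_eq_one x

/-- a non-identity element of `⟨x⟩` generates `⟨x⟩`. -/
theorem sc_zpowers_eq_of_mem (hp : p.Prime) (hx : orderOf x = p) {z : G}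
    (hz : z ∈ Subgroup.zpowers x) (hz1 : z ≠ 1) : Subgroup.zpowers z = Subgroup.zpowers x := by
  have hle : Subgroup.zpowers z ≤ Subgroup.zpowers x := Subgroup.zpowers_le.2 hz
  apply Subgroup.eq_of_le_of_card_ge hle
  rw [sc_card_zpowers hx, Nat.card_zpowers]
  obtain ⟨k, rfl⟩ := Subgroup.mem_zpowers_iff.1 hz
  have h1 : (x ^ k) ^ p = 1 := by
    rw [← zpow_natCast, ← zpow_mul, mul_comm, zpow_mul, zpow_natCast, sc_pow_eq_one hx, one_zpow]
  have h2 : orderOf (x ^ k) ∣ p := orderOf_dvd_of_pow_eq_one h1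
  rcases (Nat.dvd_prime hp).1 h2 with h3 | h3
  · exact absurd (orderOf_eq_one_iff.1 h3) hz1
  · exact h3.ge

theorem sc_orderOf_of_mem (hp : p.Prime) (hx : orderOf x = p) {z : G}
    (hz : z ∈ Subgroup.zpowers x) (hz1 : z ≠ 1) : orderOf z = p := by
  rw [← Nat.card_zpowers, sc_zpowers_eq_of_mem hp hx hz hz1, sc_card_zpowers hx]

theorem sc_mem_centralizer_iff {y : G} :
    y ∈ Subgroup.centralizer ({x} : Set G) ↔ x * y = y * x := by
  rw [Subgroup.mem_centralizer_iff]
  constructor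
  · intro h; exact h x rfl
  · intro h z hz
    rw [Set.mem_singleton_iff] at hz
    subst hz
    exact h

/-- `⟨x⟩` is a Sylow `p`-subgroup. -/
theorem sc_exists_sylow (hp : p.Prime) (hx : orderOf x = p)
    (hC : Subgroup.centralizer ({x} : Set G) = Subgroup.zpowers x) :
    ∃ P : Sylow p G, (P : Subgroup G) = Subgroup.zpowers x := by
  have := Fact.mk hp
  obtain ⟨Q, hQ⟩ := (sc_isPGroup hx).exists_le_sylow
  refine ⟨Q, le_antisymm ?_ hQ⟩
  have hxQ : x ∈ (Q : Subgroup G) := hQ (Subgroup.mem_zpowers x)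
  have hnt : Nontrivial (Q : Subgroup G) :=
    ⟨⟨⟨x, hxQ⟩, 1, fun h => sc_ne_one hp hx (congrArg Subtype.val h)⟩⟩
  have hcn : Nontrivial (Subgroup.center (Q : Subgroup G)) := Q.isPGroup'.center_nontrivial
  obtain ⟨z, hz⟩ := exists_ne (1 : Subgroup.center (Q : Subgroup G))
  have hzc : ∀ g : (Q : Subgroup G), g * (z : (Q : Subgroup G)) = (z : (Q : Subgroup G)) * g :=
    fun g => Subgroup.mem_center_iff.1 z.2 g
  have hz1 : ((z : (Q : Subgroup G)) : G) ≠ 1 := by
    intro h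
    apply hz
    apply Subtype.ext
    apply Subtype.ext
    simpa using h
  have hzx : ((z : (Q : Subgroup G)) : G) ∈ Subgroup.zpowers x := by
    rw [← hC, sc_mem_centralizer_iff]
    exact congrArg Subtype.val (hzc ⟨x, hxQ⟩)
  have hxz : x ∈ Subgroup.zpowers ((z : (Q : Subgroup G)) : G) := by
    rw [sc_zpowers_eq_of_mem hp hx hzx hz1]
    exact Subgroup.mem_zpowers x
  obtain ⟨j, hj⟩ := Subgroup.mem_zpowers_iff.1 hxz
  intro q hq
  rw [← hC, sc_mem_centralizer_iff, ← hj]
  have hqz : q * ((z : (Q : Subgroup G)) : G) = ((z : (Q : Subgroup G)) : G) * q :=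
    congrArg Subtype.val (hzc ⟨q, hq⟩)
  exact ((Commute.zpow_right hqz j).eq).symm

theorem sc_factorization (hp : p.Prime) (hx : orderOf x = p)
    (hC : Subgroup.centralizer ({x} : Set G) = Subgroup.zpowers x) :
    (Nat.card G).factorization p = 1 := by
  have := Fact.mk hp
  obtain ⟨P, hP⟩ := sc_exists_sylow hp hx hC
  have h1 := P.card_eq_multiplicity
  have h2 : Nat.card (P : Subgroup G) = p := by rw [hP, sc_card_zpowers hx]
  have h3 : p ^ (Nat.card G).factorization p = p ^ 1 := by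
    rw [pow_one]
    exact h1.symm.trans h2
  exact Nat.pow_right_injective hp.two_le h3

theorem sc_inf_eq_bot (hx : orderOf x = p) (S : Subgroup G) (hS : ¬ p ∣ Nat.card S) (hp : p.Prime) :
    S ⊓ Subgroup.zpowers x = ⊥ := by
  apply disjoint_iff.mp
  apply Subgroup.disjoint_of_coprime_natCard
  rw [sc_card_zpowers hx]
  exact (Nat.Coprime.symm ((Nat.Prime.coprime_iff_not_dvd hp).2 hS))

/-- every element of order `p` has a conjugate of `x` among its powers -/
theorem sc_exists_conj_mem (hp : p.Prime) (hx : orderOf x = p)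
    (hC : Subgroup.centralizer ({x} : Set G) = Subgroup.zpowers x) (y : G) (hy : orderOf y = p) :
    ∃ g : G, g⁻¹ * x * g ∈ Subgroup.zpowers y := by
  have := Fact.mk hp
  obtain ⟨P, hP⟩ := sc_exists_sylow hp hx hC
  have hcard : Nat.card (Subgroup.zpowers y) = p ^ (Nat.card G).factorization p := by
    rw [Nat.card_zpowers, hy, sc_factorization hp hx hC, pow_one]
  obtain ⟨g, hg⟩ := MulAction.exists_smul_eq G (Sylow.ofCard (Subgroup.zpowers y) hcard) P
  refine ⟨g, ?_⟩
  have h1 : x ∈ (P : Subgroup G) := by rw [hP]; exact Subgroup.mem_zpowers x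
  rw [← hg, Sylow.coe_subgroup_smul, Subgroup.mem_pointwise_smul_iff_inv_smul_mem] at h1
  simpa [MulAut.smul_def] using h1

/-- commutators of elements normalizing `⟨x⟩` lie in `⟨x⟩` -/
theorem sc_comm_aux (hC : Subgroup.centralizer ({x} : Set G) = Subgroup.zpowers x) {a b : G}
    (ha : a ∈ Subgroup.normalizer (Subgroup.zpowers x : Set G))
    (hb : b ∈ Subgroup.normalizer (Subgroup.zpowers x : Set G)) :
    a⁻¹ * b⁻¹ * a * b ∈ Subgroup.zpowers x := by
  obtain ⟨i, hi⟩ := Subgroup.mem_zpowers_iff.1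
    ((Subgroup.mem_normalizer_iff.1 ha x).1 (Subgroup.mem_zpowers x))
  obtain ⟨j, hj⟩ := Subgroup.mem_zpowers_iff.1
    ((Subgroup.mem_normalizer_iff.1 hb x).1 (Subgroup.mem_zpowers x))
  have h1 : (a * b) * x * (a * b)⁻¹ = x ^ (i * j) := by
    calc (a * b) * x * (a * b)⁻¹ = a * (b * x * b⁻¹) * a⁻¹ := by group
      _ = a * x ^ j * a⁻¹ := by rw [hj]
      _ = (a * x * a⁻¹) ^ j := by rw [conj_zpow]
      _ = x ^ (i * j) := by rw [← hi, zpow_mul]
  have h2 : (b * a) * x * (b * a)⁻¹ = x ^ (i * j) := by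
    calc (b * a) * x * (b * a)⁻¹ = b * (a * x * a⁻¹) * b⁻¹ := by group
      _ = b * x ^ i * b⁻¹ := by rw [hi]
      _ = (b * x * b⁻¹) ^ i := by rw [conj_zpow]
      _ = x ^ (i * j) := by rw [← hj, ← zpow_mul, mul_comm]
  rw [← hC, sc_mem_centralizer_iff]
  have h3 : (a * b) * x * (a * b)⁻¹ = (b * a) * x * (b * a)⁻¹ := by rw [h1, h2]
  calc x * (a⁻¹ * b⁻¹ * a * b) = (b * a)⁻¹ * ((b * a) * x * (b * a)⁻¹) * (a * b) := by group
    _ = (b * a)⁻¹ * ((a * b) * x * (a * b)⁻¹) * (a * b) := by rw [h3]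
    _ = a⁻¹ * b⁻¹ * a * b * x := by group

theorem sc_comm_mem (hC : Subgroup.centralizer ({x} : Set G) = Subgroup.zpowers x) {a b : G}
    (ha : a ∈ Subgroup.normalizer (Subgroup.zpowers x : Set G))
    (hb : b ∈ Subgroup.normalizer (Subgroup.zpowers x : Set G)) :
    ⁅a, b⁆ ∈ Subgroup.zpowers x := by
  have h := sc_comm_aux hC (Subgroup.inv_mem _ ha) (Subgroup.inv_mem _ hb)
  simpa [commutatorElement_def] using h

/-- a normal subgroup of order divisible by `p` contains `x` -/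
theorem sc_le_of_dvd_card (hp : p.Prime) (hx : orderOf x = p)
    (hC : Subgroup.centralizer ({x} : Set G) = Subgroup.zpowers x)
    (S : Subgroup G) [S.Normal] (h : p ∣ Nat.card S) : Subgroup.zpowers x ≤ S := by
  have := Fact.mk hp
  obtain ⟨y, hy⟩ := exists_prime_orderOf_dvd_card' (G := S) p h
  have hy' : orderOf (y : G) = p := by rw [Subgroup.orderOf_coe, hy]
  obtain ⟨g, hg⟩ := sc_exists_conj_mem hp hx hC (y : G) hy'
  have h1 : g⁻¹ * x * g ∈ S := (Subgroup.zpowers_le.2 y.2) hg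
  have h2 : g * (g⁻¹ * x * g) * g⁻¹ ∈ S := Subgroup.Normal.conj_mem inferInstance _ h1 g
  rw [Subgroup.zpowers_le]
  have h3 : g * (g⁻¹ * x * g) * g⁻¹ = x := by group
  rwa [h3] at h2

/-- a normal subgroup of order divisible by `p` contains the commutator subgroup -/
theorem sc_commutator_le (hp : p.Prime) (hx : orderOf x = p)
    (hC : Subgroup.centralizer ({x} : Set G) = Subgroup.zpowers x)
    (S : Subgroup G) [S.Normal] (h : p ∣ Nat.card S) : commutator G ≤ S := by
  have := Fact.mk hp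
  obtain ⟨P, hP⟩ := sc_exists_sylow hp hx hC
  have hPS : Subgroup.zpowers x ≤ S := sc_le_of_dvd_card hp hx hC S h
  have hPS' : (P : Subgroup G) ≤ S := hP ▸ hPS
  have hF : Subgroup.normalizer ((P : Subgroup G) : Set G) ⊔ S = ⊤ := Sylow.normalizer_sup_eq_top' P hPS'
  rw [hP] at hF
  rw [commutator_def, Subgroup.commutator_le]
  intro a _ b _
  have ha : a ∈ Subgroup.normalizer (Subgroup.zpowers x : Set G) ⊔ S := by rw [hF]; trivial
  have hb : b ∈ Subgroup.normalizer (Subgroup.zpowers x : Set G) ⊔ S := by rw [hF]; trivial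
  obtain ⟨n1, hn1, s1, hs1, rfl⟩ := Subgroup.mem_sup_of_normal_right.1 ha
  obtain ⟨n2, hn2, s2, hs2, rfl⟩ := Subgroup.mem_sup_of_normal_right.1 hb
  rw [← QuotientGroup.eq_one_iff (N := S)]
  have e1 : ((s1 : G) : G ⧸ S) = 1 := (QuotientGroup.eq_one_iff s1).2 hs1
  have e2 : ((s2 : G) : G ⧸ S) = 1 := (QuotientGroup.eq_one_iff s2).2 hs2
  have e3 : ((⁅n1, n2⁆ : G) : G ⧸ S) = 1 :=
    (QuotientGroup.eq_one_iff _).2 (hPS (sc_comm_mem hC hn1 hn2))
  have e4 : ((⁅n1 * s1, n2 * s2⁆ : G) : G ⧸ S) = ((⁅n1, n2⁆ : G) : G ⧸ S) := by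
    simp only [commutatorElement_def, QuotientGroup.mk_mul, QuotientGroup.mk_inv, e1, e2, mul_one]
  rw [e4, e3]

/-- a normal `p'`-subgroup meets the normalizer of `⟨x⟩` trivially -/
theorem sc_inf_normalizer (hp : p.Prime) (hx : orderOf x = p)
    (hC : Subgroup.centralizer ({x} : Set G) = Subgroup.zpowers x)
    (S : Subgroup G) [S.Normal] (hS : ¬ p ∣ Nat.card S) :
    S ⊓ Subgroup.normalizer (Subgroup.zpowers x : Set G) = ⊥ := by
  have hbot := sc_inf_eq_bot hx S hS hp
  rw [eq_bot_iff]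
  rintro s ⟨hsS, hsN⟩
  have h1 : s * x * s⁻¹ ∈ Subgroup.zpowers x :=
    (Subgroup.mem_normalizer_iff.1 hsN x).1 (Subgroup.mem_zpowers x)
  have h2 : s * x * s⁻¹ * x⁻¹ ∈ Subgroup.zpowers x :=
    Subgroup.mul_mem _ h1 (Subgroup.inv_mem _ (Subgroup.mem_zpowers x))
  have h3 : s * x * s⁻¹ * x⁻¹ ∈ S := by
    have h4 : x * s⁻¹ * x⁻¹ ∈ S := Subgroup.Normal.conj_mem inferInstance _ (S.inv_mem hsS) x
    have h5 : s * x * s⁻¹ * x⁻¹ = s * (x * s⁻¹ * x⁻¹) := by group
    rw [h5]
    exact S.mul_mem hsS h4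
  have h6 : s * x * s⁻¹ * x⁻¹ ∈ S ⊓ Subgroup.zpowers x := ⟨h3, h2⟩
  rw [hbot, Subgroup.mem_bot] at h6
  have h7 : s ∈ Subgroup.zpowers x := by
    rw [← hC, sc_mem_centralizer_iff]
    have h8 : s * x = x * s := by
      calc s * x = (s * x * s⁻¹ * x⁻¹) * (x * s) := by group
        _ = x * s := by rw [h6, one_mul]
    exact h8.symm
  have h9 : s ∈ S ⊓ Subgroup.zpowers x := ⟨hsS, h7⟩
  rw [hbot] at h9
  exact h9

/-- order of a product with a normal subgroup meeting trivially -/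
theorem card_sup_of_inf_eq_bot (S H : Subgroup G) [S.Normal] (h : S ⊓ H = ⊥) :
    Nat.card (S ⊔ H : Subgroup G) = Nat.card S * Nat.card H := by
  have h1 : (⊥ : Subgroup G).relIndex S * S.relIndex (S ⊔ H) = (⊥ : Subgroup G).relIndex (S ⊔ H) :=
    Subgroup.relIndex_mul_relIndex _ _ _ bot_le le_sup_left
  rw [Subgroup.relIndex_bot_left, Subgroup.relIndex_bot_left, Subgroup.relIndex_sup_left,
    ← Subgroup.inf_relIndex_right, h, Subgroup.relIndex_bot_left] at h1
  exact h1.symm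

/-- a normal `p'`-subgroup has order dividing the number of Sylow `p`-subgroups -/
theorem sc_card_dvd_index (hp : p.Prime) (hx : orderOf x = p)
    (hC : Subgroup.centralizer ({x} : Set G) = Subgroup.zpowers x)
    (S : Subgroup G) [S.Normal] (hS : ¬ p ∣ Nat.card S) :
    Nat.card S ∣ (Subgroup.normalizer (Subgroup.zpowers x : Set G)).index := by
  have h1 := card_sup_of_inf_eq_bot S (Subgroup.normalizer (Subgroup.zpowers x : Set G))
    (sc_inf_normalizer hp hx hC S hS)
  have h2 : (⊥ : Subgroup G).relIndex (Subgroup.normalizer (Subgroup.zpowers x : Set G)) *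
      (Subgroup.normalizer (Subgroup.zpowers x : Set G)).relIndex
        (S ⊔ Subgroup.normalizer (Subgroup.zpowers x : Set G)) =
      (⊥ : Subgroup G).relIndex (S ⊔ Subgroup.normalizer (Subgroup.zpowers x : Set G)) :=
    Subgroup.relIndex_mul_relIndex _ _ _ bot_le le_sup_right
  rw [Subgroup.relIndex_bot_left, Subgroup.relIndex_bot_left, h1, mul_comm] at h2
  have h3 : (Subgroup.normalizer (Subgroup.zpowers x : Set G)).relIndex
        (S ⊔ Subgroup.normalizer (Subgroup.zpowers x : Set G)) = Nat.card S :=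
    Nat.eq_of_mul_eq_mul_right Nat.card_pos h2
  have h4 := Subgroup.relIndex_mul_index
    (le_sup_right : Subgroup.normalizer (Subgroup.zpowers x : Set G) ≤
      S ⊔ Subgroup.normalizer (Subgroup.zpowers x : Set G))
  rw [h3] at h4
  exact Dvd.intro _ h4

/-- the subgroups of order `p` are the Sylow `p`-subgroups -/
theorem sc_card_subgroups (hp : p.Prime) (hx : orderOf x = p)
    (hC : Subgroup.centralizer ({x} : Set G) = Subgroup.zpowers x) :
    Nat.card {H : Subgroup G // Nat.card H = p} =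
      (Subgroup.normalizer (Subgroup.zpowers x : Set G)).index := by
  have := Fact.mk hp
  obtain ⟨P, hP⟩ := sc_exists_sylow hp hx hC
  have hf := sc_factorization hp hx hC
  have e : Sylow p G ≃ {H : Subgroup G // Nat.card H = p} :=
    { toFun := fun Q => ⟨(Q : Subgroup G), by rw [Q.card_eq_multiplicity, hf, pow_one]⟩
      invFun := fun H => Sylow.ofCard H.1 (by rw [H.2, hf, pow_one])
      left_inv := fun Q => Sylow.ext rfl
      right_inv := fun H => Subtype.ext rfl }
  rw [← Nat.card_congr e, P.card_eq_index_normalizer]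
  have h1 : ((P : Subgroup G) : Set G) = (Subgroup.zpowers x : Set G) := by rw [hP]
  exact congrArg (fun s : Set G => (Subgroup.normalizer s).index) h1

/-- every element of a normal `p'`-subgroup `S` is a commutator `s' x s'⁻¹ x⁻¹` with `s' ∈ S` -/
theorem sc_exists_comm_eq (hp : p.Prime) (hx : orderOf x = p)
    (hC : Subgroup.centralizer ({x} : Set G) = Subgroup.zpowers x)
    (S : Subgroup G) [S.Normal] (hS : ¬ p ∣ Nat.card S) (s : G) (hs : s ∈ S) :
    ∃ s' ∈ S, s' * x * s'⁻¹ * x⁻¹ = s := by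
  have hbot := sc_inf_eq_bot hx S hS hp
  have hmem : ∀ u : S, (u : G) * x * (u : G)⁻¹ * x⁻¹ ∈ S := by
    intro u
    have h4 : x * (u : G)⁻¹ * x⁻¹ ∈ S := Subgroup.Normal.conj_mem inferInstance _ (S.inv_mem u.2) x
    have h5 : (u : G) * x * (u : G)⁻¹ * x⁻¹ = (u : G) * (x * (u : G)⁻¹ * x⁻¹) := by group
    rw [h5]
    exact S.mul_mem u.2 h4
  let f : S → S := fun u => ⟨(u : G) * x * (u : G)⁻¹ * x⁻¹, hmem u⟩
  have hinj : Function.Injective f := by
    intro u v huv
    have h1 : (u : G) * x * (u : G)⁻¹ * x⁻¹ = (v : G) * x * (v : G)⁻¹ * x⁻¹ :=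
      congrArg Subtype.val huv
    have h2 : (u : G) * x * (u : G)⁻¹ = (v : G) * x * (v : G)⁻¹ := mul_right_cancel h1
    have h3 : (v : G)⁻¹ * (u : G) ∈ Subgroup.zpowers x := by
      rw [← hC, sc_mem_centralizer_iff]
      calc x * ((v : G)⁻¹ * (u : G)) = (v : G)⁻¹ * ((v : G) * x * (v : G)⁻¹) * (u : G) := by group
        _ = (v : G)⁻¹ * ((u : G) * x * (u : G)⁻¹) * (u : G) := by rw [h2]
        _ = (v : G)⁻¹ * (u : G) * x := by group
    have h4 : (v : G)⁻¹ * (u : G) ∈ S ⊓ Subgroup.zpowers x :=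
      ⟨S.mul_mem (S.inv_mem v.2) u.2, h3⟩
    rw [hbot, Subgroup.mem_bot] at h4
    apply Subtype.ext
    exact (inv_mul_eq_one.1 h4).symm
  obtain ⟨u, hu⟩ := Finite.surjective_of_injective hinj ⟨s, hs⟩
  exact ⟨u, u.2, congrArg Subtype.val hu⟩

/-- a normal `p'`-subgroup has order `≡ 1 (mod p)` -/
theorem sc_card_mod (hp : p.Prime) (hx : orderOf x = p)
    (hC : Subgroup.centralizer ({x} : Set G) = Subgroup.zpowers x)
    (S : Subgroup G) [S.Normal] (hS : ¬ p ∣ Nat.card S) : Nat.card S % p = 1 := by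
  have := Fact.mk hp
  have hbot := sc_inf_eq_bot hx S hS hp
  let φ : (Subgroup.zpowers x) →* MulAut S :=
    (MulAut.conjNormal (H := S)).comp (Subgroup.zpowers x).subtype
  let _ : MulAction (Subgroup.zpowers x) S := MulAction.compHom S φ
  have h := (sc_isPGroup hx).card_modEq_card_fixedPoints S
  have hfix : MulAction.fixedPoints (Subgroup.zpowers x) S = {1} := by
    ext s
    rw [MulAction.mem_fixedPoints, Set.mem_singleton_iff]
    constructor
    · intro hs
      have h1 := hs ⟨x, Subgroup.mem_zpowers x⟩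
      have h2 : x * (s : G) * x⁻¹ = (s : G) := congrArg Subtype.val h1
      have h3 : (s : G) ∈ Subgroup.zpowers x := by
        rw [← hC, sc_mem_centralizer_iff]
        calc x * (s : G) = (x * (s : G) * x⁻¹) * x := by group
          _ = (s : G) * x := by rw [h2]
      have h4 : (s : G) ∈ S ⊓ Subgroup.zpowers x := ⟨s.2, h3⟩
      rw [hbot, Subgroup.mem_bot] at h4
      exact Subtype.ext h4
    · rintro rfl g
      apply Subtype.ext
      change (g : G) * ((1 : S) : G) * (g : G)⁻¹ = ((1 : S) : G)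
      simp
  rw [hfix] at h
  have h5 : Nat.card ({1} : Set S) = 1 := by simp
  rw [h5] at h
  have h6 : 1 % p = 1 := Nat.mod_eq_of_lt hp.one_lt
  rw [← h6]
  exact h

theorem sc_quot_orderOf (hp : p.Prime) (hx : orderOf x = p)
    (S : Subgroup G) [S.Normal] (hS : ¬ p ∣ Nat.card S) :
    orderOf (QuotientGroup.mk x : G ⧸ S) = p := by
  have := Fact.mk hp
  have hbot := sc_inf_eq_bot hx S hS hp
  apply orderOf_eq_prime
  · rw [← QuotientGroup.mk_pow, sc_pow_eq_one hx]
    rfl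
  · intro h
    have h1 : x ∈ S := (QuotientGroup.eq_one_iff x).1 h
    have h2 : x ∈ S ⊓ Subgroup.zpowers x := ⟨h1, Subgroup.mem_zpowers x⟩
    rw [hbot, Subgroup.mem_bot] at h2
    exact sc_ne_one hp hx h2

theorem sc_quot_centralizer (hp : p.Prime) (hx : orderOf x = p)
    (hC : Subgroup.centralizer ({x} : Set G) = Subgroup.zpowers x)
    (S : Subgroup G) [S.Normal] (hS : ¬ p ∣ Nat.card S) :
    Subgroup.centralizer ({(QuotientGroup.mk x : G ⧸ S)} : Set (G ⧸ S)) =
      Subgroup.zpowers (QuotientGroup.mk x : G ⧸ S) := by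
  ext q
  constructor
  · intro hq
    obtain ⟨g, rfl⟩ := QuotientGroup.mk_surjective q
    rw [sc_mem_centralizer_iff] at hq
    have h1 : g * x * g⁻¹ * x⁻¹ ∈ S := by
      rw [← QuotientGroup.eq_one_iff (N := S)]
      have h2 : ((g * x * g⁻¹ * x⁻¹ : G) : G ⧸ S) =
          (g : G ⧸ S) * (x : G ⧸ S) * (g : G ⧸ S)⁻¹ * (x : G ⧸ S)⁻¹ := rfl
      rw [h2, ← hq]
      group
    obtain ⟨s', hs', hs'eq⟩ := sc_exists_comm_eq hp hx hC S hS _ h1
    have h3 : s' * x * s'⁻¹ = g * x * g⁻¹ := mul_right_cancel hs'eq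
    have h4 : s'⁻¹ * g ∈ Subgroup.zpowers x := by
      rw [← hC, sc_mem_centralizer_iff]
      calc x * (s'⁻¹ * g) = s'⁻¹ * (s' * x * s'⁻¹) * g := by group
        _ = s'⁻¹ * (g * x * g⁻¹) * g := by rw [h3]
        _ = s'⁻¹ * g * x := by group
    obtain ⟨k, hk⟩ := Subgroup.mem_zpowers_iff.1 h4
    rw [Subgroup.mem_zpowers_iff]
    refine ⟨k, ?_⟩
    have h5 : g = s' * x ^ k := by rw [hk]; group
    have h6 : ((s' : G) : G ⧸ S) = 1 := (QuotientGroup.eq_one_iff s').2 hs'
    rw [h5, QuotientGroup.mk_mul, h6, one_mul, QuotientGroup.mk_zpow]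
  · intro hq
    obtain ⟨k, rfl⟩ := Subgroup.mem_zpowers_iff.1 hq
    rw [sc_mem_centralizer_iff]
    exact ((Commute.refl (QuotientGroup.mk x : G ⧸ S)).zpow_right k).eq

end Cfsg.Agent.Helper22
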