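import Cfsg.Agent.Helper22.SelfCent

/-!
# Self-centralizing elements of prime order, part 2: class counting and the two cases
-/

set_option autoImplicit false

namespace Cfsg.Agent.Helper22

open Pointwise
open scoped commutatorElement

variable {G : Type*} [Group G] [Finite G] {p : ℕ} {x : G}

theorem sc_conj_centralizer (hC : Subgroup.centralizer ({x} : Set G) = Subgroup.zpowers x) (a : G) :
    Subgroup.centralizer ({a⁻¹ * x * a} : Set G) = Subgroup.zpowers (a⁻¹ * x * a) := by
  ext y
  rw [sc_mem_centralizer_iff, Subgroup.mem_zpowers_iff]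
  constructor
  · intro h
    have h1 : a * y * a⁻¹ ∈ Subgroup.zpowers x := by
      rw [← hC, sc_mem_centralizer_iff]
      calc x * (a * y * a⁻¹) = a * ((a⁻¹ * x * a) * y) * a⁻¹ := by group
        _ = a * (y * (a⁻¹ * x * a)) * a⁻¹ := by rw [h]
        _ = a * y * a⁻¹ * x := by group
    obtain ⟨k, hk⟩ := Subgroup.mem_zpowers_iff.1 h1
    refine ⟨k, ?_⟩
    have h2 := conj_zpow (i := k) (a := a⁻¹) (b := x)
    rw [inv_inv] at h2
    rw [h2, hk]
    group
  · rintro ⟨k, rfl⟩
    exact ((Commute.refl (a⁻¹ * x * a)).zpow_right k).eq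

theorem sc_conj_ne_one (hp : p.Prime) (hx : orderOf x = p) (a : G) : a⁻¹ * x * a ≠ 1 := by
  intro h
  apply sc_ne_one hp hx
  have h1 : x = a * (a⁻¹ * x * a) * a⁻¹ := by group
  rw [h1, h]
  group

/-- every element of order `p` is self-centralizing -/
theorem sc_centralizer_of_order (hp : p.Prime) (hx : orderOf x = p)
    (hC : Subgroup.centralizer ({x} : Set G) = Subgroup.zpowers x) (g : G) (hg : orderOf g = p) :
    Subgroup.centralizer ({g} : Set G) = Subgroup.zpowers g := by
  obtain ⟨a, ha⟩ := sc_exists_conj_mem hp hx hC g hg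
  have h1 : Subgroup.zpowers (a⁻¹ * x * a) = Subgroup.zpowers g :=
    sc_zpowers_eq_of_mem hp hg ha (sc_conj_ne_one hp hx a)
  calc Subgroup.centralizer ({g} : Set G)
      = Subgroup.centralizer (Subgroup.zpowers g : Set G) := by
        rw [Subgroup.zpowers_eq_closure, Subgroup.centralizer_closure]
    _ = Subgroup.centralizer (Subgroup.zpowers (a⁻¹ * x * a) : Set G) := by rw [h1]
    _ = Subgroup.centralizer ({a⁻¹ * x * a} : Set G) := by
        rw [Subgroup.zpowers_eq_closure, Subgroup.centralizer_closure]
    _ = Subgroup.zpowers (a⁻¹ * x * a) := sc_conj_centralizer hC a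
    _ = Subgroup.zpowers g := h1

/-- the number of elements of order `p` is `n_p * (p - 1)` -/
theorem sc_card_order_elems (hp : p.Prime) (hx : orderOf x = p)
    (hC : Subgroup.centralizer ({x} : Set G) = Subgroup.zpowers x) :
    Nat.card {y : G // orderOf y = p} =
      (Subgroup.normalizer (Subgroup.zpowers x : Set G)).index * (p - 1) := by
  classical
  rw [← sc_card_subgroups hp hx hC]
  let φ : {y : G // orderOf y = p} → {H : Subgroup G // Nat.card H = p} :=
    fun y => ⟨Subgroup.zpowers y.1, by rw [Nat.card_zpowers, y.2]⟩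
  have hfib : ∀ H : {H : Subgroup G // Nat.card H = p}, Nat.card {y // φ y = H} = p - 1 := by
    intro H
    have hord : ∀ g : G, g ∈ H.1 → g ≠ 1 → orderOf g = p := by
      intro g hg hg1
      have h1 : orderOf (⟨g, hg⟩ : H.1) ∣ Nat.card H.1 := orderOf_dvd_natCard _
      rw [H.2, Subgroup.orderOf_mk] at h1
      rcases (Nat.dvd_prime hp).1 h1 with h2 | h2
      · exact absurd (orderOf_eq_one_iff.1 h2) hg1
      · exact h2
    have hzp : ∀ g : G, g ∈ H.1 → g ≠ 1 → Subgroup.zpowers g = H.1 := by
      intro g hg hg1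
      apply Subgroup.eq_of_le_of_card_ge (Subgroup.zpowers_le.2 hg)
      rw [H.2, Nat.card_zpowers, hord g hg hg1]
    have e : {y // φ y = H} ≃ ((H.1 : Set G) \ {1} : Set G) :=
      { toFun := fun y => ⟨y.1.1, by
          have h1 : Subgroup.zpowers y.1.1 = H.1 := congrArg Subtype.val y.2
          refine ⟨?_, ?_⟩
          · rw [SetLike.mem_coe, ← h1]; exact Subgroup.mem_zpowers _
          · rw [Set.mem_singleton_iff]
            intro h2
            have h3 := y.1.2
            rw [h2, orderOf_one] at h3
            exact hp.one_lt.ne h3⟩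
        invFun := fun g => ⟨⟨g.1, hord g.1 g.2.1 g.2.2⟩, Subtype.ext (hzp g.1 g.2.1 g.2.2)⟩
        left_inv := fun y => by ext; rfl
        right_inv := fun g => by ext; rfl }
    rw [Nat.card_congr e, Nat.card_coe_set_eq, Set.ncard_sdiff_singleton_of_mem (H.1.one_mem)]
    have h4 : (H.1 : Set G).ncard = p := by
      rw [← Nat.card_coe_set_eq]
      exact H.2
    rw [h4]
  have : Fintype {H : Subgroup G // Nat.card H = p} := Fintype.ofFinite _
  rw [Nat.card_congr (Equiv.sigmaFiberEquiv φ).symm, Nat.card_sigma]
  simp only [hfib, Finset.sum_const, Finset.card_univ, smul_eq_mul, Nat.card_eq_fintype_card]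

theorem sc_orderOf_conj (a g : G) : orderOf (a * g * a⁻¹) = orderOf g := by
  have h := MulEquiv.orderOf_eq (MulAut.conj a) g
  simpa using h

/-- class sizes of elements of order `p` -/
theorem sc_card_order_elems' (hp : p.Prime) (hx : orderOf x = p)
    (hC : Subgroup.centralizer ({x} : Set G) = Subgroup.zpowers x) :
    Nat.card {y : G // orderOf y = p} * p =
      Nat.card {C : ConjClasses G // ∃ g ∈ C.carrier, orderOf g = p} * Nat.card G := by
  classical
  let ψ : {y : G // orderOf y = p} → {C : ConjClasses G // ∃ g ∈ C.carrier, orderOf g = p} :=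
    fun y => ⟨ConjClasses.mk y.1, y.1, ConjClasses.mem_carrier_mk, y.2⟩
  have hfib : ∀ C : {C : ConjClasses G // ∃ g ∈ C.carrier, orderOf g = p},
      Nat.card {y // ψ y = C} * p = Nat.card G := by
    intro C
    obtain ⟨g, hgC, hg⟩ := C.2
    have hmk : ConjClasses.mk g = C.1 := ConjClasses.mem_carrier_iff_mk_eq.1 hgC
    have e : {y // ψ y = C} ≃ (MulAction.orbit (ConjAct G) g) :=
      { toFun := fun y => ⟨y.1.1, by
          rw [ConjAct.mem_orbit_conjAct, ← ConjClasses.mk_eq_mk_iff_isConj, hmk]
          exact congrArg Subtype.val y.2⟩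
        invFun := fun h => ⟨⟨h.1, by
            have h1 : IsConj h.1 g := ConjAct.mem_orbit_conjAct.1 h.2
            obtain ⟨c, hc⟩ := isConj_iff.1 h1
            have h2 := sc_orderOf_conj c h.1
            rw [hc, hg] at h2
            exact h2.symm⟩, by
            apply Subtype.ext
            have h1 : IsConj h.1 g := ConjAct.mem_orbit_conjAct.1 h.2
            change ConjClasses.mk h.1 = C.1
            rw [← hmk, ConjClasses.mk_eq_mk_iff_isConj]
            exact h1⟩
        left_inv := fun y => by ext; rfl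
        right_inv := fun h => by ext; rfl }
    rw [Nat.card_congr e, Nat.card_coe_set_eq, ← MulAction.index_stabilizer]
    have h2 : Nat.card (MulAction.stabilizer (ConjAct G) g) = p := by
      rw [← Subgroup.nat_card_centralizer_nat_card_stabilizer,
        sc_centralizer_of_order hp hx hC g hg, Nat.card_zpowers, hg]
    rw [← h2]
    exact Subgroup.index_mul_card _
  have : Fintype {C : ConjClasses G // ∃ g ∈ C.carrier, orderOf g = p} := Fintype.ofFinite _
  rw [Nat.card_congr (Equiv.sigmaFiberEquiv ψ).symm, Nat.card_sigma, Finset.sum_mul]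
  simp only [hfib, Finset.sum_const, Finset.card_univ, smul_eq_mul, Nat.card_eq_fintype_card]

/-- `|N_G(⟨x⟩)| = p * e` -/
theorem sc_card_normalizer (hx : orderOf x = p) :
    Nat.card (Subgroup.normalizer (Subgroup.zpowers x : Set G)) =
      p * (Subgroup.zpowers x).relIndex (Subgroup.normalizer (Subgroup.zpowers x : Set G)) := by
  have h1 := Subgroup.relIndex_mul_relIndex (⊥ : Subgroup G) (Subgroup.zpowers x)
    (Subgroup.normalizer (Subgroup.zpowers x : Set G)) bot_le Subgroup.le_normalizer
  rw [Subgroup.relIndex_bot_left, Subgroup.relIndex_bot_left, sc_card_zpowers hx] at h1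
  exact h1.symm

/-- the number `t` of classes of elements of order `p` satisfies `t * e = p - 1` -/
theorem sc_class_count (hp : p.Prime) (hx : orderOf x = p)
    (hC : Subgroup.centralizer ({x} : Set G) = Subgroup.zpowers x) :
    Nat.card {C : ConjClasses G // ∃ g ∈ C.carrier, orderOf g = p} *
      (Subgroup.zpowers x).relIndex (Subgroup.normalizer (Subgroup.zpowers x : Set G)) = p - 1 := by
  have h1 := sc_card_order_elems hp hx hC
  have h2 := sc_card_order_elems' hp hx hC
  have h3 := sc_card_normalizer (G := G) hx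
  have h4 := Subgroup.index_mul_card (Subgroup.normalizer (Subgroup.zpowers x : Set G))
  rw [h1, ← h4, h3] at h2
  have hpos : 0 < (Subgroup.normalizer (Subgroup.zpowers x : Set G)).index * p :=
    Nat.mul_pos (Nat.pos_of_ne_zero Subgroup.index_ne_zero_of_finite) hp.pos
  have h5 : (Subgroup.normalizer (Subgroup.zpowers x : Set G)).index * p * (p - 1) =
      (Subgroup.normalizer (Subgroup.zpowers x : Set G)).index * p *
        (Nat.card {C : ConjClasses G // ∃ g ∈ C.carrier, orderOf g = p} *
        (Subgroup.zpowers x).relIndex (Subgroup.normalizer (Subgroup.zpowers x : Set G))) := by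
    rw [mul_right_comm, h2]
    ring
  exact (Nat.eq_of_mul_eq_mul_left hpos h5).symm

/-- Frattini argument for a normal subgroup containing `x` -/
theorem sc_frattini (hp : p.Prime) (hx : orderOf x = p)
    (hC : Subgroup.centralizer ({x} : Set G) = Subgroup.zpowers x)
    (S : Subgroup G) [S.Normal] (h : Subgroup.zpowers x ≤ S) :
    Subgroup.normalizer (Subgroup.zpowers x : Set G) ⊔ S = ⊤ := by
  have := Fact.mk hp
  obtain ⟨P, hP⟩ := sc_exists_sylow hp hx hC
  have hPS' : (P : Subgroup G) ≤ S := hP ▸ h
  have hF : Subgroup.normalizer ((P : Subgroup G) : Set G) ⊔ S = ⊤ :=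
    Sylow.normalizer_sup_eq_top' P hPS'
  rw [hP] at hF
  exact hF

/-- normal `p'`-subgroups lie in the commutator subgroup -/
theorem sc_le_commutator (hp : p.Prime) (hx : orderOf x = p)
    (hC : Subgroup.centralizer ({x} : Set G) = Subgroup.zpowers x)
    (S : Subgroup G) [S.Normal] (hS : ¬ p ∣ Nat.card S) : S ≤ commutator G := by
  intro s hs
  obtain ⟨s', hs', rfl⟩ := sc_exists_comm_eq hp hx hC S hS s hs
  rw [commutator_def]
  have h1 : s' * x * s'⁻¹ * x⁻¹ = ⁅s', x⁆ := (commutatorElement_def s' x).symm
  rw [h1]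
  exact Subgroup.commutator_mem_commutator (Subgroup.mem_top _) (Subgroup.mem_top _)

theorem sc_centralizer_zpowers (hC : Subgroup.centralizer ({x} : Set G) = Subgroup.zpowers x) :
    Subgroup.centralizer (Subgroup.zpowers x : Set G) = Subgroup.zpowers x := by
  calc Subgroup.centralizer (Subgroup.zpowers x : Set G)
      = Subgroup.centralizer ({x} : Set G) := by
        rw [Subgroup.zpowers_eq_closure, Subgroup.centralizer_closure]
    _ = Subgroup.zpowers x := hC

/-- the case `N_G(⟨x⟩) = ⟨x⟩`: the commutator subgroup is a normal `p`-complement -/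
theorem sc_case_one (hp : p.Prime) (hx : orderOf x = p)
    (hC : Subgroup.centralizer ({x} : Set G) = Subgroup.zpowers x)
    (he : (Subgroup.zpowers x).relIndex (Subgroup.normalizer (Subgroup.zpowers x : Set G)) = 1) :
    ¬ p ∣ Nat.card (commutator G) ∧ (commutator G).index = p ∧
      Nat.card (commutator G) = (Subgroup.normalizer (Subgroup.zpowers x : Set G)).index := by
  have := Fact.mk hp
  obtain ⟨P, hP⟩ := sc_exists_sylow hp hx hC
  have hNP : Subgroup.normalizer (Subgroup.zpowers x : Set G) ≤ Subgroup.zpowers x :=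
    Subgroup.relIndex_eq_one.1 he
  have hPset : ((P : Subgroup G) : Set G) = (Subgroup.zpowers x : Set G) := by rw [hP]
  have hPN : Subgroup.normalizer ((P : Subgroup G) : Set G) ≤
      Subgroup.centralizer ((P : Subgroup G) : Set G) := by
    rw [hPset, sc_centralizer_zpowers hC]
    exact hNP
  have hcomp : Subgroup.IsComplement' (MonoidHom.transferSylow P hPN).ker (P : Subgroup G) :=
    MonoidHom.ker_transferSylow_isComplement' P hPN
  have hKp : ¬ p ∣ Nat.card (MonoidHom.transferSylow P hPN).ker :=
    MonoidHom.not_dvd_card_ker_transferSylow P hPN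
  have hKD : (MonoidHom.transferSylow P hPN).ker = commutator G := by
    apply le_antisymm
    · exact sc_le_commutator hp hx hC _ hKp
    · rw [commutator_def, Subgroup.commutator_le]
      intro a _ b _
      rw [MonoidHom.mem_ker, map_commutatorElement, commutatorElement_eq_one_iff_commute]
      have ha : ((MonoidHom.transferSylow P hPN a : (P : Subgroup G)) : G) ∈ Subgroup.zpowers x := by
        rw [← hP]; exact (MonoidHom.transferSylow P hPN a).2
      have hb : ((MonoidHom.transferSylow P hPN b : (P : Subgroup G)) : G) ∈ Subgroup.zpowers x := by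
        rw [← hP]; exact (MonoidHom.transferSylow P hPN b).2
      obtain ⟨i, hi⟩ := Subgroup.mem_zpowers_iff.1 ha
      obtain ⟨j, hj⟩ := Subgroup.mem_zpowers_iff.1 hb
      change MonoidHom.transferSylow P hPN a * MonoidHom.transferSylow P hPN b =
        MonoidHom.transferSylow P hPN b * MonoidHom.transferSylow P hPN a
      apply Subtype.ext
      change ((MonoidHom.transferSylow P hPN a : (P : Subgroup G)) : G) *
          ((MonoidHom.transferSylow P hPN b : (P : Subgroup G)) : G) =
        ((MonoidHom.transferSylow P hPN b : (P : Subgroup G)) : G) *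
          ((MonoidHom.transferSylow P hPN a : (P : Subgroup G)) : G)
      rw [← hi, ← hj, ← zpow_add, ← zpow_add, add_comm]
  rw [← hKD]
  have hcardP : Nat.card (P : Subgroup G) = p := by rw [hP, sc_card_zpowers hx]
  refine ⟨hKp, ?_, ?_⟩
  · rw [hcomp.symm.index_eq_card, hcardP]
  · have h1 : Subgroup.normalizer (Subgroup.zpowers x : Set G) = (P : Subgroup G) := by
      rw [hP]
      exact le_antisymm hNP Subgroup.le_normalizer
    rw [h1, hcomp.index_eq_card]

/-- the case `N_G(⟨x⟩) ≠ ⟨x⟩`: `x` lies in the commutator subgroup, whose index divides `e` -/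
theorem sc_case_ne_one (hp : p.Prime) (hx : orderOf x = p)
    (hC : Subgroup.centralizer ({x} : Set G) = Subgroup.zpowers x)
    (he : (Subgroup.zpowers x).relIndex (Subgroup.normalizer (Subgroup.zpowers x : Set G)) ≠ 1) :
    Subgroup.zpowers x ≤ commutator G ∧ (commutator G).index ∣
      (Subgroup.zpowers x).relIndex (Subgroup.normalizer (Subgroup.zpowers x : Set G)) := by
  have hnot : ¬ Subgroup.normalizer (Subgroup.zpowers x : Set G) ≤ Subgroup.zpowers x :=
    fun h => he (Subgroup.relIndex_eq_one.2 h)
  obtain ⟨n, hnN, hnP⟩ := SetLike.not_le_iff_exists.1 hnot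
  have h1 : n * x * n⁻¹ ∈ Subgroup.zpowers x :=
    (Subgroup.mem_normalizer_iff.1 hnN x).1 (Subgroup.mem_zpowers x)
  have h2 : ⁅n, x⁆ ∈ Subgroup.zpowers x := by
    rw [commutatorElement_def]
    exact Subgroup.mul_mem _ h1 (Subgroup.inv_mem _ (Subgroup.mem_zpowers x))
  have h3 : ⁅n, x⁆ ≠ 1 := by
    intro h
    apply hnP
    rw [← hC, sc_mem_centralizer_iff]
    exact (commutatorElement_eq_one_iff_commute.1 h).eq.symm
  have h4 : Subgroup.zpowers ⁅n, x⁆ = Subgroup.zpowers x := sc_zpowers_eq_of_mem hp hx h2 h3
  have hle : Subgroup.zpowers x ≤ commutator G := by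
    rw [← h4, Subgroup.zpowers_le, commutator_def]
    exact Subgroup.commutator_mem_commutator (Subgroup.mem_top _) (Subgroup.mem_top _)
  refine ⟨hle, ?_⟩
  have hF := sc_frattini hp hx hC (commutator G) hle
  have h5 := Subgroup.relIndex_sup_right (Subgroup.normalizer (Subgroup.zpowers x : Set G))
    (commutator G)
  rw [hF, Subgroup.relIndex_top_right] at h5
  rw [h5]
  exact Subgroup.relIndex_dvd_of_le_left _ hle

end Cfsg.Agent.Helper22
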